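import Cfsg.Agent.BlockChar.CentreFive.OddAut
import Cfsg.Agent.BlockChar.SignCoherence.Main
import Cfsg.Agent.BlockChar.Cyclic.Setup
import Cfsg.Agent.BlockChar.Cyclic.Main
import Cfsg.Agent.BlockChar.CentralQuotient
import Cfsg.Agent.BlockChar.CardBound
import Cfsg.Agent.BlockChar.RankLtCard
import Cfsg.Agent.Blocks.Star.Watanabe
import Cfsg.Agent.BrauerPairs.FirstMain

/-!
# No block with abelian defect group of order eight has five characters and one modular character
-/

set_option autoImplicit false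

namespace Cfsg.Agent.BlockChar.CentreFive

open Cfsg.Agent Cfsg.Agent.Blocks Cfsg.Agent.Blocks.Star Cfsg.Agent.BrauerPairs

universe u

attribute [local instance] Fintype.ofFinite

local notation "CG[" Q "]" => Subgroup.centralizer (SetLike.coe Q)

/-- The order of a preimage under a surjection. -/
theorem card_comap_surjective {T E : Type*} [Group T] [Group E] [Finite T] [Finite E] (f : T →* E)
    (hf : Function.Surjective f) (H : Subgroup E) :
    Nat.card (H.comap f) = Nat.card f.ker * Nat.card H := by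
  have h1 := Subgroup.card_mul_index (H.comap f)
  have h2 := Subgroup.card_mul_index f.ker
  rw [Subgroup.index_comap_of_surjective H hf] at h1
  rw [Subgroup.index_ker, MonoidHom.range_eq_top.2 hf, Subgroup.card_top,
    ← Subgroup.card_mul_index H, ← mul_assoc] at h2
  exact Nat.eq_of_mul_eq_mul_right (Nat.pos_of_ne_zero Subgroup.index_ne_zero_of_finite)
    (h1.trans h2.symm)

variable {G : Type u} [Group G] [Finite G] {p : ℕ} {M : Ideal Cfsg.AlgInt}
  {B : Set (Cfsg.IrrCharacter G)} {P : Subgroup G}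
  {c : Set (Cfsg.IrrCharacter (Subgroup.centralizer (P : Set G)))}

/-- The block of the centralizer of the trivial subgroup has the rank of the block. -/
theorem blockRank_of_bot (hM : Cfsg.IsPModular p M) (hmax : Cfsg.IsMaximalBrauerPair p M B P c)
    {Q : Subgroup G} (hQ : Q = ⊥) {f : Set (Cfsg.IrrCharacter CG[Q])}
    (hf : Cfsg.SubpairLE p M Q f P c) : Cfsg.blockRank p f = Cfsg.blockRank p B := by
  subst hQ
  haveI := Fact.mk hM.1
  have hfB := (BrauerPairs.isBrauerPair_of_subpairLE hmax.1.1 hf).2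
  let φ : CG[(⊥ : Subgroup G)] ≃* G :=
    { toFun := fun z => (z : G)
      invFun := fun g => ⟨g, SignCoherence.mem_CG_bot g⟩
      left_inv := fun _ => rfl
      right_inv := fun _ => rfl
      map_mul' := fun _ _ => rfl }
  have hpair := (isBrauerPairOf_iff_of_subpairLE hM hf B).1 hmax.1
  have hmap : mapBlock φ f = B := by
    have hb := isPBlock_mapBlock φ hfB
    obtain ⟨ξ, hξ⟩ := IsPBlock.nonempty hM hfB
    obtain ⟨ξ', hξ'⟩ : ∃ ξ', ξ' = compIrr φ.symm ξ := ⟨_, rfl⟩
    have hcomp : compIrr φ ξ' = ξ := Subtype.ext (funext fun z => by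
      rw [hξ', compIrr_apply, compIrr_apply, MulEquiv.symm_apply_apply])
    have h1 := hpair.2.2 ξ hξ
    rw [brauerOmega_eq] at h1
    have e : omega (ξ : CG[(⊥ : Subgroup G)] → ℂ)
        (fun z : CG[(⊥ : Subgroup G)] => Cfsg.blockCoeff B (z : G)) =
        omega (ξ' : G → ℂ) (Cfsg.blockCoeff B) := by
      rw [omega, omega, ← hcomp]
      congr 1
      · exact Fintype.sum_equiv φ.toEquiv _ _ fun z => by rw [compIrr_apply]; rfl
    rw [e] at h1
    classical
    rw [omega_blockCoeff] at h1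
    have hmemB : ξ' ∈ B := by
      refine Classical.byContradiction fun hne => not_memLocalIdeal_one hM ?_
      rw [if_neg hne, zero_sub] at h1
      simpa using memLocalIdeal_neg h1
    have hmem' : ξ' ∈ mapBlock φ f := by
      show compIrr φ ξ' ∈ f
      rw [hcomp]; exact hξ
    rw [IsPBlock.eq_blockOf hM hb hmem', IsPBlock.eq_blockOf hM hmax.1.2.1 hmemB]
  rw [← blockRank_mapBlock φ f, hmap]

/-- A local block at a point with trivial stabilizer has rank one. -/
theorem blockRank_of_free_point (hM : Cfsg.IsPModular p M)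
    (hmax : Cfsg.IsMaximalBrauerPair p M B P c) (hab : ∀ x ∈ P, ∀ y ∈ P, x * y = y * x)
    (T : Subgroup G) (hT : ∀ g : G, g ∈ T ↔ BrauerPairs.conjPair g ⟨P, c⟩ = ⟨P, c⟩) {x : G}
    (hx : x ∈ P) (hx1 : x ≠ 1) (hfix : T ⊓ CG[Subgroup.zpowers x] ≤ CG[P])
    {f : Set (Cfsg.IrrCharacter CG[Subgroup.zpowers x])}
    (hf : Cfsg.SubpairLE p M (Subgroup.zpowers x) f P c) : Cfsg.blockRank p f = 1 := by
  haveI := Fact.mk hM.1
  have hQ : Subgroup.zpowers x ≤ P := Subgroup.zpowers_le.2 hx
  have hn := normal_of_le hM hmax hab hf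
  have hPK : P ≤ CG[Subgroup.zpowers x] := le_centralizer_of_abelian hab hQ
  have hCK : CG[P] ≤ CG[Subgroup.zpowers x] := BrauerPairs.centralizer_mono hQ
  have hmaxK := BlockChar.Cyclic.maximal_local hM hmax hn hPK hCK
  set P' := P.subgroupOf CG[Subgroup.zpowers x] with hP'
  set T' := BlockChar.Cyclic.pairStab
    (⟨P', resBlock hPK hCK c⟩ : Cfsg.BrauerPairIdx CG[Subgroup.zpowers x]) with hT'
  have hsub : ∀ g ∈ T', g ∈ CG[P'] := by
    intro g hg
    obtain ⟨hgN, hgst⟩ := (BlockChar.Cyclic.mem_pairStab hM hmaxK.1.1.2 g).1 hg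
    obtain ⟨h1, h2⟩ := BlockChar.Cyclic.stab_of_local_stab hM hmax.1.1.2 hPK hCK hgN hgst
    have hgT : (g : G) ∈ T := (hT _).2 ((conjPair_eq_iff hM hmax.1.1.2 _).2 ⟨h1, h2⟩)
    have hgP : (g : G) ∈ CG[P] := hfix ⟨hgT, g.2⟩
    exact Subgroup.mem_centralizer_iff.2 fun u hu =>
      Subtype.ext (Subgroup.mem_centralizer_iff.1 hgP (u : G) hu)
  have hne : P' ≠ ⊥ := fun h => hx1 (by
    have : (⟨x, hPK hx⟩ : CG[Subgroup.zpowers x]) ∈ P' := hx
    rw [h, Subgroup.mem_bot] at this
    exact congrArg Subtype.val this)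
  obtain ⟨m, -, -, -, hle, -⟩ := SignCoherence.counts hM hmaxK
    (fun a ha b hb => Subtype.ext (hab _ ha _ hb)) hne T' (fun g => Iff.rfl)
    fun g hg _ _ _ _ => hsub g hg
  have h1 : (CG[P']).relIndex T' = 1 := Subgroup.relIndex_eq_one.2 hsub
  rw [h1] at hle
  have := BlockChar.blockRank_pos hM hmaxK.1.2.1
  omega

/-- A local block at a point of an abelian defect group of order eight has rank at most three. -/
theorem blockRank_le_three (hM : Cfsg.IsPModular 2 M)
    (hmax : Cfsg.IsMaximalBrauerPair 2 M B P c) (hab : ∀ x ∈ P, ∀ y ∈ P, x * y = y * x)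
    (h8 : Nat.card P = 8) {x : G} (hx : x ∈ P) (hx1 : x ≠ 1)
    {f : Set (Cfsg.IrrCharacter CG[Subgroup.zpowers x])}
    (hf : Cfsg.SubpairLE 2 M (Subgroup.zpowers x) f P c) : Cfsg.blockRank 2 f ≤ 3 := by
  haveI := Fact.mk hM.1
  have hQ : Subgroup.zpowers x ≤ P := Subgroup.zpowers_le.2 hx
  have hn := normal_of_le hM hmax hab hf
  have hPK : P ≤ CG[Subgroup.zpowers x] := le_centralizer_of_abelian hab hQ
  have hCK : CG[P] ≤ CG[Subgroup.zpowers x] := BrauerPairs.centralizer_mono hQ
  have hmaxK := BlockChar.Cyclic.maximal_local hM hmax hn hPK hCK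
  have hfB := hn.1.2
  have hdef := BlockChar.card_defectGroup hM hfB (isDefectGroup_of_maximal hM hmaxK)
  rw [Nat.card_congr (Subgroup.subgroupOfEquivOfLe hPK).toEquiv, h8,
    show (8 : ℕ) = 2 ^ 3 by norm_num] at hdef
  have hd3 : Cfsg.blockDefect 2 f = 3 := (Nat.pow_right_injective le_rfl hdef).symm
  set z : CG[Subgroup.zpowers x] := ⟨x, hPK hx⟩ with hz
  set N := Subgroup.zpowers z with hN
  have hNc : N ≤ Subgroup.center CG[Subgroup.zpowers x] := by
    rw [hN, Subgroup.zpowers_le, Subgroup.mem_center_iff]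
    exact fun g => Subtype.ext
      (Subgroup.mem_centralizer_iff.1 g.2 x (Subgroup.mem_zpowers x)).symm
  haveI : N.Normal := ⟨fun n hn g => by
    rw [Subgroup.mem_center_iff.1 (hNc hn) g, mul_inv_cancel_right]; exact hn⟩
  have hNp : IsPGroup 2 N := (hmaxK.1.1.1).to_le (by
    rw [hN, Subgroup.zpowers_le]; exact hx)
  obtain ⟨b', hb', hiff, -, hd'⟩ :=
    BlockChar.exists_quotient_block (N := N) hM hNp hNc hfB
  have hfac : 1 ≤ (Nat.card N).factorization 2 := by
    obtain ⟨j, hj⟩ := IsPGroup.iff_card.1 hNp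
    rcases Nat.eq_zero_or_pos j with rfl | hjp
    · rw [pow_zero, Nat.card_zpowers, orderOf_eq_one_iff] at hj
      exact absurd (congrArg Subtype.val hj) hx1
    · rw [hj, Nat.Prime.factorization_pow Nat.prime_two, Finsupp.single_eq_same]
      exact hjp
  have hrk : Cfsg.blockRank 2 f ≤ Cfsg.blockRank 2 b' :=
    BlockChar.blockRank_le_quotient N hM hNp hNc hfB hiff
  obtain ⟨d', hd'e⟩ : ∃ d', Cfsg.blockDefect 2 b' = d' := ⟨_, rfl⟩
  have hd2 : d' ≤ 2 := by omega
  have hcard := (BlockChar.card_le_pow_defect hM d' _ b' hb' hd'e).1 hd2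
  rcases Nat.eq_zero_or_pos d' with h0 | h0
  · subst h0
    have := (blockRank_le_card (p := 2) b').trans hcard
    omega
  · have := BlockChar.blockRank_lt_card hM hb' (hd'e ▸ h0)
    have h4 : 2 ^ d' ≤ 4 := (Nat.pow_le_pow_right two_pos hd2).trans (by norm_num)
    omega

/-- No block with abelian defect group of order eight has rank one and five characters. -/
theorem false_of_abelian_eight (hM : Cfsg.IsPModular 2 M) (hB : Cfsg.IsPBlock M B)
    (hD : Cfsg.IsDefectGroup 2 M B P) (hab : ∀ x ∈ P, ∀ y ∈ P, x * y = y * x)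
    (h8 : Nat.card P = 8) (hl : Cfsg.blockRank 2 B = 1) (hk : Nat.card B = 5) : False := by
  classical
  haveI := Fact.mk hM.1
  obtain ⟨c, hmax⟩ := exists_maximal_on hM hB hD
  set T := BlockChar.Cyclic.pairStab (⟨P, c⟩ : Cfsg.BrauerPairIdx G) with hTdef
  have hT : ∀ g : G, g ∈ T ↔ BrauerPairs.conjPair g ⟨P, c⟩ = ⟨P, c⟩ := fun g => Iff.rfl
  letI : CommGroup P :=
    { (inferInstance : Group P) with mul_comm := fun a b => Subtype.ext (hab a a.2 b b.2) }
  let φ : T →* MulAut P :=
    { toFun := fun t =>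
        { toFun := fun x => ⟨(t : G) * x * (t : G)⁻¹, conj_mem_of_stabilizer (c := c) T hT t.2 x.2⟩
          invFun := fun x => ⟨(t : G)⁻¹ * x * (t : G), by
            simpa using conj_mem_of_stabilizer (c := c) T hT (inv_mem t.2) x.2⟩
          left_inv := fun x => Subtype.ext (by group)
          right_inv := fun x => Subtype.ext (by group)
          map_mul' := fun a b => Subtype.ext (by push_cast; group) }
      map_one' := MulEquiv.ext fun x => Subtype.ext (by simp)
      map_mul' := fun a b => MulEquiv.ext fun x => Subtype.ext (by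
        show ((a * b : T) : G) * x * ((a * b : T) : G)⁻¹ =
          (a : G) * ((b : G) * x * (b : G)⁻¹) * (a : G)⁻¹
        push_cast; group) }
  have hφ : ∀ t x, ((φ t x : P) : G) = (t : G) * x * (t : G)⁻¹ := fun _ _ => rfl
  have hker : φ.ker = (Subgroup.centralizer (P : Set G)).subgroupOf T := by
    ext t
    rw [MonoidHom.mem_ker, Subgroup.mem_subgroupOf, Subgroup.mem_centralizer_iff]
    constructor
    · intro h1 x hx
      have h2 : ((φ t ⟨x, hx⟩ : P) : G) = x := by rw [h1]; rfl
      rw [hφ] at h2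
      exact (mul_inv_eq_iff_eq_mul.1 h2).symm
    · intro h1
      exact MulEquiv.ext fun x => Subtype.ext (by
        rw [hφ, ← h1 x x.2, mul_inv_cancel_right, MulAut.one_apply])
  have hodd : ¬ 2 ∣ Nat.card φ.range := by
    intro hd
    obtain ⟨⟨_, s, rfl⟩, hs⟩ := exists_prime_orderOf_dvd_card' 2 hd
    rw [← Subgroup.orderOf_coe] at hs
    change orderOf (φ s) = 2 at hs
    obtain ⟨n, hn⟩ : ∃ n : ℕ, (s : G) ^ n = pPartOf 2 (s : G) := ⟨_, rfl⟩
    have h1 : φ (s ^ n) = 1 := by
      rw [← MonoidHom.mem_ker, hker, Subgroup.mem_subgroupOf, Subgroup.coe_pow, hn]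
      exact mem_centralizer_of_stabilizer hM hmax hab T hT
        (by rw [← hn]; exact T.pow_mem s.2 n) (orderOf_pPartOf hM.1 (s : G))
    have h2 : φ ((s ^ n)⁻¹ * s) = φ s := by rw [map_mul, map_inv, h1, inv_one, one_mul]
    have h3 : orderOf (φ s) ∣ orderOf ((s ^ n)⁻¹ * s) := h2 ▸ orderOf_map_dvd φ _
    have h4 : (((s ^ n)⁻¹ * s : T) : G) = pPrimePartOf 2 (s : G) := by
      rw [Subgroup.coe_mul, Subgroup.coe_inv, Subgroup.coe_pow, hn]
      nth_rw 2 [← pPartOf_mul_pPrimePartOf hM.1 (s : G)]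
      rw [inv_mul_cancel_left]
    rw [hs, ← Subgroup.orderOf_coe, h4] at h3
    exact not_dvd_orderOf_pPrimePartOf hM.1 _ h3
  -- a point stabilizer is a preimage
  have hcomap : ∀ x : P, (T ⊓ CG[Subgroup.zpowers (x : G)]).subgroupOf T =
      (fix φ.range x).comap φ.rangeRestrict := by
    intro x
    ext t
    rw [Subgroup.mem_subgroupOf, Subgroup.mem_comap, mem_fix]
    constructor
    · intro h
      refine Subtype.ext ?_
      show (t : G) * x * (t : G)⁻¹ = x
      rw [← Subgroup.mem_centralizer_iff.1 h.2 (x : G) (Subgroup.mem_zpowers _),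
        mul_inv_cancel_right]
    · intro h
      refine ⟨t.2, mem_zpowers_centralizer.2 ?_⟩
      have h' := congrArg Subtype.val h
      change (t : G) * x * (t : G)⁻¹ = x at h'
      exact (mul_inv_eq_iff_eq_mul.1 h').symm
  by_cases hfree : ∀ x : P, x ≠ 1 → Nat.card (fix φ.range x) = 1
  · -- free action
    obtain ⟨m, hm1, hm2, -, -, -⟩ := SignCoherence.counts hM hmax hab
      (fun h => by rw [h, Subgroup.card_bot] at h8; omega) T hT fun g hg x hx hx1 hfix => by
        have h1 : φ.rangeRestrict ⟨g, hg⟩ ∈ fix φ.range ⟨x, hx⟩ := (mem_fix _).2 (Subtype.ext hfix)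
        rw [Subgroup.card_eq_one.1 (hfree ⟨x, hx⟩ fun e => hx1 (congrArg Subtype.val e)),
          Subgroup.mem_bot] at h1
        have h2 : (⟨g, hg⟩ : T) ∈ φ.ker := congrArg Subtype.val h1
        rw [hker, Subgroup.mem_subgroupOf] at h2
        exact h2
    rw [hk, hl] at hm1
    obtain rfl : m = 4 := by omega
    rw [h8] at hm2
    omega
  push Not at hfree
  choose bx hbx using fun x : P =>
    (BrauerPairs.existsUnique_subpairLE hM hmax.1.1
      (Subgroup.zpowers_le.2 x.2 : Subgroup.zpowers (x : G) ≤ P)).exists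
  have hCT : CG[P] ≤ T := fun g hg => (hT g).2 (by
    have hgN := Subgroup.centralizer_le_normalizer (P : Set G) hg
    refine idx_ext (map_conj_eq hgN) fun z => ?_
    rw [sbc_conjPair]
    have h1 := BrauerPairs.isInv_sbc c g⁻¹ (inv_mem hg) z
    rwa [inv_inv] at h1)
  have hkN : Nat.card φ.rangeRestrict.ker = Nat.card CG[P] := by
    rw [MonoidHom.ker_rangeRestrict, hker]
    exact Nat.card_congr (Subgroup.subgroupOfEquivOfLe hCT).toEquiv
  have hcard : ∀ x : P, Nat.card (T ⊓ CG[Subgroup.zpowers (x : G)] : Subgroup G) =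
      Nat.card CG[P] * Nat.card (fix φ.range x) := by
    intro x
    rw [← Nat.card_congr (Subgroup.subgroupOfEquivOfLe (inf_le_left :
      T ⊓ CG[Subgroup.zpowers (x : G)] ≤ T)).toEquiv, hcomap x,
      card_comap_surjective _ φ.rangeRestrict_surjective, hkN]
  have hcardT : Nat.card T = Nat.card CG[P] * Nat.card φ.range := by
    have h := card_comap_surjective _ φ.rangeRestrict_surjective ⊤
    rwa [Subgroup.comap_top, Subgroup.card_top, Subgroup.card_top, hkN] at h
  have hN0 : (Nat.card CG[P] : ℂ) ≠ 0 := Nat.cast_ne_zero.2 Nat.card_pos.ne'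
  refine false_of_not_free φ.range h8 hodd (fun x => Cfsg.blockRank 2 (bx x)) ?_ ?_ ?_ ?_ hfree
  · exact (blockRank_of_bot hM hmax (Subgroup.zpowers_eq_bot.2 rfl) (hbx 1)).trans hl
  · intro x hx hx1
    refine blockRank_of_free_point hM hmax hab T hT x.2 (fun e => hx (Subtype.ext e)) ?_ (hbx x)
    intro g hg
    have h1 : φ.rangeRestrict ⟨g, hg.1⟩ ∈ fix φ.range x := by
      have : (⟨g, hg.1⟩ : T) ∈ (T ⊓ CG[Subgroup.zpowers (x : G)]).subgroupOf T := hg
      rw [hcomap x] at this
      exact this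
    rw [Subgroup.card_eq_one.1 hx1, Subgroup.mem_bot] at h1
    have h2 : (⟨g, hg.1⟩ : T) ∈ φ.ker := congrArg Subtype.val h1
    rw [hker, Subgroup.mem_subgroupOf] at h2
    exact h2
  · intro x hx
    exact blockRank_le_three hM hmax hab h8 x.2 (fun e => hx (Subtype.ext e)) (hbx x)
  · intro χ hχ
    have hf := abelian_trace_formula hM hmax hab T hT χ
      (fun t ht x y h => by
        have e : φ ⟨t, ht⟩ x = y := Subtype.ext h.symm
        rw [← e]
        exact hχ _ ⟨_, rfl⟩ x) bx hbx
    refine mul_left_cancel₀ hN0 ?_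
    rw [Finset.mul_sum]
    refine Eq.trans (Finset.sum_congr (by ext; simp) fun x _ => ?_) (hf.trans ?_)
    · rw [hcard x]; push_cast; ring
    · rw [hcardT, hk]
      split_ifs with h1
      · push_cast; ring
      · rw [mul_zero]

end Cfsg.Agent.BlockChar.CentreFive
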