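import Cfsg.Agent.Blocks.Dihedral.AlgFive

/-!
# Local symmetric algebras: powers of the radical

The radical of a local symmetric algebra is described by a space `J` closed under products with
`J ^ (m + 1) = ⊥`.  Once two elements span one layer `J ^ i` modulo the next (`i = 2, 3`), the same
holds for all later layers.
-/

set_option autoImplicit false

namespace Cfsg.Agent.BlockChar.CentreFive

open Module

variable {k B : Type*} [Field k] [Ring B] [Algebra k B]

/-- The span of the commutators. -/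
abbrev comm (J : Submodule k B) : Submodule k B := Blocks.Dihedral.commSpan J

/-- The radical of a local symmetric algebra whose space of traces has dimension at most five. -/
structure Loc (τ : B →ₗ[k] k) (J : Submodule k B) (m : ℕ) : Prop where
  symm : ∀ a b : B, τ (a * b) = τ (b * a)
  mul : J * J ≤ J
  top : J ^ m ≠ ⊥
  bot : J ^ (m + 1) = ⊥
  pos : 1 ≤ m
  form : ∀ W ≤ J, (∀ x ∈ J, ∀ w ∈ W, x * w ∈ W) → (∀ w ∈ W, τ w = 0) → W = ⊥
  codim : finrank k J ≤ finrank k (comm J) + 4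

/-- Two elements span the layer `i`. -/
def Two (J : Submodule k B) (i : ℕ) : Prop :=
  ∃ u v : B, J ^ i ≤ Submodule.span k {u, v} ⊔ J ^ (i + 1)

theorem mem_span_pair_sup {T : Submodule k B} {u v x : B} :
    x ∈ Submodule.span k {u, v} ⊔ T ↔ ∃ r s : k, x - r • u - s • v ∈ T := by
  constructor
  · intro h
    obtain ⟨y, hy, t, ht, rfl⟩ := Submodule.mem_sup.1 h
    obtain ⟨r, s, rfl⟩ := Submodule.mem_span_pair.1 hy
    exact ⟨r, s, by rwa [show r • u + s • v + t - r • u - s • v = t by abel]⟩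
  · rintro ⟨r, s, h⟩
    rw [show x = (r • u + s • v) + (x - r • u - s • v) by abel]
    exact Submodule.add_mem_sup (Submodule.mem_span_pair.2 ⟨r, s, rfl⟩) h

variable {τ : B →ₗ[k] k} {J : Submodule k B} {m : ℕ}

namespace Loc

theorem mem_one {x : B} (hx : x ∈ J) : x ∈ J ^ 1 := by rwa [pow_one]

theorem anti (h : Loc τ J m) {i j : ℕ} (hi : 1 ≤ i) (hij : i ≤ j) : J ^ j ≤ J ^ i :=
  Blocks.Dihedral.pow_antitone J h.mul hi hij

theorem le_self (h : Loc τ J m) {i : ℕ} (hi : 1 ≤ i) : J ^ i ≤ J := by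
  simpa using h.anti le_rfl hi

theorem mul_mem {i j l : ℕ} {x y : B} (hl : i + j = l) (hx : x ∈ J ^ i) (hy : y ∈ J ^ j) :
    x * y ∈ J ^ l :=
  Blocks.Dihedral.mul_mem_pow J hl hx hy

theorem eq_zero (h : Loc τ J m) {i : ℕ} (hi : m < i) {x : B} (hx : x ∈ J ^ i) : x = 0 := by
  have := h.anti (Nat.succ_pos m) hi hx
  rwa [h.bot, Submodule.mem_bot] at this

theorem le_top (h : Loc τ J m) {i : ℕ} (hi : 1 ≤ i) (hne : J ^ i ≠ ⊥) : i ≤ m := by
  by_contra hlt
  exact hne ((Submodule.eq_bot_iff _).2 fun x hx => h.eq_zero (by omega) hx)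

theorem ne_bot (h : Loc τ J m) {i : ℕ} (hi : 1 ≤ i) (him : i ≤ m) : J ^ i ≠ ⊥ := fun e =>
  h.top (le_bot_iff.1 ((h.anti hi him).trans e.le))

theorem not_le_succ (h : Loc τ J m) {i : ℕ} (hi : 1 ≤ i) (him : i ≤ m) : ¬ J ^ i ≤ J ^ (i + 1) :=
  fun hle => h.ne_bot hi him (Blocks.Dihedral.pow_eq_bot_of_le J h.mul h.bot hi hle)

/-- The form is injective on the last layer. -/
theorem top_inj (h : Loc τ J m) {s : B} (hs : s ∈ J ^ m) (hτs : τ s = 0) : s = 0 := by
  have : J ^ m ⊓ LinearMap.ker τ = ⊥ := by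
    refine h.form _ (inf_le_left.trans (h.le_self h.pos)) (fun x hx w hw => ?_) fun w hw => hw.2
    rw [h.eq_zero (Nat.lt_succ_self m) (mul_mem (i := 1) (by omega) (mem_one hx) hw.1)]
    exact Submodule.zero_mem _
  rw [← Submodule.mem_bot k, ← this]
  exact ⟨hs, hτs⟩

theorem trace_comm (h : Loc τ J m) {w : B} (hw : w ∈ comm J) : τ w = 0 := by
  induction hw using Submodule.span_induction with
  | mem v hv => obtain ⟨x, -, y, -, rfl⟩ := hv; rw [map_sub, h.symm, sub_self]
  | zero => simp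
  | add v v' _ _ h1 h2 => rw [map_add, h1, h2, add_zero]
  | smul r v _ h1 => rw [map_smul, h1, smul_zero]

theorem comm_inf_top (h : Loc τ J m) : comm J ⊓ J ^ m = ⊥ :=
  (Submodule.eq_bot_iff _).2 fun _ hx => h.top_inj hx.2 (h.trace_comm hx.1)

theorem finrank_comm_sup_top [FiniteDimensional k B] (h : Loc τ J m) :
    finrank k (comm J) + 1 ≤ finrank k (comm J ⊔ J ^ m : Submodule k B) := by
  have := Submodule.finrank_sup_add_finrank_inf_eq (comm J) (J ^ m)
  rw [h.comm_inf_top, finrank_bot] at this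
  have := Submodule.one_le_finrank_iff.2 h.top
  omega

theorem finrank_top_le [FiniteDimensional k B] (h : Loc τ J m) : finrank k (J ^ m : Submodule k B) ≤ 1 := by
  have hinj : Function.Injective (τ.comp (J ^ m).subtype) :=
    (injective_iff_map_eq_zero _).2 fun x hx => Subtype.ext (h.top_inj x.2 hx)
  simpa using LinearMap.finrank_le_finrank_of_injective hinj

theorem finrank_two_le [FiniteDimensional k B] {i : ℕ} (h2 : Two J i) :
    finrank k (J ^ i : Submodule k B) ≤ finrank k (J ^ (i + 1) : Submodule k B) + 2 := by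
  classical
  obtain ⟨u, v, huv⟩ := h2
  refine (Submodule.finrank_mono huv).trans
    ((Submodule.finrank_add_le_finrank_add_finrank _ _).trans ?_)
  have h : finrank k (Submodule.span k ({u, v} : Set B)) ≤ 2 :=
    (finrank_span_le_card ({u, v} : Set B)).trans (by
      simpa using (Finset.card_insert_le u {v}))
  omega

end Loc

/-- A two-element layer followed by a left step gives a two-element layer. -/
theorem two_of_left {a : B} (ha : a ∈ J) {i : ℕ} (h2 : Two J i)
    (hs : J ^ (i + 1) ≤ Submodule.map (LinearMap.mulLeft k a) (J ^ i) ⊔ J ^ (i + 2)) :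
    Two J (i + 1) := by
  obtain ⟨u, v, huv⟩ := h2
  refine ⟨a * u, a * v, hs.trans (sup_le ?_ le_sup_right)⟩
  rintro _ ⟨x, hx, rfl⟩
  obtain ⟨r, s, hrs⟩ := mem_span_pair_sup.1 (huv hx)
  refine mem_span_pair_sup.2 ⟨r, s, ?_⟩
  rw [LinearMap.mulLeft_apply, ← mul_smul_comm, ← mul_smul_comm, ← mul_sub, ← mul_sub]
  exact Loc.mul_mem (i := 1) (by omega) (Loc.mem_one ha) hrs

/-- A two-element layer followed by a right step gives a two-element layer. -/
theorem two_of_right {a : B} (ha : a ∈ J) {i : ℕ} (h2 : Two J i)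
    (hs : J ^ (i + 1) ≤ Submodule.map (LinearMap.mulRight k a) (J ^ i) ⊔ J ^ (i + 2)) :
    Two J (i + 1) := by
  obtain ⟨u, v, huv⟩ := h2
  refine ⟨u * a, v * a, hs.trans (sup_le ?_ le_sup_right)⟩
  rintro _ ⟨x, hx, rfl⟩
  obtain ⟨r, s, hrs⟩ := mem_span_pair_sup.1 (huv hx)
  refine mem_span_pair_sup.2 ⟨r, s, ?_⟩
  rw [LinearMap.mulRight_apply, ← smul_mul_assoc, ← smul_mul_assoc, ← sub_mul, ← sub_mul]
  exact Loc.mul_mem (j := 1) (by omega) hrs (Loc.mem_one ha)

theorem left_succ {a : B} {i : ℕ}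
    (hs : J ^ (i + 1) ≤ Submodule.map (LinearMap.mulLeft k a) (J ^ i) ⊔ J ^ (i + 2)) :
    J ^ (i + 1 + 1) ≤ Submodule.map (LinearMap.mulLeft k a) (J ^ (i + 1)) ⊔ J ^ (i + 1 + 2) := by
  rw [pow_succ J (i + 1)]
  refine (mul_le_mul' hs le_rfl).trans ?_
  rw [Submodule.sup_mul]
  refine sup_le_sup (Submodule.mul_le.2 ?_) (pow_succ J (i + 2)).ge
  rintro _ ⟨x, hx, rfl⟩ y hy
  exact ⟨x * y, Loc.mul_mem (j := 1) rfl hx (Loc.mem_one hy), by simp [mul_assoc]⟩

theorem right_succ {a : B} {i : ℕ}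
    (hs : J ^ (i + 1) ≤ Submodule.map (LinearMap.mulRight k a) (J ^ i) ⊔ J ^ (i + 2)) :
    J ^ (i + 1 + 1) ≤ Submodule.map (LinearMap.mulRight k a) (J ^ (i + 1)) ⊔ J ^ (i + 1 + 2) := by
  rw [pow_succ' J (i + 1)]
  refine (mul_le_mul' le_rfl hs).trans ?_
  rw [Submodule.mul_sup]
  refine sup_le_sup (Submodule.mul_le.2 ?_) (pow_succ' J (i + 2)).ge
  rintro y hy _ ⟨x, hx, rfl⟩
  exact ⟨y * x, Loc.mul_mem (i := 1) (by omega) (Loc.mem_one hy) hx, by simp [mul_assoc]⟩

theorem two_stays_left {a : B} (ha : a ∈ J) {i : ℕ} (h2 : Two J i)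
    (hs : J ^ (i + 1) ≤ Submodule.map (LinearMap.mulLeft k a) (J ^ i) ⊔ J ^ (i + 2)) :
    ∀ j, i ≤ j → Two J j := by
  intro j hj
  suffices Two J j ∧
      J ^ (j + 1) ≤ Submodule.map (LinearMap.mulLeft k a) (J ^ j) ⊔ J ^ (j + 2) from this.1
  induction j, hj using Nat.le_induction with
  | base => exact ⟨h2, hs⟩
  | succ j _ ih => exact ⟨two_of_left ha ih.1 ih.2, left_succ ih.2⟩

theorem two_stays_right {a : B} (ha : a ∈ J) {i : ℕ} (h2 : Two J i)
    (hs : J ^ (i + 1) ≤ Submodule.map (LinearMap.mulRight k a) (J ^ i) ⊔ J ^ (i + 2)) :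
    ∀ j, i ≤ j → Two J j := by
  intro j hj
  suffices Two J j ∧
      J ^ (j + 1) ≤ Submodule.map (LinearMap.mulRight k a) (J ^ j) ⊔ J ^ (j + 2) from this.1
  induction j, hj using Nat.le_induction with
  | base => exact ⟨h2, hs⟩
  | succ j _ ih => exact ⟨two_of_right ha ih.1 ih.2, right_succ ih.2⟩

/-- A bilinear map spanning a space of dimension at most two is onto at a fixed left argument, or
its left radical has codimension one. -/
theorem bilin_dichotomy {V W U : Type*} [AddCommGroup V] [Module k V] [AddCommGroup W] [Module k W]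
    [AddCommGroup U] [Module k U] [FiniteDimensional k U] (μ : V →ₗ[k] W →ₗ[k] U)
    (h2 : finrank k U ≤ 2) (hspan : ∀ Y : Submodule k U, (∀ a r, μ a r ∈ Y) → Y = ⊤) :
    (∃ a, LinearMap.range (μ a) = ⊤) ∨ ∃ r, ∀ h, ∃ c : k, ∀ e, μ e (h - c • r) = 0 := by
  classical
  by_cases hsur : ∃ a, LinearMap.range (μ a) = ⊤
  · exact Or.inl hsur
  push Not at hsur
  refine Or.inr ?_
  have hline : ∀ a, finrank k (LinearMap.range (μ a)) ≤ 1 := fun a => by
    have := Submodule.finrank_lt (hsur a)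
    omega
  have hprop : ∀ a, ∀ h h', μ a h ≠ 0 → ∃ c : k, μ a h' = c • μ a h := fun a h h' hne => by
    have e : Submodule.span k {μ a h} = LinearMap.range (μ a) :=
      Submodule.eq_of_le_of_finrank_le ((Submodule.span_singleton_le_iff_mem _ _).2 ⟨h, rfl⟩)
        (by rw [finrank_span_singleton hne]; exact hline a)
    have hmem : μ a h' ∈ Submodule.span k {μ a h} := e ▸ ⟨h', rfl⟩
    obtain ⟨c, hc⟩ := Submodule.mem_span_singleton.1 hmem
    exact ⟨c, hc.symm⟩
  obtain ⟨a, r, har⟩ : ∃ a r, μ a r ≠ 0 := by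
    by_contra hall
    push Not at hall
    have htop := hspan ⊥ fun a r => by simp [hall a r]
    exact hsur 0 (top_le_iff.1 (htop ▸ bot_le))
  set u := μ a r with hu
  obtain ⟨b, r', hbr⟩ : ∃ b r', μ b r' ∉ Submodule.span k {u} := by
    by_contra hall
    push Not at hall
    have htop := hspan _ hall
    refine hsur a (top_le_iff.1 (htop ▸ ?_))
    exact (Submodule.span_singleton_le_iff_mem _ _).2 ⟨r, rfl⟩
  set v := μ b r' with hv
  have hv0 : v ≠ 0 := fun e => hbr (e ▸ Submodule.zero_mem _)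
  have hind : ∀ c d : k, c • u + d • v = 0 → c = 0 ∧ d = 0 := by
    intro c d he
    have hd : d = 0 := by
      by_contra hd
      refine hbr (Submodule.mem_span_singleton.2 ⟨-(d⁻¹ * c), ?_⟩)
      have h' := congrArg (fun z => d⁻¹ • z) he
      simp only [smul_add, smul_smul, inv_mul_cancel₀ hd, one_smul, smul_zero] at h'
      rw [neg_smul, neg_eq_iff_add_eq_zero, h']
    subst hd
    rw [zero_smul, add_zero, smul_eq_zero] at he
    exact ⟨he.resolve_right har, rfl⟩
  choose α hα using fun h => hprop a r h har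
  choose β hβ using fun h => hprop b r' h hv0
  have hab : ∀ h, β h = β r * α h := by
    intro h
    have e1 : μ (a + b) r = u + β r • v := by
      rw [map_add, LinearMap.add_apply, hβ r]
    have hne : μ (a + b) r ≠ 0 := fun e0 => by
      rw [e1, ← one_smul k u] at e0
      exact one_ne_zero (hind _ _ e0).1
    obtain ⟨c, hc⟩ := hprop (a + b) r h hne
    rw [e1, map_add, LinearMap.add_apply, hα h, hβ h, ← hu, ← hv, smul_add, smul_smul] at hc
    have h0 : (α h - c) • u + (β h - c * β r) • v = 0 := by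
      have e := sub_eq_zero.2 hc
      rw [← e, sub_smul, sub_smul]
      abel
    obtain ⟨h1, h2⟩ := hind _ _ h0
    rw [sub_eq_zero] at h1 h2
    rw [h2, h1, mul_comm]
  have hβr : β r ≠ 0 := fun h0 => by
    have e := hβ r'
    rw [hab r', h0, zero_mul, zero_smul] at e
    exact hv0 e
  refine ⟨r, fun h => ⟨α h, fun e => ?_⟩⟩
  by_contra hw
  set h₀ := h - α h • r with hh₀
  have hah : μ a h₀ = 0 := by rw [hh₀, map_sub, map_smul, hα h, sub_self]
  have hbh : μ b h₀ = 0 := by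
    rw [hh₀, map_sub, map_smul, hβ h, hβ r, hab h, smul_smul, mul_comm, sub_self]
  have key : ∀ x, μ x h₀ = 0 → ∃ c : k, μ x r = c • μ e h₀ := fun x hx => by
    obtain ⟨c, hc⟩ := hprop (e + x) h₀ r (by rwa [map_add, LinearMap.add_apply, hx, add_zero])
    obtain ⟨c', hc'⟩ := hprop e h₀ r hw
    rw [map_add, LinearMap.add_apply, LinearMap.add_apply, hx, add_zero, hc'] at hc
    exact ⟨c - c', by rw [sub_smul, ← hc]; abel⟩
  obtain ⟨c, hc⟩ := key a hah
  obtain ⟨d, hd⟩ := key b hbh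
  rw [← hu] at hc
  rw [hβ r, ← hv] at hd
  have h0 : d • u + (-(c * β r)) • v = 0 := by
    rw [hc, neg_smul, mul_smul, hd]
    simp [smul_smul, mul_comm]
  exact hβr ((mul_eq_zero.1 (neg_eq_zero.1 (hind _ _ h0).2)).resolve_left fun hc0 => har (by
    rw [hc, hc0, zero_smul]))

/-- Either one left factor gives the next layer, or the left action has a radical of codimension
one. -/
theorem left_step_or_degenerate [FiniteDimensional k B] {i : ℕ} (h2 : Two J (i + 1)) :
    (∃ a ∈ J, J ^ (i + 1) ≤ Submodule.map (LinearMap.mulLeft k a) (J ^ i) ⊔ J ^ (i + 2)) ∨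
    ∃ r ∈ J ^ i, ∀ h ∈ J ^ i, ∃ c : k, ∀ e ∈ J, e * (h - c • r) ∈ J ^ (i + 2) := by
  classical
  obtain ⟨u, v, huv⟩ := h2
  let q := (J ^ (i + 2)).mkQ
  let U := (J ^ (i + 1)).map q
  have hU : finrank k U ≤ 2 := by
    have hle : U ≤ Submodule.span k {q u, q v} := by
      rintro _ ⟨x, hx, rfl⟩
      obtain ⟨r, s, h⟩ := mem_span_pair_sup.1 (huv hx)
      refine Submodule.mem_span_pair.2 ⟨r, s, ?_⟩
      rw [← map_smul, ← map_smul, ← map_add, Submodule.mkQ_apply, Submodule.mkQ_apply,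
        Submodule.Quotient.eq]
      simpa [sub_sub] using (J ^ (i + 2)).neg_mem h
    refine (Submodule.finrank_mono hle).trans ((finrank_span_le_card _).trans ?_)
    simpa using Finset.card_insert_le (q u) {q v}
  have hm : ∀ (a : J) (r : (J ^ i : Submodule k B)), q ((a : B) * r) ∈ U := fun a r =>
    ⟨_, Loc.mul_mem (by omega) (Loc.mem_one a.2) r.2, rfl⟩
  let μ : J →ₗ[k] (J ^ i : Submodule k B) →ₗ[k] U :=
    LinearMap.mk₂ k (fun a r => (⟨q ((a : B) * r), hm a r⟩ : U))
      (fun a a' r => Subtype.ext (by simp [add_mul]))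
      (fun c a r => Subtype.ext (by simp))
      (fun a r r' => Subtype.ext (by simp [mul_add]))
      (fun c a r => Subtype.ext (by simp))
  have hμ : ∀ a r, ((μ a r : U) : B ⧸ J ^ (i + 2)) = q ((a : B) * r) := fun _ _ => rfl
  rcases bilin_dichotomy μ hU (fun Y hY => by
    rw [eq_top_iff]
    rintro ⟨_, x, hx, rfl⟩ -
    suffices H : ∀ x ∈ J ^ (i + 1), ∃ z ∈ Y, ((z : U) : B ⧸ J ^ (i + 2)) = q x by
      obtain ⟨z, hz, e⟩ := H x hx
      convert hz
      exact Subtype.ext e.symm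
    intro x hx
    rw [pow_succ'] at hx
    induction hx using Submodule.mul_induction_on' with
    | mem_mul_mem p hp r hr => exact ⟨μ ⟨p, hp⟩ ⟨r, hr⟩, hY _ _, rfl⟩
    | add x _ y _ hx hy =>
      obtain ⟨z, hz, ez⟩ := hx
      obtain ⟨z', hz', ez'⟩ := hy
      exact ⟨z + z', Y.add_mem hz hz', by rw [Submodule.coe_add, ez, ez', map_add]⟩) with
    ⟨a, ha⟩ | ⟨r, hr⟩
  · refine Or.inl ⟨a, a.2, fun x hx => ?_⟩
    obtain ⟨y, hy⟩ := (LinearMap.range_eq_top.1 ha) ⟨q x, x, hx, rfl⟩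
    have he : q ((a : B) * y) = q x := (hμ a y).symm.trans (congrArg Subtype.val hy)
    rw [Submodule.mkQ_apply, Submodule.mkQ_apply, Submodule.Quotient.eq] at he
    rw [show x = (a : B) * y + -((a : B) * y - x) by abel]
    exact Submodule.add_mem_sup ⟨y, y.2, rfl⟩ ((J ^ (i + 2)).neg_mem he)
  · refine Or.inr ⟨r, r.2, fun h hh => ?_⟩
    obtain ⟨c, hc⟩ := hr ⟨h, hh⟩
    refine ⟨c, fun e he => ?_⟩
    have h0 := congrArg Subtype.val (hc ⟨e, he⟩)
    rw [hμ, ZeroMemClass.coe_zero, Submodule.mkQ_apply, Submodule.Quotient.mk_eq_zero] at h0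
    simpa using h0

/-- Either one right factor gives the next layer, or the right action has a radical of codimension
one. -/
theorem right_step_or_degenerate [FiniteDimensional k B] {i : ℕ} (h2 : Two J (i + 1)) :
    (∃ a ∈ J, J ^ (i + 1) ≤ Submodule.map (LinearMap.mulRight k a) (J ^ i) ⊔ J ^ (i + 2)) ∨
    ∃ r ∈ J ^ i, ∀ h ∈ J ^ i, ∃ c : k, ∀ e ∈ J, (h - c • r) * e ∈ J ^ (i + 2) := by
  classical
  obtain ⟨u, v, huv⟩ := h2
  let q := (J ^ (i + 2)).mkQ
  let U := (J ^ (i + 1)).map q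
  have hU : finrank k U ≤ 2 := by
    have hle : U ≤ Submodule.span k {q u, q v} := by
      rintro _ ⟨x, hx, rfl⟩
      obtain ⟨r, s, h⟩ := mem_span_pair_sup.1 (huv hx)
      refine Submodule.mem_span_pair.2 ⟨r, s, ?_⟩
      rw [← map_smul, ← map_smul, ← map_add, Submodule.mkQ_apply, Submodule.mkQ_apply,
        Submodule.Quotient.eq]
      simpa [sub_sub] using (J ^ (i + 2)).neg_mem h
    refine (Submodule.finrank_mono hle).trans ((finrank_span_le_card _).trans ?_)
    simpa using Finset.card_insert_le (q u) {q v}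
  have hm : ∀ (a : J) (r : (J ^ i : Submodule k B)), q ((r : B) * a) ∈ U := fun a r =>
    ⟨_, Loc.mul_mem rfl r.2 (Loc.mem_one a.2), rfl⟩
  let μ : J →ₗ[k] (J ^ i : Submodule k B) →ₗ[k] U :=
    LinearMap.mk₂ k (fun a r => (⟨q ((r : B) * a), hm a r⟩ : U))
      (fun a a' r => Subtype.ext (by simp [mul_add]))
      (fun c a r => Subtype.ext (by simp))
      (fun a r r' => Subtype.ext (by simp [add_mul]))
      (fun c a r => Subtype.ext (by simp))
  have hμ : ∀ a r, ((μ a r : U) : B ⧸ J ^ (i + 2)) = q ((r : B) * a) := fun _ _ => rfl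
  rcases bilin_dichotomy μ hU (fun Y hY => by
    rw [eq_top_iff]
    rintro ⟨_, x, hx, rfl⟩ -
    suffices H : ∀ x ∈ J ^ (i + 1), ∃ z ∈ Y, ((z : U) : B ⧸ J ^ (i + 2)) = q x by
      obtain ⟨z, hz, e⟩ := H x hx
      convert hz
      exact Subtype.ext e.symm
    intro x hx
    rw [pow_succ] at hx
    induction hx using Submodule.mul_induction_on' with
    | mem_mul_mem r hr p hp => exact ⟨μ ⟨p, hp⟩ ⟨r, hr⟩, hY _ _, rfl⟩
    | add x _ y _ hx hy =>
      obtain ⟨z, hz, ez⟩ := hx
      obtain ⟨z', hz', ez'⟩ := hy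
      exact ⟨z + z', Y.add_mem hz hz', by rw [Submodule.coe_add, ez, ez', map_add]⟩) with
    ⟨a, ha⟩ | ⟨r, hr⟩
  · refine Or.inl ⟨a, a.2, fun x hx => ?_⟩
    obtain ⟨y, hy⟩ := (LinearMap.range_eq_top.1 ha) ⟨q x, x, hx, rfl⟩
    have he : q ((y : B) * a) = q x := (hμ a y).symm.trans (congrArg Subtype.val hy)
    rw [Submodule.mkQ_apply, Submodule.mkQ_apply, Submodule.Quotient.eq] at he
    rw [show x = (y : B) * a + -((y : B) * a - x) by abel]
    exact Submodule.add_mem_sup ⟨y, y.2, rfl⟩ ((J ^ (i + 2)).neg_mem he)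
  · refine Or.inr ⟨r, r.2, fun h hh => ?_⟩
    obtain ⟨c, hc⟩ := hr ⟨h, hh⟩
    refine ⟨c, fun e he => ?_⟩
    have h0 := congrArg Subtype.val (hc ⟨e, he⟩)
    rw [hμ, ZeroMemClass.coe_zero, Submodule.mkQ_apply, Submodule.Quotient.mk_eq_zero] at h0
    simpa using h0

/-- Two elements spanning the square modulo the cube make every later layer two-element. -/
theorem two_stays_two [FiniteDimensional k B] (h2 : Two J 2) : ∀ j, 2 ≤ j → Two J j := by
  rcases left_step_or_degenerate (i := 1) h2 with ⟨a, ha, hs⟩ | ⟨r, hr, hdeg⟩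
  · exact two_stays_left ha h2 (left_succ hs)
  · rw [pow_one] at hr
    refine two_stays_right hr h2 (right_succ (i := 1) ?_)
    rw [pow_succ' J 1, Submodule.mul_le]
    intro e he h hh
    obtain ⟨c, hc⟩ := hdeg h hh
    rw [show e * h = (c • e) * r + e * (h - c • r) by
      rw [mul_sub, smul_mul_assoc, mul_smul_comm]; abel]
    exact Submodule.add_mem_sup ⟨c • e, Loc.mem_one (J.smul_mem _ he), rfl⟩ (hc e he)

/-- Two elements spanning the cube modulo the fourth power make every later layer two-element. -/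
theorem two_stays_three [FiniteDimensional k B] (h3 : Two J 3) :
    ∀ j, 3 ≤ j → Two J j := by
  rcases left_step_or_degenerate (i := 2) h3 with ⟨a, ha, hs⟩ | ⟨r, hr, hr'⟩
  · exact two_stays_left ha h3 (left_succ hs)
  rcases right_step_or_degenerate (i := 2) h3 with ⟨a, ha, hs⟩ | ⟨s, hs, hs'⟩
  · exact two_stays_right ha h3 (right_succ hs)
  -- the fourth layer is spanned by one product
  have h4 : J ^ 4 ≤ Submodule.span k {s * r} ⊔ J ^ 5 := by
    rw [show (4 : ℕ) = 2 + 2 from rfl, pow_add, Submodule.mul_le]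
    intro x hx y hy
    obtain ⟨c, hc⟩ := hs' x hx
    obtain ⟨d, hd⟩ := hr' y hy
    have key1 : J ^ 2 ≤ Submodule.comap (LinearMap.mulLeft k (x - c • s)) (J ^ 5) := by
      rw [pow_two, Submodule.mul_le]
      intro p hp q hq
      rw [Submodule.mem_comap, LinearMap.mulLeft_apply, ← mul_assoc]
      exact Loc.mul_mem (j := 1) rfl (hc p hp) (Loc.mem_one hq)
    have key2 : J ^ 2 ≤ Submodule.comap (LinearMap.mulRight k (y - d • r)) (J ^ 5) := by
      rw [pow_two, Submodule.mul_le]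
      intro p hp q hq
      rw [Submodule.mem_comap, LinearMap.mulRight_apply, mul_assoc]
      exact Loc.mul_mem (i := 1) (j := 4) rfl (Loc.mem_one hp) (hd q hq)
    rw [show x * y = (c * d) • (s * r) + ((x - c • s) * y + c • (s * (y - d • r))) by
      simp only [sub_mul, mul_sub, smul_sub, smul_mul_assoc, mul_smul_comm, smul_smul]; abel]
    exact Submodule.add_mem_sup (Submodule.smul_mem _ _ (Submodule.mem_span_singleton_self _))
      (Submodule.add_mem _ (key1 hy) (Submodule.smul_mem _ _ (key2 hs)))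
  obtain ⟨a, ha, hstep⟩ :
      ∃ a ∈ J, J ^ (3 + 1) ≤ Submodule.map (LinearMap.mulLeft k a) (J ^ 3) ⊔ J ^ (3 + 2) := by
    by_cases hle : J ^ 4 ≤ J ^ 5
    · exact ⟨0, J.zero_mem, hle.trans le_sup_right⟩
    obtain ⟨a, ha, y, hy, hay⟩ : ∃ a ∈ J, ∃ y ∈ J ^ 3, a * y ∉ J ^ 5 := by
      by_contra hall
      push Not at hall
      refine hle ?_
      rw [pow_succ' J 3, Submodule.mul_le]
      exact hall
    refine ⟨a, ha, fun x hx => ?_⟩
    obtain ⟨t, ht⟩ := Blocks.Dihedral.mem_span_singleton_sup.1 (h4 hx)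
    obtain ⟨t', ht'⟩ := Blocks.Dihedral.mem_span_singleton_sup.1
      (h4 (Loc.mul_mem (i := 1) rfl (Loc.mem_one ha) hy))
    have ht0 : t' ≠ 0 := fun e => hay (by simpa [e] using ht')
    have e : x = a * ((t * t'⁻¹) • y) + ((x - t • (s * r)) - (t * t'⁻¹) • (a * y - t' • (s * r))) := by
      rw [mul_smul_comm, smul_sub, smul_smul, mul_assoc, inv_mul_cancel₀ ht0, mul_one]
      abel
    rw [e]
    exact Submodule.add_mem_sup ⟨_, (J ^ 3).smul_mem _ hy, rfl⟩
      (Submodule.sub_mem _ ht (Submodule.smul_mem _ _ ht'))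
  exact two_stays_left ha h3 hstep

/-- When the layer below the top is two-element, a functional space of dimension two detects
multiplication into it. -/
theorem exists_annihilator [FiniteDimensional k B] (h : Loc τ J m) (hm : 2 ≤ m)
    (h2 : Two J (m - 1)) {S : Submodule k B}
    (hS : finrank k S + 3 ≤ finrank k J) :
    ∃ v ∈ J, v ∉ S ∧ ∀ w ∈ J ^ (m - 1), v * w = 0 := by
  classical
  obtain ⟨u, v, huv⟩ := h2
  let f : J →ₗ[k] (Fin 2 → k) := LinearMap.pi fun i =>
    τ.comp ((LinearMap.mulRight k (![u, v] i)).comp J.subtype)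
  have hker := LinearMap.finrank_range_add_finrank_ker f
  have hr : finrank k (LinearMap.range f) ≤ 2 := by
    simpa using Submodule.finrank_le (LinearMap.range f)
  have hnle : ¬ (LinearMap.ker f).map J.subtype ≤ S := fun hle => by
    have h1 := Submodule.finrank_mono hle
    rw [(Submodule.equivMapOfInjective J.subtype J.subtype_injective _).finrank_eq.symm] at h1
    omega
  obtain ⟨x, hx, hxS⟩ := SetLike.not_le_iff_exists.1 hnle
  obtain ⟨⟨x, hxJ⟩, hxk, rfl⟩ := hx
  refine ⟨x, hxJ, hxS, fun w hw => ?_⟩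
  have hx0 := LinearMap.mem_ker.1 hxk
  have hxu : τ (x * u) = 0 := congrFun hx0 0
  have hxv : τ (x * v) = 0 := congrFun hx0 1
  obtain ⟨r, s, hrs⟩ := mem_span_pair_sup.1 (huv hw)
  rw [show m - 1 + 1 = m by omega] at hrs
  refine h.top_inj (Loc.mul_mem (i := 1) (by omega) (Loc.mem_one hxJ) hw) ?_
  have h0 : x * (w - r • u - s • v) = 0 :=
    h.eq_zero (Nat.lt_succ_self m) (Loc.mul_mem (i := 1) (by omega) (Loc.mem_one hxJ) hrs)
  rw [mul_sub, mul_sub, mul_smul_comm, mul_smul_comm, sub_eq_zero, sub_eq_iff_eq_add] at h0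
  rw [h0, map_add, map_smul, map_smul, hxu, hxv, smul_zero, smul_zero, add_zero]

end Cfsg.Agent.BlockChar.CentreFive
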