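import Cfsg.Agent.BlockChar.CentreFive.Plane

/-!
# Two generators: the normal forms of the square

Two generators `x`, `y` with `P2 = span {x x, x y}` or `span {x x, y x}` modulo the cube, or with
two zero squares in characteristic two, leave a vanishing fourth or fifth layer.
-/

set_option autoImplicit false

namespace Cfsg.Agent.BlockChar.CentreFive

open Module

variable {k B : Type*} [Field k] [Ring B] [Algebra k B] {τ : B →ₗ[k] k} {J : Submodule k B} {m : ℕ}

/-- The span of the commutators with the cube, with the fifth power. -/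
def brk3 (J : Submodule k B) : Submodule k B :=
  Submodule.span k {w : B | ∃ x ∈ J, ∃ q ∈ J ^ 3, w = x * q - q * x} ⊔ J ^ 5

theorem brk3_mem {x q : B} (hx : x ∈ J) (hq : q ∈ J ^ 3) : x * q - q * x ∈ brk3 J :=
  Submodule.mem_sup_left (Submodule.subset_span ⟨x, hx, q, hq, rfl⟩)

/-- The brackets with the square are those of the spanning elements and of the cube. -/
theorem bracket_eq {x y u₁ u₂ : B} (hx : x ∈ J) (hy : y ∈ J)
    (hgen : J ≤ Submodule.span k {x, y} ⊔ J ^ 2) (hu₁ : u₁ ∈ J ^ 2) (hu₂ : u₂ ∈ J ^ 2)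
    (h2 : J ^ 2 ≤ Submodule.span k {u₁, u₂} ⊔ J ^ 3) {w : B}
    (hw : w ∈ Submodule.span k {w : B | ∃ x ∈ J, ∃ q ∈ J ^ 2, w = x * q - q * x}) :
    ∃ a b c d : k, ∃ t ∈ brk3 J, w = a • (x * u₁ - u₁ * x) + b • (x * u₂ - u₂ * x) +
      c • (y * u₁ - u₁ * y) + d • (y * u₂ - u₂ * y) + t := by
  induction hw using Submodule.span_induction with
  | mem v hv =>
    obtain ⟨e, he, q, hq, rfl⟩ := hv
    obtain ⟨r, s, he'⟩ := mem_span_pair_sup.1 (hgen he)
    obtain ⟨r', s', hq'⟩ := mem_span_pair_sup.1 (h2 hq)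
    set e₂ := e - r • x - s • y with he₂
    set q₃ := q - r' • u₁ - s' • u₂ with hq₃
    have hlin : r • x + s • y ∈ J := J.add_mem (J.smul_mem _ hx) (J.smul_mem _ hy)
    have hsq : J ^ 2 ≤ Submodule.comap (LinearMap.mulRight k q - LinearMap.mulLeft k q) (brk3 J) := by
      rw [pow_two, Submodule.mul_le]
      intro f hf g hg
      simp only [Submodule.mem_comap, LinearMap.sub_apply, LinearMap.mulRight_apply,
        LinearMap.mulLeft_apply]
      rw [show f * g * q - q * (f * g) =
        (f * (g * q) - g * q * f) + (g * (q * f) - q * f * g) by simp only [mul_assoc]; abel]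
      exact Submodule.add_mem _ (brk3_mem hf (Loc.mul_mem (i := 1) (by omega) (Loc.mem_one hg) hq))
        (brk3_mem hg (Loc.mul_mem (j := 1) rfl hq (Loc.mem_one hf)))
    refine ⟨r * r', r * s', s * r', s * s', (e₂ * q - q * e₂) +
      ((r • x + s • y) * q₃ - q₃ * (r • x + s • y)),
      Submodule.add_mem _ (by simpa using hsq he') (brk3_mem hlin hq'), ?_⟩
    rw [he₂, hq₃]
    simp only [mul_add, add_mul, mul_sub, sub_mul, smul_mul_assoc, mul_smul_comm, smul_smul,
      smul_sub, smul_add]
    module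
  | zero => exact ⟨0, 0, 0, 0, 0, Submodule.zero_mem _, by simp⟩
  | add v v' _ _ h1 h2 =>
    obtain ⟨a, b, c, d, t, ht, rfl⟩ := h1
    obtain ⟨a', b', c', d', t', ht', rfl⟩ := h2
    exact ⟨a + a', b + b', c + c', d + d', t + t', Submodule.add_mem _ ht ht', by module⟩
  | smul e v _ h1 =>
    obtain ⟨a, b, c, d, t, ht, rfl⟩ := h1
    exact ⟨e * a, e * b, e * c, e * d, e • t, Submodule.smul_mem _ e ht, by module⟩

/-- The brackets with the cube come from those of spanning elements. -/
theorem brk3_le (h : Loc τ J m) {x y u₁ u₂ : B} {T : Submodule k B}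
    (hgen : J ≤ Submodule.span k {x, y} ⊔ J ^ 2) (hu₁ : u₁ ∈ J ^ 3) (hu₂ : u₂ ∈ J ^ 3)
    (h3 : J ^ 3 ≤ Submodule.span k {u₁, u₂} ⊔ J ^ 4) (hT : J ^ 5 ≤ T)
    (h11 : x * u₁ - u₁ * x ∈ T) (h12 : x * u₂ - u₂ * x ∈ T)
    (h21 : y * u₁ - u₁ * y ∈ T) (h22 : y * u₂ - u₂ * y ∈ T) : brk3 J ≤ T := by
  refine sup_le (Submodule.span_le.2 ?_) hT
  rintro _ ⟨e, he, q, hq, rfl⟩
  obtain ⟨r, s, he'⟩ := mem_span_pair_sup.1 (hgen he)
  obtain ⟨r', s', hq'⟩ := mem_span_pair_sup.1 (h3 hq)
  set e₂ := e - r • x - s • y with he₂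
  set q₄ := q - r' • u₁ - s' • u₂ with hq₄
  have hu : r' • u₁ + s' • u₂ ∈ J ^ 3 :=
    Submodule.add_mem _ (Submodule.smul_mem _ _ hu₁) (Submodule.smul_mem _ _ hu₂)
  rw [SetLike.mem_coe, show e * q - q * e =
    (r * r') • (x * u₁ - u₁ * x) + (r * s') • (x * u₂ - u₂ * x) + (s * r') • (y * u₁ - u₁ * y) +
      (s * s') • (y * u₂ - u₂ * y) + ((e * q₄ - q₄ * e) +
      (e₂ * (r' • u₁ + s' • u₂) - (r' • u₁ + s' • u₂) * e₂)) by
    rw [he₂, hq₄]
    simp only [mul_add, add_mul, mul_sub, sub_mul, smul_mul_assoc, mul_smul_comm, smul_smul,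
      smul_sub, smul_add]
    module]
  exact T.add_mem (T.add_mem (T.add_mem (T.add_mem (T.smul_mem _ h11) (T.smul_mem _ h12))
    (T.smul_mem _ h21)) (T.smul_mem _ h22)) (hT (Submodule.add_mem _ (Submodule.sub_mem _
      (Loc.mul_mem (i := 1) (by omega) (Loc.mem_one he) hq')
      (Loc.mul_mem (j := 1) rfl hq' (Loc.mem_one he)))
      (Submodule.sub_mem _ (Loc.mul_mem rfl he' hu) (Loc.mul_mem rfl hu he'))))

theorem mul_pair_left {i l : ℕ} (hl : 1 + i = l) {x u v : B} (hx : x ∈ J)
    (h : u - v ∈ J ^ i) : x * u - x * v ∈ J ^ l := by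
  rw [← mul_sub]; exact Loc.mul_mem hl (Loc.mem_one hx) h

theorem mul_pair_right {i l : ℕ} (hl : i + 1 = l) {x u v : B} (hx : x ∈ J)
    (h : u - v ∈ J ^ i) : u * x - v * x ∈ J ^ l := by
  rw [← sub_mul]; exact Loc.mul_mem hl h (Loc.mem_one hx)

section

variable (h : Loc τ J m) {x y : B} (hx : x ∈ J) (hy : y ∈ J)
  (hgen : J ≤ Submodule.span k {x, y} ⊔ J ^ 2)

include h hx hy hgen

omit h in
/-- The next layer is spanned by the left multiples of a spanning pair. -/
theorem left_layer {i : ℕ} {u v : B} {T : Submodule k B} (hu : u ∈ J ^ i) (hv : v ∈ J ^ i)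
    (hsp : J ^ i ≤ Submodule.span k {u, v} ⊔ J ^ (i + 1)) (hT : J ^ (i + 2) ≤ T)
    (h1 : x * u ∈ T) (h2 : x * v ∈ T) (h3 : y * u ∈ T) (h4 : y * v ∈ T) : J ^ (i + 1) ≤ T := by
  rw [pow_succ', Submodule.mul_le]
  intro e he q hq
  obtain ⟨r, s, he'⟩ := mem_span_pair_sup.1 (hgen he)
  obtain ⟨r', s', hq'⟩ := mem_span_pair_sup.1 (hsp hq)
  have huv : r' • u + s' • v ∈ J ^ i :=
    Submodule.add_mem _ (Submodule.smul_mem _ _ hu) (Submodule.smul_mem _ _ hv)
  rw [show e * q = (r * r') • (x * u) + (r * s') • (x * v) + (s * r') • (y * u) +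
    (s * s') • (y * v) + ((e - r • x - s • y) * (r' • u + s' • v) +
      e * (q - r' • u - s' • v)) by
    simp only [mul_add, mul_sub, sub_mul, smul_mul_assoc, mul_smul_comm, smul_smul, smul_sub,
      smul_add]
    module]
  exact T.add_mem (T.add_mem (T.add_mem (T.add_mem (T.smul_mem _ h1) (T.smul_mem _ h2))
    (T.smul_mem _ h3)) (T.smul_mem _ h4)) (hT (Submodule.add_mem _
      (Loc.mul_mem (by omega) he' huv) (Loc.mul_mem (i := 1) (by omega) (Loc.mem_one he) hq')))

/-- Two generators with `x y` zero modulo the cube. -/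
theorem not_layer_four_of_zero (hm : 5 ≤ m) {α β : k}
    (h2 : J ^ 2 ≤ Submodule.span k {x * x, y * x} ⊔ J ^ 3)
    (hxy : x * y ∈ J ^ 3) (hyy : y * y - (α • (x * x) + β • (y * x)) ∈ J ^ 3)
    (hK : J ^ 3 ≤ Submodule.span k {w : B | ∃ x ∈ J, ∃ q ∈ J ^ 2, w = x * q - q * x} ⊔ J ^ m) :
    False := by
  have hxx2 : x * x ∈ J ^ 2 := Loc.mul_mem (i := 1) (j := 1) rfl (Loc.mem_one hx) (Loc.mem_one hx)
  have hyx2 : y * x ∈ J ^ 2 := Loc.mul_mem (i := 1) (j := 1) rfl (Loc.mem_one hy) (Loc.mem_one hx)
  have h45 : J ^ 4 ≤ J ^ 4 := le_rfl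
  have hxyx : x * y * x ∈ J ^ 4 := mul_three_right hx hxy
  have hyyx : y * y * x - (α • (x * x * x) + β • (y * x * x)) ∈ J ^ 4 := by
    have := mul_three_right (J := J) hx hyy
    simpa [sub_mul, add_mul] using this
  -- the layers
  have h3 : J ^ 3 ≤ Submodule.span k {x * x * x, y * x * x} ⊔ J ^ (3 + 1) := by
    refine left_layer hx hy hgen hxx2 hyx2 h2 le_sup_right ?_ ?_ ?_ ?_
    · exact Submodule.mem_sup_left (Submodule.subset_span (by simp [mul_assoc]))
    · exact Submodule.mem_sup_right (by rwa [← mul_assoc])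
    · exact Submodule.mem_sup_left (Submodule.subset_span (by simp [mul_assoc]))
    · exact mem_span_pair_sup.2 ⟨α, β, by rw [← mul_assoc, sub_sub]; exact hyyx⟩
  have hu : x * x * x ∈ J ^ 3 := Loc.mul_mem (j := 1) rfl hxx2 (Loc.mem_one hx)
  have hv : y * x * x ∈ J ^ 3 := Loc.mul_mem (j := 1) rfl hyx2 (Loc.mem_one hx)
  have hxv : x * (y * x * x) ∈ J ^ 5 := by
    rw [show x * (y * x * x) = (x * y * x) * x by simp only [mul_assoc]]
    exact Loc.mul_mem (j := 1) rfl hxyx (Loc.mem_one hx)
  have hyv : y * (y * x * x) - (α • (x * x * x * x) + β • (y * x * x * x)) ∈ J ^ 5 := by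
    have := Loc.mul_mem (j := 1) (l := 5) rfl hyyx (Loc.mem_one hx)
    simpa [sub_mul, add_mul, mul_assoc] using this
  suffices hzero : x * x * x * x ∈ J ^ 5 ∧ y * x * x * x ∈ J ^ 5 by
    refine h.not_le_succ (i := 4) (by norm_num) (by omega) ?_
    refine left_layer hx hy hgen hu hv h3 le_rfl ?_ hxv ?_ ?_
    · simpa [mul_assoc] using hzero.1
    · simpa [mul_assoc] using hzero.2
    · rw [show y * (y * x * x) = (y * (y * x * x) - (α • (x * x * x * x) + β • (y * x * x * x))) +
        (α • (x * x * x * x) + β • (y * x * x * x)) by abel]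
      exact Submodule.add_mem _ hyv
        (Submodule.add_mem _ (Submodule.smul_mem _ _ hzero.1) (Submodule.smul_mem _ _ hzero.2))
  by_cases hα : α = 0
  · -- the cube is spanned by one element
    have h1 : J ^ 3 ≤ Submodule.span k {y * x * x} ⊔ J ^ 4 := by
      refine hK.trans (sup_le (fun w hw => ?_) ((h.anti (by norm_num) (by omega)).trans le_sup_right))
      obtain ⟨a, b, c, d, t, ht, rfl⟩ := bracket_eq hx hy hgen hxx2 hyx2 h2 hw
      have ht4 : brk3 J ≤ J ^ 4 := sup_le (Submodule.span_le.2 (by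
        rintro _ ⟨e, he, q, hq, rfl⟩
        exact Submodule.sub_mem _ (mul_three_left he hq) (mul_three_right he hq)))
        (h.anti (by norm_num) (by norm_num))
      refine Blocks.Dihedral.mem_span_singleton_sup.2 ⟨c + d * β - b, ?_⟩
      have h1 : x * x * y ∈ J ^ 4 := by rw [mul_assoc]; exact mul_three_left hx hxy
      have h4 : y * x * y ∈ J ^ 4 := by rw [mul_assoc]; exact mul_three_left hy hxy
      have h6 : y * y * x - β • (y * x * x) ∈ J ^ 4 := by simpa [hα] using hyyx
      have := (J ^ 4).add_mem (Submodule.smul_mem _ (-c) h1)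
        ((J ^ 4).add_mem (Submodule.smul_mem _ (-d) h4) ((J ^ 4).add_mem
          (Submodule.smul_mem _ d h6) ((J ^ 4).add_mem (Submodule.smul_mem _ b hxyx) (ht4 ht))))
      convert this using 1
      simp only [← mul_assoc, smul_sub, smul_smul]
      module
    obtain ⟨μ, hμ⟩ := Blocks.Dihedral.mem_span_singleton_sup.1 (h1 hu)
    have hx4 : x * x * x * x ∈ J ^ 5 := by
      have h0 := Submodule.add_mem _ (Loc.mul_mem (i := 1) (l := 5) rfl (Loc.mem_one hx) hμ)
        ((J ^ 5).smul_mem μ hxv)
      simpa [mul_sub, mul_assoc] using h0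
    refine ⟨hx4, ?_⟩
    have h5 := Loc.mul_mem (j := 1) (l := 5) rfl hμ (Loc.mem_one hx)
    rw [sub_mul, smul_mul_assoc] at h5
    by_cases hμ0 : μ = 0
    · have := Loc.mul_mem (i := 1) (l := 5) rfl (Loc.mem_one hy) hμ
      simpa [hμ0, mul_assoc] using this
    · have := (J ^ 5).smul_mem μ⁻¹ (Submodule.sub_mem _ hx4 h5)
      rwa [sub_sub_cancel, smul_smul, inv_mul_cancel₀ hμ0, one_smul] at this
  · have hxxx : x * x * x ∈ J ^ 4 := by
      have := Submodule.sub_mem _ (Submodule.sub_mem _ (mul_three_right hy hxy)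
        (mul_three_left hx hyy)) ((J ^ 4).smul_mem β hxyx)
      have e : α • (x * x * x) = x * y * y - x * (y * y - (α • (x * x) + β • (y * x))) -
          β • (x * y * x) := by
        simp only [mul_sub, mul_add, mul_smul_comm, ← mul_assoc]; abel
      rw [← e] at this
      simpa [smul_smul, inv_mul_cancel₀ hα] using (J ^ 4).smul_mem α⁻¹ this
    refine ⟨Loc.mul_mem (j := 1) rfl hxxx (Loc.mem_one hx), ?_⟩
    simpa [mul_assoc] using Loc.mul_mem (i := 1) (l := 5) rfl (Loc.mem_one hy) hxxx

/-- Two generators with `y x` a multiple of `x y` modulo the cube. -/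
theorem not_layer_four_of_skew (hm : 5 ≤ m) {α β l : k} (hl : l ≠ 1)
    (h2 : J ^ 2 ≤ Submodule.span k {x * x, x * y} ⊔ J ^ 3)
    (hyx : y * x - l • (x * y) ∈ J ^ 3) (hyy : y * y - (α • (x * x) + β • (x * y)) ∈ J ^ 3)
    (hK : J ^ 3 ≤ Submodule.span k {w : B | ∃ x ∈ J, ∃ q ∈ J ^ 2, w = x * q - q * x} ⊔ J ^ m) :
    False := by
  have hxx2 : x * x ∈ J ^ 2 := Loc.mul_mem (i := 1) (j := 1) rfl (Loc.mem_one hx) (Loc.mem_one hx)
  have hxy2 : x * y ∈ J ^ 2 := Loc.mul_mem (i := 1) (j := 1) rfl (Loc.mem_one hx) (Loc.mem_one hy)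
  -- the products in degree three
  have exyx : x * y * x - l • (x * x * y) ∈ J ^ 4 := by
    simpa [mul_sub, mul_assoc] using mul_three_left (J := J) hx hyx
  have eyxx : y * x * x - (l * l) • (x * x * y) ∈ J ^ 4 := by
    have := Submodule.add_mem _ (mul_three_right (J := J) hx hyx) ((J ^ 4).smul_mem l exyx)
    simpa [sub_mul, smul_sub, smul_smul] using this
  have exyy : x * y * y - (α • (x * x * x) + β • (x * x * y)) ∈ J ^ 4 := by
    simpa [mul_sub, mul_add, mul_assoc] using mul_three_left (J := J) hx hyy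
  have eyxy : y * x * y - (l * α) • (x * x * x) - (l * β) • (x * x * y) ∈ J ^ 4 := by
    have := Submodule.add_mem _ (mul_three_right (J := J) hy hyx) ((J ^ 4).smul_mem l exyy)
    convert this using 1
    simp only [sub_mul, smul_mul_assoc, smul_sub, smul_add, smul_smul]
    abel
  have h3 : J ^ 3 ≤ Submodule.span k {x * x * x, x * x * y} ⊔ J ^ (3 + 1) := by
    refine left_layer hx hy hgen hxx2 hxy2 h2 le_sup_right ?_ ?_ ?_ ?_
    · exact Submodule.mem_sup_left (Submodule.subset_span (by simp [mul_assoc]))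
    · exact Submodule.mem_sup_left (Submodule.subset_span (by simp [mul_assoc]))
    · exact mem_span_pair_sup.2 ⟨0, l * l, by rw [← mul_assoc]; simpa using eyxx⟩
    · exact mem_span_pair_sup.2 ⟨l * α, l * β, by rw [← mul_assoc]; exact eyxy⟩
  have hu : x * x * x ∈ J ^ 3 := Loc.mul_mem (j := 1) rfl hxx2 (Loc.mem_one hx)
  have hv : x * x * y ∈ J ^ 3 := Loc.mul_mem (j := 1) rfl hxx2 (Loc.mem_one hy)
  -- the products in degree four
  have exxyx : x * x * y * x - l • (x * x * x * y) ∈ J ^ 5 := by
    simpa [mul_sub, mul_assoc] using Loc.mul_mem (i := 1) (l := 5) rfl (Loc.mem_one hx) exyx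
  have exxyy : x * x * y * y - (α • (x * x * x * x) + β • (x * x * x * y)) ∈ J ^ 5 := by
    simpa [mul_sub, mul_add, mul_assoc] using Loc.mul_mem (i := 1) (l := 5) rfl (Loc.mem_one hx) exyy
  have eyxxx : y * (x * x * x) - (l * l * l) • (x * x * x * y) ∈ J ^ 5 := by
    have := Submodule.add_mem _ (Loc.mul_mem (j := 1) (l := 5) rfl eyxx (Loc.mem_one hx))
      ((J ^ 5).smul_mem (l * l) exxyx)
    simpa [sub_mul, smul_sub, smul_smul, mul_assoc] using this
  have eyxxy : y * (x * x * y) -
      ((l * l * α) • (x * x * x * x) + (l * l * β) • (x * x * x * y)) ∈ J ^ 5 := by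
    have := Submodule.add_mem _ (Loc.mul_mem (j := 1) (l := 5) rfl eyxx (Loc.mem_one hy))
      ((J ^ 5).smul_mem (l * l) exxyy)
    convert this using 1
    simp only [sub_mul, smul_mul_assoc, smul_sub, smul_add, smul_smul, ← mul_assoc]
    abel
  suffices hzero : J ^ 5 = ⊥ ∨ (x * x * x * x ∈ J ^ 5 ∧ x * x * x * y ∈ J ^ 5) by
    rcases hzero with h0 | ⟨h0, h1⟩
    · exact h.ne_bot (by norm_num) hm h0
    refine h.not_le_succ (i := 4) (by norm_num) (by omega) ?_
    refine left_layer hx hy hgen hu hv h3 le_rfl ?_ ?_ ?_ ?_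
    · simpa [mul_assoc] using h0
    · simpa [mul_assoc] using h1
    · rw [← sub_add_cancel (y * (x * x * x)) ((l * l * l) • (x * x * x * y))]
      exact Submodule.add_mem _ eyxxx (Submodule.smul_mem _ _ h1)
    · rw [← sub_add_cancel (y * (x * x * y))
        ((l * l * α) • (x * x * x * x) + (l * l * β) • (x * x * x * y))]
      exact Submodule.add_mem _ eyxxy
        (Submodule.add_mem _ (Submodule.smul_mem _ _ h0) (Submodule.smul_mem _ _ h1))
  -- consequences of a relation in degree three
  have rel : ∀ a b : k, a • (x * x * x) + b • (x * x * y) ∈ J ^ 4 →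
      a • (x * x * x * x) + b • (x * x * x * y) ∈ J ^ 5 ∧
      (a * (l * l * l) + b * (l * l * β)) • (x * x * x * y) + (b * (l * l * α)) • (x * x * x * x)
        ∈ J ^ 5 ∧
      (a + b * β) • (x * x * x * y) + (b * α) • (x * x * x * x) ∈ J ^ 5 := by
    intro a b hab
    refine ⟨?_, ?_, ?_⟩
    · simpa [mul_add, mul_assoc] using Loc.mul_mem (i := 1) (l := 5) rfl (Loc.mem_one hx) hab
    · have := Submodule.sub_mem _ (Loc.mul_mem (i := 1) (l := 5) rfl (Loc.mem_one hy) hab)
        (Submodule.add_mem _ ((J ^ 5).smul_mem a eyxxx) ((J ^ 5).smul_mem b eyxxy))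
      convert this using 1
      simp only [mul_add, mul_smul_comm, smul_sub, smul_add, smul_smul, add_smul]
      abel
    · have := Submodule.sub_mem _ (Loc.mul_mem (j := 1) (l := 5) rfl hab (Loc.mem_one hy))
        ((J ^ 5).smul_mem b exxyy)
      convert this using 1
      simp only [add_mul, smul_mul_assoc, smul_sub, smul_add, smul_smul, add_smul]
      abel
  by_cases hα : α = 0
  · have h1 : J ^ 3 ≤ Submodule.span k {x * x * y} ⊔ J ^ 4 := by
      refine hK.trans (sup_le (fun w hw => ?_) ((h.anti (by norm_num) (by omega)).trans le_sup_right))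
      obtain ⟨a, b, c, d, t, ht, rfl⟩ := bracket_eq hx hy hgen hxx2 hxy2 h2 hw
      have ht4 : brk3 J ≤ J ^ 4 := sup_le (Submodule.span_le.2 (by
        rintro _ ⟨e, he, q, hq, rfl⟩
        exact Submodule.sub_mem _ (mul_three_left he hq) (mul_three_right he hq)))
        (h.anti (by norm_num) (by norm_num))
      refine Blocks.Dihedral.mem_span_singleton_sup.2
        ⟨b * (1 - l) + c * (l * l - 1) + d * (l * β - β), ?_⟩
      have := (J ^ 4).add_mem (Submodule.smul_mem _ (-b) exyx) ((J ^ 4).add_mem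
        (Submodule.smul_mem _ c eyxx) ((J ^ 4).add_mem (Submodule.smul_mem _ d eyxy)
          ((J ^ 4).add_mem (Submodule.smul_mem _ (-d) exyy) (ht4 ht))))
      convert this using 1
      simp only [← mul_assoc, hα, mul_zero, zero_smul, zero_add, sub_zero, smul_sub, smul_smul]
      module
    obtain ⟨μ, hμ⟩ := Blocks.Dihedral.mem_span_singleton_sup.1 (h1 hu)
    have h4a : x * x * x * x - μ • (x * x * x * y) ∈ J ^ 5 := by
      simpa [mul_sub, mul_assoc] using Loc.mul_mem (i := 1) (l := 5) rfl (Loc.mem_one hx) hμ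
    have h4b : x * x * x * x - (μ * l) • (x * x * x * y) ∈ J ^ 5 := by
      have := Submodule.add_mem _ (Loc.mul_mem (j := 1) (l := 5) rfl hμ (Loc.mem_one hx))
        ((J ^ 5).smul_mem μ exxyx)
      simpa [sub_mul, smul_sub, smul_smul] using this
    refine Or.inr ?_
    by_cases hμ0 : μ = 0
    · refine ⟨by simpa [hμ0] using h4a, ?_⟩
      have := Loc.mul_mem (j := 1) (l := 5) rfl hμ (Loc.mem_one hy)
      simpa [hμ0] using this
    · have hd := (J ^ 5).smul_mem (μ * (1 - l))⁻¹ (Submodule.sub_mem _ h4b h4a)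
      rw [show x * x * x * x - (μ * l) • (x * x * x * y) -
        (x * x * x * x - μ • (x * x * x * y)) = (μ * (1 - l)) • (x * x * x * y) by module,
        smul_smul, inv_mul_cancel₀ (mul_ne_zero hμ0 (sub_ne_zero.2 hl.symm)), one_smul] at hd
      refine ⟨?_, hd⟩
      simpa using Submodule.add_mem _ h4a ((J ^ 5).smul_mem μ hd)
  -- the relation from the two values of the cube of `y`
  have hrel : (α * β) • (x * x * x) + (α * (l + 1) + β * β) • (x * x * y) ∈ J ^ 4 := by
    have e1 := Submodule.add_mem _ (mul_three_left (J := J) hy hyy)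
      (Submodule.add_mem _ ((J ^ 4).smul_mem α eyxx) ((J ^ 4).smul_mem β eyxy))
    have e2 := Submodule.add_mem _ (mul_three_right (J := J) hy hyy) ((J ^ 4).smul_mem β exyy)
    have := (J ^ 4).smul_mem (l - 1)⁻¹ (Submodule.sub_mem _ e2 e1)
    convert this using 1
    rw [eq_inv_smul_iff₀ (sub_ne_zero.2 hl)]
    simp only [mul_sub, mul_add, sub_mul, add_mul, smul_mul_assoc, mul_smul_comm, ← mul_assoc,
      smul_sub, smul_add, smul_smul]
    module
  by_cases hβ : β = 0
  · by_cases hl1 : l + 1 = 0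
    · -- anticommuting generators
      obtain rfl : l = -1 := eq_neg_of_add_eq_zero_left hl1
      have h20 : (2 : k) ≠ 0 := fun e0 => hl (by linear_combination (-1 : k) * e0)
      subst hβ
      by_cases hind : ∀ a b : k, a • (x * x * x) + b • (x * x * y) ∈ J ^ 4 → a = 0 ∧ b = 0
      · left
        set T := Submodule.span k {x * x * x * y} ⊔ J ^ 5 with hT
        have hg : x * x * x * y ∈ T :=
          Submodule.mem_sup_left (Submodule.mem_span_singleton_self _)
        have h5 : J ^ 5 ≤ T := le_sup_right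
        have hbr3 : brk3 J ≤ T := by
          refine brk3_le h hgen hu hv h3 h5 ?_ ?_ ?_ ?_
          · simp [mul_assoc]
          · rw [show x * (x * x * y) - x * x * y * x =
              (2 : k) • (x * x * x * y) - (x * x * y * x - (-1 : k) • (x * x * x * y)) by
                simp only [← mul_assoc]; module]
            exact T.sub_mem (T.smul_mem _ hg) (h5 exxyx)
          · rw [show y * (x * x * x) - x * x * x * y =
              (y * (x * x * x) - ((-1 : k) * -1 * -1) • (x * x * x * y)) -
                (2 : k) • (x * x * x * y) by module]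
            exact T.sub_mem (h5 eyxxx) (T.smul_mem _ hg)
          · rw [show y * (x * x * y) - x * x * y * y =
              (y * (x * x * y) - (((-1 : k) * -1 * α) • (x * x * x * x) +
                ((-1 : k) * -1 * 0) • (x * x * x * y))) -
              (x * x * y * y - (α • (x * x * x * x) + (0 : k) • (x * x * x * y))) by module]
            exact T.sub_mem (h5 eyxxy) (h5 exxyy)
        have hc : y * (x * x) - x * x * y ∈ T := by
          have hε : y * y - α • (x * x) ∈ J ^ 3 := by simpa using hyy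
          have := T.smul_mem (-α⁻¹) (hbr3 (brk3_mem hy hε))
          convert this using 1
          rw [neg_smul, ← smul_neg, eq_inv_smul_iff₀ hα]
          simp only [mul_sub, sub_mul, smul_mul_assoc, mul_smul_comm, ← mul_assoc]
          module
        have h4 : J ^ 4 ≤ T := by
          intro w hw
          obtain ⟨w', hw', s, hs, rfl⟩ := Submodule.mem_sup.1 (hK (h.anti (by norm_num)
            (by norm_num : 3 ≤ 4) hw))
          obtain ⟨a, b, c, d, t, ht, rfl⟩ := bracket_eq hx hy hgen hxx2 hxy2 h2 hw'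
          have hs5 : s ∈ T := h5 (h.anti (by norm_num) hm hs)
          have hbd : (-2 * α * d) • (x * x * x) + (2 * b) • (x * x * y) ∈ J ^ 4 := by
            have ht4 : brk3 J ≤ J ^ 4 := sup_le (Submodule.span_le.2 (by
              rintro _ ⟨e, he, q, hq, rfl⟩
              exact Submodule.sub_mem _ (mul_three_left he hq) (mul_three_right he hq)))
              (h.anti (by norm_num) (by norm_num))
            have hs4 : s ∈ J ^ 4 := h.anti (by norm_num) (by omega) hs
            have := Submodule.sub_mem _ hw ((J ^ 4).add_mem (Submodule.smul_mem _ (-b) exyx)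
              ((J ^ 4).add_mem (Submodule.smul_mem _ c eyxx) ((J ^ 4).add_mem
                (Submodule.smul_mem _ d eyxy) ((J ^ 4).add_mem (Submodule.smul_mem _ (-d) exyy)
                  ((J ^ 4).add_mem (ht4 ht) hs4)))))
            convert this using 1
            simp only [← mul_assoc, smul_sub, smul_add, smul_smul]
            module
          obtain ⟨hd, hb⟩ := hind _ _ hbd
          obtain rfl : d = 0 :=
            (mul_eq_zero.1 hd).resolve_left (mul_ne_zero (neg_ne_zero.2 h20) hα)
          obtain rfl : b = 0 := (mul_eq_zero.1 hb).resolve_left h20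
          rw [zero_smul, zero_smul, add_zero, add_zero, mul_assoc x x x, sub_self, smul_zero,
            zero_add]
          exact T.add_mem (T.add_mem (T.smul_mem _ hc) (hbr3 ht)) hs5
        obtain ⟨μ, hμ⟩ := Blocks.Dihedral.mem_span_singleton_sup.1
          (h4 (Loc.mul_mem (j := 1) rfl hu (Loc.mem_one hx)))
        -- the fifth layer
        have d1 : x * x * x * x * x - μ • (x * x * x * x * y) ∈ J ^ 6 := by
          simpa [mul_sub, mul_assoc] using Loc.mul_mem (i := 1) (l := 6) rfl (Loc.mem_one hx) hμ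
        have exxxyy : x * x * x * y * y - α • (x * x * x * x * x) ∈ J ^ 6 := by
          simpa [mul_sub, mul_assoc] using Loc.mul_mem (i := 1) (l := 6) rfl (Loc.mem_one hx) exxyy
        have d2 : x * x * x * x * y - (μ * α) • (x * x * x * x * x) ∈ J ^ 6 := by
          have := Submodule.add_mem _ (Loc.mul_mem (j := 1) (l := 6) rfl hμ (Loc.mem_one hy))
            ((J ^ 6).smul_mem μ exxxyy)
          simpa [sub_mul, smul_sub, smul_smul] using this
        have exxxyx : x * x * x * y * x + x * x * x * x * y ∈ J ^ 6 := by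
          simpa [mul_add, mul_assoc] using Loc.mul_mem (i := 1) (l := 6) rfl (Loc.mem_one hx) exxyx
        have eyx4 : y * (x * x * x * x) - x * x * x * x * y ∈ J ^ 6 := by
          have := Submodule.sub_mem _ (Loc.mul_mem (j := 1) (l := 6) rfl eyxxx (Loc.mem_one hx))
            exxxyx
          convert this using 1
          simp only [sub_mul, smul_mul_assoc, ← mul_assoc]
          module
        have eyx3y : y * (x * x * x * y) + α • (x * x * x * x * x) ∈ J ^ 6 := by
          have := Submodule.sub_mem _ (Loc.mul_mem (j := 1) (l := 6) rfl eyxxx (Loc.mem_one hy))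
            exxxyy
          convert this using 1
          simp only [sub_mul, smul_mul_assoc, ← mul_assoc]
          module
        have d3 : x * x * x * x * y + (μ * α) • (x * x * x * x * x) ∈ J ^ 6 := by
          have := Submodule.sub_mem _ (Submodule.add_mem _ ((J ^ 6).smul_mem μ eyx3y)
            (Loc.mul_mem (i := 1) (l := 6) rfl (Loc.mem_one hy) hμ)) eyx4
          convert this using 1
          simp only [mul_sub, mul_smul_comm, smul_add, smul_smul]
          module
        have d4 : (2 * μ * α) • (x * x * x * x * x) ∈ J ^ 6 := by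
          have := Submodule.sub_mem _ d3 d2
          convert this using 1
          module
        have h5x : x * x * x * x * x ∈ J ^ 6 ∧ x * x * x * x * y ∈ J ^ 6 := by
          by_cases hμ0 : μ = 0
          · exact ⟨by simpa [hμ0] using d1, by simpa [hμ0] using d2⟩
          · have h0 := (J ^ 6).smul_mem (2 * μ * α)⁻¹ d4
            rw [smul_smul, inv_mul_cancel₀ (mul_ne_zero (mul_ne_zero h20 hμ0) hα), one_smul] at h0
            exact ⟨h0, by simpa using Submodule.add_mem _ d2 ((J ^ 6).smul_mem (μ * α) h0)⟩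
        have hw5 : x * x * x * y ∈ J ^ 4 := Loc.mul_mem (j := 1) rfl hu (Loc.mem_one hy)
        have hsp : J ^ 4 ≤ Submodule.span k {x * x * x * y, 0} ⊔ J ^ (4 + 1) :=
          h4.trans (sup_le_sup (Submodule.span_mono (by simp)) le_rfl)
        refine Blocks.Dihedral.pow_eq_bot_of_le J h.mul h.bot (by norm_num)
          (left_layer hx hy hgen hw5 (Submodule.zero_mem _) hsp le_rfl ?_ (by simp) ?_ (by simp))
        · simpa [mul_assoc] using h5x.2
        · simpa using Submodule.sub_mem _ eyx3y ((J ^ 6).smul_mem α h5x.1)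
      · push Not at hind
        obtain ⟨a, b, hab, hne⟩ := hind
        obtain ⟨r1, r2, r3⟩ := rel a b hab
        simp only [mul_zero, add_zero, neg_mul, one_mul, mul_neg, mul_one, neg_neg] at r2 r3
        refine Or.inr ?_
        have hd : (2 * (b * α)) • (x * x * x * x) ∈ J ^ 5 := by
          have := Submodule.add_mem _ r2 r3
          convert this using 1
          module
        have hd' : (2 * a) • (x * x * x * y) ∈ J ^ 5 := by
          have := Submodule.sub_mem _ r3 r2
          convert this using 1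
          module
        by_cases hb : b = 0
        · have ha : a ≠ 0 := fun e0 => hne e0 hb
          subst hb
          refine ⟨by simpa [smul_smul, inv_mul_cancel₀ ha] using (J ^ 5).smul_mem a⁻¹ r1, ?_⟩
          exact (Submodule.smul_mem_iff _ (mul_ne_zero h20 ha)).1 hd'
        · have hx4 : x * x * x * x ∈ J ^ 5 := by
            exact (Submodule.smul_mem_iff _ (mul_ne_zero h20 (mul_ne_zero hb hα))).1 hd
          refine ⟨hx4, ?_⟩
          have hb4 : b • (x * x * x * y) ∈ J ^ 5 := by
            simpa using Submodule.sub_mem _ r1 ((J ^ 5).smul_mem a hx4)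
          simpa [smul_smul, inv_mul_cancel₀ hb] using (J ^ 5).smul_mem b⁻¹ hb4
    · -- here the second product vanishes
      subst hβ
      have hxxy : x * x * y ∈ J ^ 4 := by
        refine (Submodule.smul_mem_iff _ (mul_ne_zero hα hl1)).1 ?_
        simpa using hrel
      refine Or.inr ⟨?_, ?_⟩
      · have := (J ^ 5).smul_mem α⁻¹ (Submodule.sub_mem _
          (Loc.mul_mem (j := 1) (l := 5) rfl hxxy (Loc.mem_one hy)) exxyy)
        simpa [smul_smul, inv_mul_cancel₀ hα] using this
      · simpa [mul_assoc] using Loc.mul_mem (i := 1) (l := 5) rfl (Loc.mem_one hx) hxxy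
  · set γ := α * (l + 1) + β * β with hγ
    obtain ⟨r1, r2, r3⟩ := rel _ _ hrel
    refine Or.inr ?_
    have hx3y : x * x * x * y ∈ J ^ 5 := by
      by_cases hl0 : l = 0
      · subst hl0
        have := (J ^ 5).smul_mem (α * α * α)⁻¹ (Submodule.sub_mem _
          ((J ^ 5).smul_mem (γ * α) r1) ((J ^ 5).smul_mem (α * β) r3))
        convert this using 1
        rw [eq_inv_smul_iff₀ (mul_ne_zero (mul_ne_zero hα hα) hα), hγ]
        module
      · have := (J ^ 5).smul_mem (α * β * (l * l) * (l - 1))⁻¹ (Submodule.sub_mem _ r2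
          ((J ^ 5).smul_mem (l * l) r3))
        convert this using 1
        rw [eq_inv_smul_iff₀ (mul_ne_zero (mul_ne_zero (mul_ne_zero hα hβ)
          (mul_ne_zero hl0 hl0)) (sub_ne_zero.2 hl))]
        module
    refine ⟨?_, hx3y⟩
    refine (Submodule.smul_mem_iff _ (mul_ne_zero hα hβ)).1 ?_
    simpa using Submodule.sub_mem _ r1 ((J ^ 5).smul_mem γ hx3y)

/-- Two generators with zero squares in characteristic two. -/
theorem not_layer_four_of_two (hm : 5 ≤ m) (htwo : (2 : k) = 0)
    (h2 : J ^ 2 ≤ Submodule.span k {x * y, y * x} ⊔ J ^ 3)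
    (hxx : x * x ∈ J ^ 3) (hyy : y * y ∈ J ^ 3)
    (hK : J ^ 3 ≤ Submodule.span k {w : B | ∃ x ∈ J, ∃ q ∈ J ^ 2, w = x * q - q * x} ⊔ J ^ m) :
    False := by
  have hneg : ∀ v : B, -v = v := fun v => by
    rw [neg_eq_iff_add_eq_zero, ← two_smul k, htwo, zero_smul]
  have hxy2 : x * y ∈ J ^ 2 := Loc.mul_mem (i := 1) (j := 1) rfl (Loc.mem_one hx) (Loc.mem_one hy)
  have hyx2 : y * x ∈ J ^ 2 := Loc.mul_mem (i := 1) (j := 1) rfl (Loc.mem_one hy) (Loc.mem_one hx)
  have hu : x * y * x ∈ J ^ 3 := Loc.mul_mem (j := 1) rfl hxy2 (Loc.mem_one hx)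
  have hv : y * x * y ∈ J ^ 3 := Loc.mul_mem (j := 1) rfl hyx2 (Loc.mem_one hy)
  have h3 : J ^ 3 ≤ Submodule.span k {x * y * x, y * x * y} ⊔ J ^ (3 + 1) := by
    refine left_layer hx hy hgen hxy2 hyx2 h2 le_sup_right ?_ ?_ ?_ ?_
    · exact Submodule.mem_sup_right (by rw [← mul_assoc]; exact mul_three_right hy hxx)
    · exact Submodule.mem_sup_left (Submodule.subset_span (by simp [mul_assoc]))
    · exact Submodule.mem_sup_left (Submodule.subset_span (by simp [mul_assoc]))
    · exact Submodule.mem_sup_right (by rw [← mul_assoc]; exact mul_three_right hx hyy)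
  have z1 : x * (x * y * x) ∈ J ^ 5 := by
    rw [show x * (x * y * x) = (x * x * y) * x by simp only [mul_assoc]]
    exact Loc.mul_mem (j := 1) rfl (mul_three_right hy hxx) (Loc.mem_one hx)
  have z2 : y * (y * x * y) ∈ J ^ 5 := by
    rw [show y * (y * x * y) = (y * y * x) * y by simp only [mul_assoc]]
    exact Loc.mul_mem (j := 1) rfl (mul_three_right hx hyy) (Loc.mem_one hy)
  have z3 : x * y * x * x ∈ J ^ 5 := by
    rw [mul_assoc (x * y)]; exact Loc.mul_mem rfl hxy2 hxx
  have z4 : y * x * y * y ∈ J ^ 5 := by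
    rw [mul_assoc (y * x)]; exact Loc.mul_mem rfl hyx2 hyy
  by_cases hind : ∀ a b : k, a • (x * y * x) + b • (y * x * y) ∈ J ^ 4 → a = 0 ∧ b = 0
  · set T := Submodule.span k {x * y * x * y + y * x * y * x} ⊔ J ^ 5 with hT
    have hg : x * y * x * y + y * x * y * x ∈ T :=
      Submodule.mem_sup_left (Submodule.mem_span_singleton_self _)
    have h5 : J ^ 5 ≤ T := le_sup_right
    have hbr3 : brk3 J ≤ T := by
      refine brk3_le h hgen hu hv h3 h5 (h5 (Submodule.sub_mem _ z1 z3)) ?_ ?_
        (h5 (Submodule.sub_mem _ z2 z4))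
      · rw [show x * (y * x * y) - y * x * y * x = x * y * x * y + -(y * x * y * x) by
          simp only [← mul_assoc]; abel, hneg]
        exact hg
      · rw [show y * (x * y * x) - x * y * x * y = y * x * y * x + -(x * y * x * y) by
          simp only [← mul_assoc]; abel, hneg, add_comm]
        exact hg
    have hc : ∀ u ∈ J, ∀ v ∈ J, u * u ∈ J ^ 3 → u * (u * v - v * u) - (u * v - v * u) * u =
        (v * (u * u) - u * u * v) → u * (u * v - v * u) - (u * v - v * u) * u ∈ T :=
      fun u _ v hv' huu e => e ▸ hbr3 (brk3_mem hv' huu)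
    have hsame : ∀ u v : B, u * (u * v - v * u) - (u * v - v * u) * u =
        v * (u * u) - u * u * v := by
      intro u v
      have e0 : u * v * u + u * v * u = 0 := by rw [← two_smul k, htwo, zero_smul]
      have e1 : u * (u * v - v * u) - (u * v - v * u) * u =
          u * u * v + v * (u * u) - (u * v * u + u * v * u) := by
        simp only [mul_sub, sub_mul, ← mul_assoc]; abel
      rw [e1, e0, sub_zero, ← hneg (u * u * v)]
      simp only [hneg]
      rw [show v * (u * u) - u * u * v = v * (u * u) + -(u * u * v) from sub_eq_add_neg _ _, hneg,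
        add_comm]
    have h4 : J ^ 4 ≤ T := by
      intro w hw
      obtain ⟨w', hw', s, hs, rfl⟩ := Submodule.mem_sup.1 (hK (h.anti (by norm_num)
        (by norm_num : 3 ≤ 4) hw))
      obtain ⟨a, b, c, d, t, ht, rfl⟩ := bracket_eq hx hy hgen hxy2 hyx2 h2 hw'
      have hs5 : s ∈ T := h5 (h.anti (by norm_num) hm hs)
      have ht4 : brk3 J ≤ J ^ 4 := sup_le (Submodule.span_le.2 (by
        rintro _ ⟨e, he, q, hq, rfl⟩
        exact Submodule.sub_mem _ (mul_three_left he hq) (mul_three_right he hq)))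
        (h.anti (by norm_num) (by norm_num))
      have hab : (b - a) • (x * y * x) + (c - d) • (y * x * y) ∈ J ^ 4 := by
        have hs4 : s ∈ J ^ 4 := h.anti (by norm_num) (by omega) hs
        have h1 : x * x * y ∈ J ^ 4 := mul_three_right hy hxx
        have h2' : y * x * x ∈ J ^ 4 := by rw [mul_assoc]; exact mul_three_left hy hxx
        have h3' : y * y * x ∈ J ^ 4 := mul_three_right hx hyy
        have h4' : x * y * y ∈ J ^ 4 := by rw [mul_assoc]; exact mul_three_left hx hyy
        have := Submodule.sub_mem _ hw ((J ^ 4).add_mem (Submodule.smul_mem _ a h1)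
          ((J ^ 4).add_mem (Submodule.smul_mem _ (-b) h2') ((J ^ 4).add_mem
            (Submodule.smul_mem _ (-c) h4') ((J ^ 4).add_mem (Submodule.smul_mem _ d h3')
              ((J ^ 4).add_mem (ht4 ht) hs4)))))
        convert this using 1
        simp only [← mul_assoc, smul_sub]
        module
      obtain ⟨hba, hcd⟩ := hind _ _ hab
      rw [sub_eq_zero] at hba hcd
      subst hba hcd
      have e1 : b • (x * (x * y) - x * y * x) + b • (x * (y * x) - y * x * x) =
          b • (x * (x * y - y * x) - (x * y - y * x) * x) := by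
        rw [← smul_add]
        congr 1
        rw [show x * (y * x) - y * x * x = -(x * (y * x) - y * x * x) from (hneg _).symm]
        simp only [mul_sub, sub_mul]; abel
      have e2 : c • (y * (x * y) - x * y * y) + c • (y * (y * x) - y * x * y) =
          c • (y * (y * x - x * y) - (y * x - x * y) * y) := by
        rw [← smul_add]
        congr 1
        rw [show y * (x * y) - x * y * y = -(y * (x * y) - x * y * y) from (hneg _).symm]
        simp only [mul_sub, sub_mul]; abel
      rw [add_assoc (b • _ + b • _), e1, e2]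
      exact T.add_mem (T.add_mem (T.add_mem (T.smul_mem _ (hc x hx y hy hxx (hsame x y)))
        (T.smul_mem _ (hc y hy x hx hyy (hsame y x)))) (hbr3 ht)) hs5
    -- the fifth layer
    obtain ⟨μ, hμ⟩ := Blocks.Dihedral.mem_span_singleton_sup.1
      (h4 (show x * y * x * y ∈ J ^ 4 from Loc.mul_mem (j := 1) rfl hu (Loc.mem_one hy)))
    have hxyxyx : x * y * x * y * x ∈ J ^ 6 := by
      have h1 := Loc.mul_mem (i := 1) (l := 6) rfl (Loc.mem_one hx) hμ
      have h2' := Loc.mul_mem (j := 1) (l := 6) rfl hμ (Loc.mem_one hx)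
      have w1 : x * (x * y * x * y) ∈ J ^ 6 := by
        rw [show x * (x * y * x * y) = (x * (x * y * x)) * y by simp only [mul_assoc]]
        exact Loc.mul_mem (j := 1) rfl z1 (Loc.mem_one hy)
      have w2 : y * x * y * x * x ∈ J ^ 6 := by
        rw [mul_assoc (y * x * y)]; exact Loc.mul_mem rfl hv hxx
      by_cases hμ1 : μ = 1
      · subst hμ1
        have := Submodule.sub_mem _ w1 h1
        have h' := Submodule.sub_mem _ this w1
        simpa [mul_sub, mul_add, ← mul_assoc] using h'
      · have := (J ^ 6).smul_mem (1 - μ)⁻¹ (Submodule.add_mem _ h2' ((J ^ 6).smul_mem μ w2))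
        convert this using 1
        rw [eq_inv_smul_iff₀ (sub_ne_zero.2 fun e => hμ1 e.symm)]
        simp only [sub_mul, add_mul, smul_mul_assoc, smul_add]
        module
    have hyxyxy : y * x * y * x * y ∈ J ^ 6 := by
      have h1 := Loc.mul_mem (i := 1) (l := 6) rfl (Loc.mem_one hy) hμ
      have h2' := Loc.mul_mem (j := 1) (l := 6) rfl hμ (Loc.mem_one hy)
      have w1 : y * (y * x * y * x) ∈ J ^ 6 := by
        rw [show y * (y * x * y * x) = (y * (y * x * y)) * x by simp only [mul_assoc]]
        exact Loc.mul_mem (j := 1) rfl z2 (Loc.mem_one hx)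
      have w2 : x * y * x * y * y ∈ J ^ 6 := by
        rw [mul_assoc (x * y * x)]; exact Loc.mul_mem rfl hu hyy
      by_cases hμ1 : μ = 1
      · subst hμ1
        have := Submodule.sub_mem _ w2 h2'
        have h' := Submodule.sub_mem _ this w2
        simpa [sub_mul, add_mul, ← mul_assoc] using h'
      · have := (J ^ 6).smul_mem (1 - μ)⁻¹ (Submodule.add_mem _ h1 ((J ^ 6).smul_mem μ w1))
        convert this using 1
        rw [eq_inv_smul_iff₀ (sub_ne_zero.2 fun e => hμ1 e.symm)]
        simp only [mul_sub, mul_add, mul_smul_comm, smul_add, ← mul_assoc]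
        module
    set w := x * y * x * y + y * x * y * x with hw
    have hw4 : w ∈ J ^ 4 := Submodule.add_mem _ (Loc.mul_mem (j := 1) rfl hu (Loc.mem_one hy))
      (Loc.mul_mem (j := 1) rfl hv (Loc.mem_one hx))
    have hsp : J ^ 4 ≤ Submodule.span k {w, 0} ⊔ J ^ (4 + 1) :=
      h4.trans (sup_le_sup (Submodule.span_mono (by simp [hw])) le_rfl)
    refine h.ne_bot (i := 5) (by norm_num) hm (Blocks.Dihedral.pow_eq_bot_of_le J h.mul h.bot
      (by norm_num) (left_layer hx hy hgen hw4 (Submodule.zero_mem _) hsp le_rfl ?_ (by simp) ?_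
        (by simp)))
    · rw [hw, mul_add]
      refine Submodule.add_mem _ ?_ (by simpa [mul_assoc] using hxyxyx)
      rw [show x * (x * y * x * y) = (x * (x * y * x)) * y by simp only [mul_assoc]]
      exact Loc.mul_mem (j := 1) rfl z1 (Loc.mem_one hy)
    · rw [hw, mul_add]
      refine Submodule.add_mem _ (by simpa [mul_assoc] using hyxyxy) ?_
      rw [show y * (y * x * y * x) = (y * (y * x * y)) * x by simp only [mul_assoc]]
      exact Loc.mul_mem (j := 1) rfl z2 (Loc.mem_one hx)
  · push Not at hind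
    obtain ⟨a, b, hab, hne⟩ := hind
    have r1 : b • (x * y * x * y) ∈ J ^ 5 := by
      have := Submodule.sub_mem _ (Loc.mul_mem (i := 1) (l := 5) rfl (Loc.mem_one hx) hab)
        ((J ^ 5).smul_mem a z1)
      simpa [mul_add, ← mul_assoc] using this
    have r2 : b • (y * x * y * x) ∈ J ^ 5 := by
      have := Submodule.sub_mem _ (Loc.mul_mem (j := 1) (l := 5) rfl hab (Loc.mem_one hx))
        ((J ^ 5).smul_mem a z3)
      simpa [add_mul] using this
    have r3 : a • (y * x * y * x) ∈ J ^ 5 := by
      have := Submodule.sub_mem _ (Loc.mul_mem (i := 1) (l := 5) rfl (Loc.mem_one hy) hab)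
        ((J ^ 5).smul_mem b z2)
      simpa [mul_add, ← mul_assoc] using this
    have r4 : a • (x * y * x * y) ∈ J ^ 5 := by
      have := Submodule.sub_mem _ (Loc.mul_mem (j := 1) (l := 5) rfl hab (Loc.mem_one hy))
        ((J ^ 5).smul_mem b z4)
      simpa [add_mul] using this
    have hboth : x * y * x * y ∈ J ^ 5 ∧ y * x * y * x ∈ J ^ 5 := by
      by_cases hb : b = 0
      · have ha : a ≠ 0 := fun e0 => hne e0 hb
        exact ⟨by simpa [smul_smul, inv_mul_cancel₀ ha] using (J ^ 5).smul_mem a⁻¹ r4,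
          by simpa [smul_smul, inv_mul_cancel₀ ha] using (J ^ 5).smul_mem a⁻¹ r3⟩
      · exact ⟨by simpa [smul_smul, inv_mul_cancel₀ hb] using (J ^ 5).smul_mem b⁻¹ r1,
          by simpa [smul_smul, inv_mul_cancel₀ hb] using (J ^ 5).smul_mem b⁻¹ r2⟩
    refine h.not_le_succ (i := 4) (by norm_num) (by omega)
      (left_layer hx hy hgen hu hv h3 le_rfl z1 ?_ ?_ z2)
    · simpa [mul_assoc] using hboth.1
    · simpa [mul_assoc] using hboth.2

end

end Cfsg.Agent.BlockChar.CentreFive
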