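import Cfsg.Agent.BlockChar.CentreFive.Three
import Cfsg.Agent.BlockChar.CentreFive.Skew

/-!
# A local symmetric algebra with five-dimensional centre has dimension at most eight

The radical has dimension at most seven.
-/

set_option autoImplicit false

namespace Cfsg.Agent.BlockChar.CentreFive

open Module

variable {k B : Type*} [Field k] [Ring B] [Algebra k B] {τ : B →ₗ[k] k} {J : Submodule k B} {m : ℕ}

theorem sq_mem_two {a b : B} (ha : a ∈ J) (hb : b ∈ J) : a * b ∈ J ^ 2 :=
  Loc.mul_mem (i := 1) (j := 1) rfl (Loc.mem_one ha) (Loc.mem_one hb)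

/-- If one element spans the square modulo the cube and the cube is non-zero, the radical
commutes. -/
theorem comm_eq_bot_of_one (h : Loc τ J m) (hm : 3 ≤ m) {w : B}
    (h2 : J ^ 2 ≤ Submodule.span k {w} ⊔ J ^ 3) : comm J = ⊥ := by
  classical
  by_cases hsq : ∀ v ∈ J, v * v ∈ J ^ 3
  · exfalso
    refine h.not_le_succ (i := 3) (by norm_num) hm ?_
    obtain ⟨a, ha, b, hb, hab⟩ : ∃ a ∈ J, ∃ b ∈ J, a * b ∉ J ^ 3 := by
      by_contra hall
      push Not at hall
      refine h.not_le_succ (i := 2) (by norm_num) (by omega) ?_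
      rw [pow_two, Submodule.mul_le]
      exact hall
    obtain ⟨t₀, ht₀⟩ := Blocks.Dihedral.mem_span_singleton_sup.1 (h2 (sq_mem_two ha hb))
    have ht0 : t₀ ≠ 0 := fun e => hab (by simpa [e] using ht₀)
    have hspan : ∀ q ∈ J ^ 2, ∃ t : k, q - t • (a * b) ∈ J ^ 3 := fun q hq => by
      obtain ⟨r, hr⟩ := Blocks.Dihedral.mem_span_singleton_sup.1 (h2 hq)
      refine ⟨r * t₀⁻¹, ?_⟩
      convert Submodule.sub_mem _ hr ((J ^ 3).smul_mem (r * t₀⁻¹) ht₀) using 1
      match_scalars <;> field_simp <;> ring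
    rw [pow_succ' J 2, Submodule.mul_le]
    intro e he q hq
    obtain ⟨t, ht⟩ := hspan q hq
    obtain ⟨s, hs⟩ := hspan (e * a) (sq_mem_two he ha)
    rw [show e * q = e * (q - t • (a * b)) +
      t • ((e * a - s • (a * b)) * b + s • (a * (b * b))) by
        simp only [mul_sub, sub_mul, mul_smul_comm, smul_mul_assoc, mul_assoc, smul_add, smul_sub]
        abel]
    exact Submodule.add_mem _ (mul_three_left he ht) (Submodule.smul_mem _ _ (Submodule.add_mem _
      (mul_three_right hb hs) (Submodule.smul_mem _ _ (mul_three_left ha (hsq b hb)))))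
  push Not at hsq
  obtain ⟨v, hv, hvv⟩ := hsq
  -- left multiplication by `v` climbs
  have h21 : J ^ 2 ≤ Submodule.span k {v * v} ⊔ J ^ 3 := by
    obtain ⟨t₀, ht₀⟩ := Blocks.Dihedral.mem_span_singleton_sup.1 (h2 (sq_mem_two hv hv))
    have ht0 : t₀ ≠ 0 := fun e => hvv (by simpa [e] using ht₀)
    intro q hq
    obtain ⟨r, hr⟩ := Blocks.Dihedral.mem_span_singleton_sup.1 (h2 hq)
    refine Blocks.Dihedral.mem_span_singleton_sup.2 ⟨r * t₀⁻¹, ?_⟩
    convert Submodule.sub_mem _ hr ((J ^ 3).smul_mem (r * t₀⁻¹) ht₀) using 1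
    match_scalars <;> field_simp <;> ring
  have hpow : ∀ s, J ^ (s + 2) ≤ Submodule.span k {v ^ (s + 2)} ⊔ J ^ (s + 3) := by
    have hstep : ∀ s, J ^ (s + 1 + 1) ≤
        Submodule.map (LinearMap.mulLeft k v) (J ^ (s + 1)) ⊔ J ^ (s + 1 + 2) := by
      intro s
      induction s with
      | zero =>
        refine h21.trans (sup_le_sup ?_ le_rfl)
        rw [Submodule.span_singleton_le_iff_mem]
        exact ⟨v, Loc.mem_one hv, rfl⟩
      | succ s ih => exact left_succ ih
    intro s
    induction s with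
    | zero => rw [zero_add, pow_two v]; exact h21
    | succ s ih =>
      refine (hstep (s + 1)).trans (sup_le ?_ le_sup_right)
      rintro _ ⟨q, hq, rfl⟩
      obtain ⟨t, ht⟩ := Blocks.Dihedral.mem_span_singleton_sup.1 (ih hq)
      refine Blocks.Dihedral.mem_span_singleton_sup.2 ⟨t, ?_⟩
      rw [LinearMap.mulLeft_apply, show s + 1 + 2 = (s + 2) + 1 by omega, pow_succ' v (s + 2),
        ← mul_smul_comm, ← mul_sub]
      exact Loc.mul_mem (i := 1) (by omega) (Loc.mem_one hv) ht
  set C := Submodule.span k (Set.range fun s : ℕ => v ^ (s + 2))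
  have hC : J ^ 2 ≤ C := by
    have hclimb : ∀ s, J ^ 2 ≤ C ⊔ J ^ (s + 2) := by
      intro s
      induction s with
      | zero => exact le_sup_right
      | succ s ih =>
        refine ih.trans (sup_le le_sup_left ((hpow s).trans (sup_le ?_ le_sup_right)))
        exact ((Submodule.span_singleton_le_iff_mem (v ^ (s + 2)) C).2
          (Submodule.subset_span ⟨s, rfl⟩)).trans le_sup_left
    intro q hq
    obtain ⟨c, hc, r, hr, rfl⟩ := Submodule.mem_sup.1 (hclimb m hq)
    rw [h.eq_zero (by omega) hr, add_zero]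
    exact hc
  have hcv : ∀ q ∈ J ^ 2, Commute v q := by
    intro q hq
    have hq' := hC hq
    clear hq
    induction hq' using Submodule.span_induction with
    | mem b hb => obtain ⟨s, rfl⟩ := hb; exact Commute.self_pow v _
    | zero => exact Commute.zero_right _
    | add b c _ _ h1 h2 => exact h1.add_right h2
    | smul c b _ h1 => exact h1.smul_right c
  -- nothing in the square but the top is annihilated by `v`
  have hann : ∀ c ∈ J ^ 2, τ c = 0 → v * c = 0 → c = 0 := by
    intro c hc hτc hvc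
    have hj : ∀ j, j + 2 ≤ m → c ∈ J ^ (j + 2) := by
      intro j
      induction j with
      | zero => exact fun _ => hc
      | succ j ih =>
        intro hj
        obtain ⟨t, ht⟩ := Blocks.Dihedral.mem_span_singleton_sup.1 (hpow j (ih (by omega)))
        by_cases ht0 : t = 0
        · simpa [ht0] using ht
        exfalso
        have h0 : v ^ (j + 1 + 2) ∈ J ^ (j + 1 + 2 + 1) := by
          have h1 := Loc.mul_mem (i := 1) (l := j + 1 + 2 + 1) (by omega) (Loc.mem_one hv) ht
          rw [mul_sub, hvc, zero_sub, Submodule.neg_mem_iff, mul_smul_comm,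
            Submodule.smul_mem_iff _ ht0, ← pow_succ'] at h1
          rwa [show j + 1 + 2 = j + 2 + 1 by omega]
        refine h.not_le_succ (i := j + 1 + 2) (by omega) hj ((hpow (j + 1)).trans (sup_le ?_ ?_))
        · rw [Submodule.span_singleton_le_iff_mem]; exact h0
        · rw [show j + 1 + 3 = j + 1 + 2 + 1 by omega]
    exact h.top_inj (by simpa [show m - 2 + 2 = m by omega] using hj (m - 2) (by omega)) hτc
  have hτc : ∀ p q : B, τ (p * q - q * p) = 0 := fun p q => by rw [map_sub, h.symm, sub_self]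
  have hvall : ∀ p ∈ J, v * p = p * v := fun p hp => by
    refine sub_eq_zero.1 (hann _ (Submodule.sub_mem _ (sq_mem_two hv hp) (sq_mem_two hp hv))
      (hτc v p) ?_)
    rw [mul_sub, (hcv _ (sq_mem_two hv hp)).eq, mul_assoc, sub_self]
  have hCall : ∀ q ∈ J ^ 2, ∀ p ∈ J, q * p = p * q := by
    intro q hq p hp
    have hq' := hC hq
    clear hq
    induction hq' using Submodule.span_induction with
    | mem b hb => obtain ⟨s, rfl⟩ := hb; exact ((show Commute v p from hvall p hp).pow_left _).eq
    | zero => simp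
    | add b c _ _ h1 h2 => rw [add_mul, mul_add, h1, h2]
    | smul c b _ h1 => rw [smul_mul_assoc, mul_smul_comm, h1]
  refine (Submodule.eq_bot_iff _).2 fun z hz => ?_
  induction hz using Submodule.span_induction with
  | mem c hc =>
    obtain ⟨p, hp, q, hq, rfl⟩ := hc
    refine hann _ (Submodule.sub_mem _ (sq_mem_two hp hq) (sq_mem_two hq hp)) (hτc p q) ?_
    rw [mul_sub, ← mul_assoc v q, hCall _ (sq_mem_two hv hq) p hp, ← mul_assoc p, ← hvall p hp,
      mul_assoc v p q, sub_self]
  | zero => rfl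
  | add a b _ _ h1 h2 => rw [h1, h2, add_zero]
  | smul c a _ h1 => rw [h1, smul_zero]

/-- Facts for a pair of generators when no element spans the square modulo the cube. -/
theorem pair_facts [FiniteDimensional k B] (h : Loc τ J m) (hm : 3 ≤ m)
    (hn : finrank k J = finrank k (J ^ 2 : Submodule k B) + 2)
    (h1 : ¬ ∃ w : B, J ^ 2 ≤ Submodule.span k {w} ⊔ J ^ 3) {x y : B} (hx : x ∈ J) (hy : y ∈ J)
    (hgen : J ≤ Submodule.span k {x, y} ⊔ J ^ 2) :
    x * y - y * x ∉ J ^ 3 ∧ comm J ⊔ J ^ m = Submodule.span k {x * y - y * x} ⊔ J ^ 3 ∧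
      J ^ 3 ≤ Submodule.span k {w : B | ∃ x ∈ J, ∃ q ∈ J ^ 2, w = x * q - q * x} ⊔ J ^ m := by
  classical
  set c := x * y - y * x with hc
  set BR := Submodule.span k {w : B | ∃ x ∈ J, ∃ q ∈ J ^ 2, w = x * q - q * x}
  have hBR : BR ≤ J ^ 3 := brk_le J
  have hcl : comm J ≤ Submodule.span k {c} ⊔ BR :=
    Blocks.Dihedral.commSpan_le J h.mul hx hy fun e he => mem_span_pair_sup.1 (hgen he)
  have hL : comm J ⊔ J ^ m ≤ Submodule.span k {c} ⊔ J ^ 3 :=
    sup_le (hcl.trans (sup_le_sup le_rfl hBR)) ((h.anti (by norm_num) hm).trans le_sup_right)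
  have hP : J ^ 3 ≤ J ^ 2 := h.anti (by norm_num) (by norm_num)
  have hdimL := h.finrank_comm_sup_top
  have hcod := h.codim
  have hc2 : c ∈ J ^ 2 := Submodule.sub_mem _ (sq_mem_two hx hy) (sq_mem_two hy hx)
  have hc3 : c ∉ J ^ 3 := by
    intro hc3
    have hle : Submodule.span k {c} ⊔ J ^ 3 ≤ J ^ 3 :=
      sup_le ((Submodule.span_singleton_le_iff_mem _ _).2 hc3) le_rfl
    have hd := Submodule.finrank_mono (hL.trans hle)
    obtain ⟨w, hw, hw3⟩ := SetLike.not_le_iff_exists.1 (h.not_le_succ (i := 2) (by norm_num) (by omega))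
    refine h1 ⟨w, (Submodule.eq_of_le_of_finrank_le
      (sup_le ((Submodule.span_singleton_le_iff_mem _ _).2 hw) hP) ?_).ge⟩
    have := Submodule.finrank_lt_finrank_of_lt (lt_of_le_not_ge
      (le_sup_right : J ^ 3 ≤ Submodule.span k {w} ⊔ J ^ 3) fun hle =>
        hw3 (hle (Submodule.mem_sup_left (Submodule.mem_span_singleton_self w))))
    omega
  have hlt : Submodule.span k {c} ⊔ J ^ 3 < J ^ 2 :=
    lt_of_le_not_ge (sup_le ((Submodule.span_singleton_le_iff_mem _ _).2 hc2) hP)
      fun hle => h1 ⟨c, hle⟩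
  have hd := Submodule.finrank_lt_finrank_of_lt hlt
  have heq : comm J ⊔ J ^ m = Submodule.span k {c} ⊔ J ^ 3 :=
    Submodule.eq_of_le_of_finrank_le hL (by omega)
  refine ⟨hc3, heq, fun w hw => ?_⟩
  obtain ⟨a, ha, s, hs, rfl⟩ := Submodule.mem_sup.1 (heq.ge (Submodule.mem_sup_right hw))
  obtain ⟨b, hb, r, hr, rfl⟩ := Submodule.mem_sup.1 (hcl ha)
  obtain ⟨t, rfl⟩ := Submodule.mem_span_singleton.1 hb
  have ht : t = 0 := by
    by_contra ht
    refine hc3 ((Submodule.smul_mem_iff _ ht).1 ?_)
    have := Submodule.sub_mem _ hw (Submodule.add_mem _ (hBR hr) (h.anti (by norm_num) hm hs))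
    rwa [show t • c + r + s - (r + s) = t • c by abel] at this
  rw [ht, zero_smul, zero_add]
  exact Submodule.add_mem_sup hr hs

/-- With two generators and no single element spanning the square, the fifth power vanishes. -/
theorem top_le_four [FiniteDimensional k B] [IsAlgClosed k] (h : Loc τ J m) (hm : 5 ≤ m)
    (hn : finrank k J = finrank k (J ^ 2 : Submodule k B) + 2)
    (h1 : ¬ ∃ w : B, J ^ 2 ≤ Submodule.span k {w} ⊔ J ^ 3) {x y : B} (hx : x ∈ J) (hy : y ∈ J)
    (hgen : J ≤ Submodule.span k {x, y} ⊔ J ^ 2) : False := by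
  classical
  obtain ⟨-, heq, -⟩ := pair_facts h (by omega) hn h1 hx hy hgen
  set L := comm J ⊔ J ^ m with hL
  have hL2 : L ≤ J ^ 2 :=
    sup_le (Blocks.Dihedral.commSpan_le_sq J) (h.anti (by norm_num) (by omega))
  have h32 : J ^ 3 ≤ L := le_sup_right.trans heq.ge
  have hdimL := h.finrank_comm_sup_top
  have hcod := h.codim
  rw [← hL] at hdimL
  have htop : ∀ q ∈ J ^ 2, q ∉ L → J ^ 2 ≤ Submodule.span k {q} ⊔ L := by
    intro q hq hqL
    refine (Submodule.eq_of_le_of_finrank_le
      (sup_le ((Submodule.span_singleton_le_iff_mem _ _).2 hq) hL2) ?_).ge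
    have := Submodule.finrank_lt_finrank_of_lt (lt_of_le_not_ge
      (le_sup_right : L ≤ Submodule.span k {q} ⊔ L) fun hle =>
        hqL (hle (Submodule.mem_sup_left (Submodule.mem_span_singleton_self q))))
    omega
  by_cases hsq : ∃ v ∈ J, v * v ∉ L
  · obtain ⟨v, hv, hvL⟩ := hsq
    have hv2 : v ∉ J ^ 2 := fun hv2 => hvL (h32 (h.anti (by norm_num) (by norm_num : 3 ≤ 4)
      (Loc.mul_mem (i := 2) (j := 2) rfl hv2 hv2)))
    have hSJ : Submodule.span k {v} ⊔ J ^ 2 ≤ J :=
      sup_le ((Submodule.span_singleton_le_iff_mem _ _).2 hv) (h.le_self (by norm_num))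
    have hS : finrank k (Submodule.span k {v} ⊔ J ^ 2 : Submodule k B) =
        finrank k (J ^ 2 : Submodule k B) + 1 := by
      refine le_antisymm ((Submodule.finrank_add_le_finrank_add_finrank _ _).trans ?_) ?_
      · rw [finrank_span_singleton (fun e0 : v = 0 => hv2 (e0 ▸ Submodule.zero_mem _)), add_comm]
      · exact Submodule.finrank_lt_finrank_of_lt (lt_of_le_not_ge le_sup_right fun hle =>
          hv2 (hle (Submodule.mem_sup_left (Submodule.mem_span_singleton_self v))))
    obtain ⟨e, heJ, he⟩ := exists_gen (n := 1) hSJ (by omega)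
    set u := e 0 with hu
    have hgen' : ∀ g : k, J ≤ Submodule.span k {v, u - g • v} ⊔ J ^ 2 := by
      intro g
      have hvm : v ∈ Submodule.span k {v, u - g • v} := Submodule.subset_span (Or.inl rfl)
      refine he.trans (sup_le ?_ (sup_le ?_ le_sup_right))
      · refine (Submodule.span_le.2 ?_).trans le_sup_left
        rintro _ ⟨i, rfl⟩
        fin_cases i
        exact Submodule.mem_span_pair.2 ⟨g, 1, by simp [hu]⟩
      · exact ((Submodule.span_singleton_le_iff_mem _ _).2 hvm).trans le_sup_left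
    have huJ : u ∈ J := heJ 0
    obtain ⟨-, heq0, -⟩ := pair_facts h (by omega) hn h1 hv huJ (by simpa using hgen' 0)
    rw [← hL] at heq0
    set c := v * u - u * v with hc
    obtain ⟨g, hg⟩ := Blocks.Dihedral.mem_span_singleton_sup.1
      (htop _ (sq_mem_two hv hv) hvL (sq_mem_two hv huJ))
    set w := u - g • v with hw
    have hwJ : w ∈ J := J.sub_mem huJ (J.smul_mem _ hv)
    obtain ⟨hc3, heq1, hK⟩ := pair_facts h (by omega) hn h1 hv hwJ (hgen' g)
    have hcw : v * w - w * v = c := by
      rw [hw, hc]; simp only [mul_sub, sub_mul, smul_mul_assoc, mul_smul_comm]; abel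
    rw [hcw] at hc3
    rw [← hL] at heq1
    rw [heq0] at hg
    obtain ⟨δ, hδ⟩ := Blocks.Dihedral.mem_span_singleton_sup.1
      (show v * w ∈ Submodule.span k {c} ⊔ J ^ 3 by
        rw [hw, mul_sub, mul_smul_comm]; exact hg)
    obtain ⟨α, hα'⟩ := Blocks.Dihedral.mem_span_singleton_sup.1
      (htop _ (sq_mem_two hv hv) hvL (sq_mem_two hwJ hwJ))
    rw [heq0] at hα'
    obtain ⟨β, hβ⟩ := Blocks.Dihedral.mem_span_singleton_sup.1 hα'
    have hwv : w * v - (δ - 1) • c ∈ J ^ 3 := by
      convert hδ using 1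
      rw [sub_smul, one_smul, ← hcw]; abel
    have hsp : J ^ 2 ≤ Submodule.span k {v * v} ⊔ (Submodule.span k {c} ⊔ J ^ 3) :=
      heq0 ▸ htop _ (sq_mem_two hv hv) hvL
    by_cases hδ0 : δ = 0
    · subst hδ0
      rw [zero_smul, sub_zero] at hδ
      rw [zero_sub, neg_smul, one_smul, sub_neg_eq_add] at hwv
      refine not_layer_four_of_zero h hv hwJ (hgen' g) hm (α := α) (β := -β) ?_ hδ ?_ hK
      · refine hsp.trans (sup_le ((Submodule.span_mono (by simp)).trans le_sup_left)
          (sup_le ?_ le_sup_right))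
        rw [Submodule.span_singleton_le_iff_mem,
          show c = (-1 : k) • (w * v) + (w * v + c) by module]
        exact Submodule.add_mem_sup (Submodule.smul_mem _ _ (Submodule.subset_span (by simp))) hwv
      · convert Submodule.add_mem _ hβ ((J ^ 3).smul_mem β hwv) using 1
        module
    · set l := (δ - 1) * δ⁻¹ with hl
      have hl1 : l ≠ 1 := fun e => by
        rw [hl, mul_inv_eq_one₀ hδ0, sub_eq_self] at e
        exact one_ne_zero e
      refine not_layer_four_of_skew h hv hwJ (hgen' g) hm (α := α) (β := β * δ⁻¹) hl1 ?_ ?_ ?_ hK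
      · refine hsp.trans (sup_le ((Submodule.span_mono (by simp)).trans le_sup_left)
          (sup_le ?_ le_sup_right))
        rw [Submodule.span_singleton_le_iff_mem,
          show c = δ⁻¹ • (v * w) + (-δ⁻¹) • (v * w - δ • c) by
            match_scalars <;> field_simp <;> ring]
        exact Submodule.add_mem_sup (Submodule.smul_mem _ _ (Submodule.subset_span (by simp)))
          (Submodule.smul_mem _ _ hδ)
      · convert Submodule.sub_mem _ hwv ((J ^ 3).smul_mem l hδ) using 1
        rw [hl]
        match_scalars <;> field_simp <;> ring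
      · convert Submodule.sub_mem _ hβ ((J ^ 3).smul_mem (β * δ⁻¹) hδ) using 1
        match_scalars <;> field_simp <;> ring
  · push Not at hsq
    -- all squares are commutators, so the characteristic is two
    have hanti : ∀ p ∈ J, ∀ q ∈ J, p * q + q * p ∈ L := fun p hp q hq => by
      rw [show p * q + q * p = (p + q) * (p + q) - (p * p + q * q) by
        simp only [add_mul, mul_add]; abel]
      exact L.sub_mem (hsq _ (J.add_mem hp hq)) (L.add_mem (hsq p hp) (hsq q hq))
    have htwo : (2 : k) = 0 := by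
      by_contra htwo
      obtain ⟨q, hq, hqL⟩ := SetLike.not_le_iff_exists.1 (fun hle : J ^ 2 ≤ L =>
        h1 ⟨x * y - y * x, hle.trans heq.le⟩)
      refine hqL ?_
      have hle : J ^ 2 ≤ L := by
        rw [pow_two, Submodule.mul_le]
        intro p hp q hq
        refine (Submodule.smul_mem_iff _ htwo).1 ?_
        rw [show (2 : k) • (p * q) = (p * q + q * p) + (p * q - q * p) by module]
        exact L.add_mem (hanti p hp q hq)
          (Submodule.mem_sup_left (Submodule.subset_span ⟨p, hp, q, hq, rfl⟩))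
      exact hle hq
    -- make both squares vanish
    obtain ⟨x', y', hx', hy', hgen', hxx⟩ : ∃ x' y' : B, x' ∈ J ∧ y' ∈ J ∧
        J ≤ Submodule.span k {x', y'} ⊔ J ^ 2 ∧ x' * x' ∈ J ^ 3 := by
      obtain ⟨b, hb⟩ := Blocks.Dihedral.mem_span_singleton_sup.1
        (heq.le (show y * y ∈ L from hsq y hy))
      by_cases hb0 : b = 0
      · exact ⟨y, x, hy, hx, by rwa [Set.pair_comm], by simpa [hb0] using hb⟩
      obtain ⟨a, ha⟩ := Blocks.Dihedral.mem_span_singleton_sup.1
        (heq.le (show x * x ∈ L from hsq x hx))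
      obtain ⟨t, ht⟩ : ∃ t : k, b * t * t + t + a = 0 := by
        obtain ⟨t, ht⟩ := IsAlgClosed.exists_root
          (Polynomial.C b * Polynomial.X ^ 2 + Polynomial.C 1 * Polynomial.X + Polynomial.C a)
          (by rw [Polynomial.degree_quadratic hb0]; norm_num)
        refine ⟨t, ?_⟩
        simp only [Polynomial.IsRoot.def, Polynomial.eval_add, Polynomial.eval_mul,
          Polynomial.eval_C, Polynomial.eval_pow, Polynomial.eval_X, one_mul] at ht
        linear_combination ht
      refine ⟨x + t • y, y, J.add_mem hx (J.smul_mem _ hy), hy, hgen.trans (sup_le_sup ?_ le_rfl), ?_⟩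
      · rw [Submodule.span_le]
        intro p hp
        rcases hp with e | e <;> rw [SetLike.mem_coe, e]
        · exact Submodule.mem_span_pair.2 ⟨1, -t, by module⟩
        · exact Submodule.subset_span (by simp)
      · have := Submodule.add_mem _ ha ((J ^ 3).smul_mem (t * t) hb)
        convert this using 1
        have e0 : (2 : k) • (y * x) = 0 := by rw [htwo, zero_smul]
        have e1 : (b * t * t + t + a) • (x * y - y * x) = 0 := by rw [ht, zero_smul]
        have e2 : (x + t • y) * (x + t • y) =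
            x * x + (t * t) • (y * y) + t • (x * y - y * x) + t • ((2 : k) • (y * x)) := by
          simp only [add_mul, mul_add, smul_mul_assoc, mul_smul_comm, smul_smul]
          module
        rw [e2, e0, smul_zero, add_zero, ← sub_eq_zero, ← e1]
        module
    obtain ⟨-, heq', -⟩ := pair_facts h (by omega) hn h1 hx' hy' hgen'
    rw [← hL] at heq'
    obtain ⟨b, hb⟩ := Blocks.Dihedral.mem_span_singleton_sup.1
      (heq'.le (show y' * y' ∈ L from hsq y' hy'))
    set y'' := y' + (-b) • x' with hy''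
    have hy''J : y'' ∈ J := J.add_mem hy' (J.smul_mem _ hx')
    have hgen'' : J ≤ Submodule.span k {x', y''} ⊔ J ^ 2 := by
      refine hgen'.trans (sup_le_sup ?_ le_rfl)
      rw [Submodule.span_le]
      intro p hp
      rcases hp with e | e <;> rw [SetLike.mem_coe, e]
      · exact Submodule.subset_span (by simp)
      · exact Submodule.mem_span_pair.2 ⟨b, 1, by rw [hy'']; module⟩
    obtain ⟨-, heq'', hK⟩ := pair_facts h (by omega) hn h1 hx' hy''J hgen''
    rw [← hL] at heq''
    have hyy : y'' * y'' ∈ J ^ 3 := by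
      have := Submodule.add_mem _ hb ((J ^ 3).smul_mem (b * b) hxx)
      convert this using 1
      have e0 : (2 : k) • (y' * x') = 0 := by rw [htwo, zero_smul]
      have e2 : y'' * y'' = y' * y' + (b * b) • (x' * x') - b • (x' * y' - y' * x') -
          b • ((2 : k) • (y' * x')) := by
        simp only [hy'', add_mul, mul_add, smul_mul_assoc, mul_smul_comm, smul_smul]
        module
      rw [e2, e0, smul_zero, sub_zero]
      abel
    have hxy : J ^ 2 ≤ Submodule.span k {x' * y'', y'' * x'} ⊔ J ^ 3 := by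
      rw [pow_two, Submodule.mul_le]
      intro p hp q hq
      obtain ⟨r, s, hp'⟩ := mem_span_pair_sup.1 (hgen'' hp)
      obtain ⟨r', s', hq'⟩ := mem_span_pair_sup.1 (hgen'' hq)
      refine mem_span_pair_sup.2 ⟨r * s', s * r', ?_⟩
      have := Submodule.add_mem _ (Submodule.add_mem _ ((J ^ 3).smul_mem (r * r') hxx)
        ((J ^ 3).smul_mem (s * s') hyy)) (Submodule.add_mem _
          (Loc.mul_mem (i := 2) (j := 1) (l := 3) rfl hp' (Loc.mem_one hq))
          (Loc.mul_mem (i := 1) (j := 2) (l := 3) rfl (Loc.mem_one (show r • x' + s • y'' ∈ J from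
            J.add_mem (J.smul_mem _ hx') (J.smul_mem _ hy''J))) hq'))
      convert this using 1
      simp only [sub_mul, mul_sub, add_mul, smul_mul_assoc, mul_smul_comm, smul_add, smul_sub,
        smul_smul]
      module
    exact not_layer_four_of_two h hx' hy''J hgen'' hm htwo hxy hxx hyy hK

/-- With two generators the radical has dimension at most seven. -/
theorem finrank_le_of_two [FiniteDimensional k B] [IsAlgClosed k] (h : Loc τ J m)
    (hn : finrank k J = finrank k (J ^ 2 : Submodule k B) + 2) : finrank k J ≤ 7 := by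
  classical
  rcases Nat.lt_or_ge m 3 with hm3 | hm3
  · have h2 : finrank k (J ^ 2 : Submodule k B) ≤ 1 := by
      rcases Nat.lt_or_ge m 2 with hm2 | hm2
      · rw [show J ^ 2 = ⊥ from (Submodule.eq_bot_iff _).2 fun x hx => h.eq_zero hm2 hx,
          finrank_bot]
        omega
      · obtain rfl : m = 2 := by omega
        exact h.finrank_top_le
    omega
  by_cases h1 : ∃ w : B, J ^ 2 ≤ Submodule.span k {w} ⊔ J ^ 3
  · obtain ⟨w, hw⟩ := h1
    have := h.codim
    rw [comm_eq_bot_of_one h hm3 hw, finrank_bot] at this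
    omega
  obtain ⟨e, heJ, he⟩ := exists_gen (n := 2) (h.le_self (by norm_num : 1 ≤ 2)) hn
  have hgen : J ≤ Submodule.span k {e 0, e 1} ⊔ J ^ 2 := by
    refine he.trans (sup_le_sup (Submodule.span_le.2 ?_) le_rfl)
    rintro _ ⟨i, rfl⟩
    fin_cases i <;> exact Submodule.subset_span (by simp)
  obtain ⟨hc3, heq, -⟩ := pair_facts h hm3 hn h1 (heJ 0) (heJ 1) hgen
  have hm4 : m ≤ 4 := by
    by_contra hlt
    exact top_le_four h (by omega) hn h1 (heJ 0) (heJ 1) hgen
  -- two elements span the square
  set c := e 0 * e 1 - e 1 * e 0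
  have h2 : Two J 2 := by
    obtain ⟨q, hq, hqL⟩ := SetLike.not_le_iff_exists.1
      (fun hle : J ^ 2 ≤ Submodule.span k {c} ⊔ J ^ 3 => h1 ⟨c, hle⟩)
    refine ⟨q, c, ?_⟩
    have hc2 : c ∈ J ^ 2 :=
      Submodule.sub_mem _ (sq_mem_two (heJ 0) (heJ 1)) (sq_mem_two (heJ 1) (heJ 0))
    have hle : Submodule.span k {q} ⊔ (Submodule.span k {c} ⊔ J ^ 3) ≤ J ^ 2 :=
      sup_le ((Submodule.span_singleton_le_iff_mem _ _).2 hq)
        (sup_le ((Submodule.span_singleton_le_iff_mem _ _).2 hc2) (h.anti (by norm_num) (by norm_num)))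
    have hlt := Submodule.finrank_lt_finrank_of_lt (lt_of_le_not_ge
      (le_sup_right : Submodule.span k {c} ⊔ J ^ 3 ≤
        Submodule.span k {q} ⊔ (Submodule.span k {c} ⊔ J ^ 3))
      fun hle => hqL (hle (Submodule.mem_sup_left (Submodule.mem_span_singleton_self q))))
    have hdimL := h.finrank_comm_sup_top
    rw [heq] at hdimL
    have hcod := h.codim
    rw [← Submodule.eq_of_le_of_finrank_le hle (by omega), Submodule.span_insert, sup_assoc]
  have h3 := Loc.finrank_two_le (two_stays_two h2 3 (by norm_num))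
  have h2' := Loc.finrank_two_le h2
  simp only [Nat.reduceAdd] at h2' h3
  rcases Nat.lt_or_ge m 4 with hlt | hge
  · rw [show J ^ 4 = ⊥ from (Submodule.eq_bot_iff _).2 fun x hx => h.eq_zero (by omega) hx,
      finrank_bot] at h3
    omega
  · obtain rfl : m = 4 := by omega
    have := h.finrank_top_le
    omega

/-- The radical of a local symmetric algebra with five-dimensional space of traces has dimension at
most seven. -/
theorem finrank_le_seven [FiniteDimensional k B] [IsAlgClosed k] (τ : B →ₗ[k] k)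
    (hτ : ∀ a b : B, τ (a * b) = τ (b * a)) (J : Submodule k B) (hmul : J * J ≤ J) {N : ℕ}
    (hnil : J ^ (N + 1) = ⊥)
    (hW : ∀ W ≤ J, (∀ x ∈ J, ∀ w ∈ W, x * w ∈ W) → (∀ w ∈ W, τ w = 0) → W = ⊥)
    (hcod : finrank k J ≤ finrank k (comm J) + 4) : finrank k J ≤ 7 := by
  classical
  by_cases hJ : J = ⊥
  · rw [hJ, finrank_bot]; omega
  have hex : ∃ i, J ^ (i + 1) = ⊥ := ⟨N, hnil⟩
  set m := Nat.find hex
  have hm1 : 1 ≤ m := by
    by_contra hlt
    have h0 := Nat.find_spec hex
    rw [show Nat.find hex = 0 by omega, zero_add, pow_one] at h0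
    exact hJ h0
  have h : Loc τ J m := ⟨hτ, hmul, fun e => Nat.find_min hex (m := m - 1) (by omega)
    (by rwa [show m - 1 + 1 = m by omega]), Nat.find_spec hex, hm1, hW, hcod⟩
  have hlt : finrank k (J ^ 2 : Submodule k B) < finrank k J := by
    refine Submodule.finrank_lt_finrank_of_lt (lt_of_le_not_ge (h.le_self (by norm_num)) fun hle => ?_)
    exact h.not_le_succ (i := 1) le_rfl hm1 (by rwa [pow_one])
  have hle3 : finrank k J ≤ finrank k (J ^ 2 : Submodule k B) + 3 := by
    rcases Nat.lt_or_ge m 2 with hm2 | hm2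
    · have h0 := h.finrank_top_le
      rw [show m = 1 by omega, pow_one] at h0
      omega
    · have hle : comm J ⊔ J ^ m ≤ J ^ 2 :=
        sup_le (Blocks.Dihedral.commSpan_le_sq J) (h.anti (by norm_num) hm2)
      have := Submodule.finrank_mono hle
      have := h.finrank_comm_sup_top
      omega
  rcases (show finrank k J = finrank k (J ^ 2 : Submodule k B) + 1 ∨
      finrank k J = finrank k (J ^ 2 : Submodule k B) + 2 ∨
      finrank k J = finrank k (J ^ 2 : Submodule k B) + 3 by omega) with h1 | h2 | h3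
  · obtain ⟨e, heJ, he⟩ := exists_gen (n := 1) (h.le_self (by norm_num : 1 ≤ 2)) h1
    have hgen : J ≤ Submodule.span k {e 0} ⊔ J * J := by
      rw [← pow_two]
      refine he.trans (sup_le_sup (Submodule.span_le.2 ?_) le_rfl)
      rintro _ ⟨i, rfl⟩
      fin_cases i
      exact Submodule.mem_span_singleton_self _
    have hcomm := Blocks.Dihedral.commute_of_generator J hmul hnil (heJ 0) hgen
    have h0 : comm J = ⊥ := le_bot_iff.1 (Submodule.span_le.2 (by
      rintro _ ⟨x, hx, y, hy, rfl⟩; simp [hcomm x hx y hy]))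
    rw [h0, finrank_bot] at hcod
    omega
  · exact finrank_le_of_two h h2
  · exact finrank_le_of_three h h3

end Cfsg.Agent.BlockChar.CentreFive
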