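import Mathlib.LinearAlgebra.Trace
import Mathlib.LinearAlgebra.FiniteDimensional.Lemmas
import Mathlib.LinearAlgebra.Matrix.DotProduct
import Mathlib.FieldTheory.IsAlgClosed.Basic
import Mathlib.Tactic

/-!
# Linear syzygies of three quadratic forms in three variables

If the trace zero linear syzygies of a net of quadrics span a space of dimension at least three,
then the quadrics vanish on a plane or their values lie on a line.
-/

set_option autoImplicit false

namespace Cfsg.Agent.BlockChar.CentreFive

open Module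

variable {k : Type*} [Field k]

/-- The three-dimensional coordinate space. -/
abbrev Triple (k : Type*) : Type _ := Fin 3 → k

/-- The quadratic map vanishes on a plane. -/
def PlaneZero (b : Triple k →ₗ[k] Triple k →ₗ[k] Triple k) : Prop :=
  ∃ x y : Triple k, LinearIndependent k ![x, y] ∧
    ∀ s t : k, b (s • x + t • y) (s • x + t • y) = 0

/-- The values of the quadratic map lie on a line. -/
def LineImage (b : Triple k →ₗ[k] Triple k →ₗ[k] Triple k) : Prop :=
  ∃ r : Triple k, ∀ x, ∃ c : k, b x x = c • r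

theorem exists_ne_zero_ne_one [Infinite k] : ∃ t : k, t ≠ 0 ∧ t ≠ 1 := by
  classical
  obtain ⟨t, ht⟩ := Infinite.exists_notMem_finset ({0, 1} : Finset k)
  simp only [Finset.mem_insert, Finset.mem_singleton, not_or] at ht
  exact ⟨t, ht.1, ht.2⟩

theorem quad_ext [Infinite k] {V W : Type*} [AddCommGroup V] [Module k V] [AddCommGroup W]
    [Module k W] (c : V →ₗ[k] V →ₗ[k] W) {l : V →ₗ[k] k} (hl : l ≠ 0)
    (h : ∀ x, l x ≠ 0 → c x x = 0) : ∀ x, c x x = 0 := by
  intro x
  by_cases hx : l x = 0
  · obtain ⟨x₁, hx₁⟩ : ∃ x₁, l x₁ ≠ 0 := by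
      by_contra hall
      push Not at hall
      exact hl (LinearMap.ext hall)
    have key : ∀ t : k, t ≠ 0 → c x x + t • (c x x₁ + c x₁ x) = 0 := by
      intro t ht
      have hne : l (x + t • x₁) ≠ 0 := by simp [hx, ht, hx₁]
      have := h _ hne
      simp only [map_add, map_smul, LinearMap.add_apply, LinearMap.smul_apply, h x₁ hx₁,
        smul_zero, add_zero] at this
      rw [← this, smul_add]
      abel
    obtain ⟨t, ht0, ht1⟩ := exists_ne_zero_ne_one (k := k)
    have h1 := key 1 one_ne_zero
    rw [one_smul] at h1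
    have h2 := key t ht0
    have h3 : (t - 1) • c x x = 0 := by
      have e : (t - 1) • c x x = t • (c x x + (c x x₁ + c x₁ x)) -
          (c x x + t • (c x x₁ + c x₁ x)) := by module
      rw [e, h1, h2, smul_zero, sub_zero]
    exact (smul_eq_zero.1 h3).resolve_left (sub_ne_zero.2 ht1)
  · exact h x hx

theorem eq_zero_of_mul_eq_zero {V : Type*} [AddCommGroup V] [Module k V] {l l' : V →ₗ[k] k}
    (hl : l ≠ 0) (h : ∀ v, l v * l' v = 0) : l' = 0 := by
  obtain ⟨v₁, hv₁⟩ : ∃ v₁, l v₁ ≠ 0 := by
    by_contra hall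
    push Not at hall
    exact hl (LinearMap.ext hall)
  refine LinearMap.ext fun v => ?_
  show l' v = 0
  by_cases hv : l v = 0
  · have h1 := (mul_eq_zero.1 (h v₁)).resolve_left hv₁
    have h2 := (mul_eq_zero.1 (h (v + v₁))).resolve_left (by rw [map_add, hv, zero_add]; exact hv₁)
    rwa [map_add, h1, add_zero] at h2
  · exact (mul_eq_zero.1 (h v)).resolve_left hv

/-- A linear relation between two quadratic forms comes from a common linear factor. -/
theorem common_factor [Infinite k] {V : Type*} [AddCommGroup V] [Module k V]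
    (F G : V →ₗ[k] V →ₗ[k] k) (p q : V →ₗ[k] k) {v₁ v₂ : V} (hp₁ : p v₁ = 1) (hq₁ : q v₁ = 0)
    (hp₂ : p v₂ = 0) (hq₂ : q v₂ = 1) (h : ∀ v, p v * F v v + q v * G v v = 0) :
    ∃ l : V →ₗ[k] k, ∀ v, F v v = q v * l v ∧ G v v = -(p v * l v) := by
  have hp : p ≠ 0 := fun e => by simp [e] at hp₁
  have hq : q ≠ 0 := fun e => by simp [e] at hq₂
  -- `F` vanishes where `q` does
  have hF : ∀ v, q v = 0 → F v v = 0 := by
    intro v hv
    let K := LinearMap.ker q
    have := quad_ext (F.compl₁₂ K.subtype K.subtype) (l := p.comp K.subtype)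
      (fun e => by simpa [hp₁] using LinearMap.congr_fun e ⟨v₁, hq₁⟩)
      (fun x hx => by
        have h0 := h x
        rw [show q (x : V) = 0 from x.2, zero_mul, add_zero] at h0
        exact (mul_eq_zero.1 h0).resolve_left hx) ⟨v, hv⟩
    simpa using this
  have hG : ∀ v, p v = 0 → G v v = 0 := by
    intro v hv
    let K := LinearMap.ker p
    have := quad_ext (G.compl₁₂ K.subtype K.subtype) (l := q.comp K.subtype)
      (fun e => by simpa [hq₂] using LinearMap.congr_fun e ⟨v₂, hp₂⟩)
      (fun x hx => by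
        have h0 := h x
        rw [show p (x : V) = 0 from x.2, zero_mul, zero_add] at h0
        exact (mul_eq_zero.1 h0).resolve_left hx) ⟨v, hv⟩
    simpa using this
  let lF : V →ₗ[k] k := F.flip v₂ + F v₂ - F v₂ v₂ • q
  let lG : V →ₗ[k] k := G.flip v₁ + G v₁ - G v₁ v₁ • p
  have eF : ∀ v, F v v = q v * lF v := by
    intro v
    have h0 := hF (v - q v • v₂) (by simp [hq₂])
    simp only [map_sub, map_smul, LinearMap.sub_apply, LinearMap.smul_apply, smul_eq_mul] at h0
    simp only [lF, LinearMap.sub_apply, LinearMap.add_apply, LinearMap.smul_apply,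
      LinearMap.flip_apply, smul_eq_mul]
    linear_combination h0
  have eG : ∀ v, G v v = p v * lG v := by
    intro v
    have h0 := hG (v - p v • v₁) (by simp [hp₁])
    simp only [map_sub, map_smul, LinearMap.sub_apply, LinearMap.smul_apply, smul_eq_mul] at h0
    simp only [lG, LinearMap.sub_apply, LinearMap.add_apply, LinearMap.smul_apply,
      LinearMap.flip_apply, smul_eq_mul]
    linear_combination h0
  have hprod := quad_ext ((LinearMap.mul k k).compl₁₂ q (lF + lG)) hp fun v hv => by
    have h0 := h v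
    rw [eF, eG] at h0
    show q v * (lF + lG) v = 0
    refine (mul_eq_zero.1 ?_).resolve_left hv
    rw [LinearMap.add_apply]
    linear_combination h0
  have hsum : lF + lG = 0 := eq_zero_of_mul_eq_zero hq hprod
  refine ⟨lF, fun v => ⟨eF v, ?_⟩⟩
  rw [eG, eq_neg_of_add_eq_zero_right (show lF + lG = 0 from hsum), LinearMap.neg_apply, mul_neg]

theorem planeZero_of_ker {b : Triple k →ₗ[k] Triple k →ₗ[k] Triple k} {l : Triple k →ₗ[k] k}
    (hl : l ≠ 0) (h : ∀ v, l v = 0 → b v v = 0) : PlaneZero b := by
  have h1 := LinearMap.finrank_range_add_finrank_ker l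
  have h2 : finrank k (LinearMap.range l) = 1 := by
    have := Submodule.finrank_le (LinearMap.range l)
    rw [finrank_self] at this
    have : LinearMap.range l ≠ ⊥ := fun e => hl (LinearMap.range_eq_bot.1 e)
    have := Submodule.one_le_finrank_iff.2 this
    omega
  rw [finrank_fin_fun, h2] at h1
  let bb := Module.finBasisOfFinrankEq k (LinearMap.ker l) (show _ = 2 by omega)
  refine ⟨bb 0, bb 1, ?_, fun s t => h _ ?_⟩
  · have := bb.linearIndependent.map' (LinearMap.ker l).subtype (Submodule.ker_subtype _)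
    have e : ⇑(LinearMap.ker l).subtype ∘ ⇑bb = ![(bb 0 : Triple k), (bb 1 : Triple k)] := by
      funext i; fin_cases i <;> rfl
    rwa [e] at this
  · simp [show l (bb 0 : Triple k) = 0 from (bb 0).2, show l (bb 1 : Triple k) = 0 from (bb 1).2]

/-- A vector orthogonal to a basis vanishes. -/
theorem eq_zero_of_dots (β : Basis (Fin 3) k (Triple k)) {z : Triple k}
    (h : ∀ i, β i ⬝ᵥ z = 0) : z = 0 := by
  have hall : ∀ u : Triple k, u ⬝ᵥ z = 0 := by
    intro u
    rw [← β.sum_repr u, sum_dotProduct]
    exact Finset.sum_eq_zero fun i _ => by rw [smul_dotProduct, h i, smul_zero]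
  funext i
  simpa using hall (Pi.single i 1)

theorem lineImage_of_coord {b : Triple k →ₗ[k] Triple k →ₗ[k] Triple k} {u : Triple k}
    (h : ∀ z : Triple k, (∃ (c : k) (x y : Triple k), z = b x x - c • b y y) → u ⬝ᵥ z = 0 → z = 0) :
    LineImage b := by
  by_cases hall : ∀ x, u ⬝ᵥ b x x = 0
  · exact ⟨0, fun x => ⟨0, by
      rw [smul_zero]
      exact h _ ⟨0, x, x, by simp⟩ (hall x)⟩⟩
  push Not at hall
  obtain ⟨y, hy⟩ := hall
  refine ⟨b y y, fun x => ⟨u ⬝ᵥ b x x / (u ⬝ᵥ b y y), sub_eq_zero.1 (h _ ⟨_, x, y, rfl⟩ ?_)⟩⟩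
  rw [dotProduct_sub, dotProduct_smul, smul_eq_mul, div_mul_cancel₀ _ hy, sub_self]

theorem exists_basis_extend {u v : Triple k} (h : LinearIndependent k ![u, v]) :
    ∃ β : Basis (Fin 3) k (Triple k), β 1 = u ∧ β 2 = v := by
  have hspan : finrank k (Submodule.span k (Set.range ![u, v])) = 2 := by
    rw [finrank_span_eq_card h, Fintype.card_fin]
  obtain ⟨w, hw⟩ : ∃ w, w ∉ Submodule.span k (Set.range ![u, v]) := by
    by_contra hall
    push Not at hall
    rw [Submodule.eq_top_iff'.2 hall, finrank_top, finrank_fin_fun] at hspan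
    omega
  refine ⟨basisOfLinearIndependentOfCardEqFinrank (h.finCons hw)
    (by rw [Fintype.card_fin, finrank_fin_fun]), ?_, ?_⟩
  · rw [coe_basisOfLinearIndependentOfCardEqFinrank]; rfl
  · rw [coe_basisOfLinearIndependentOfCardEqFinrank]; rfl

theorem dot_expand (β : Basis (Fin 3) k (Triple k)) (v z : Triple k) :
    v ⬝ᵥ z = β.coord 0 v * (β 0 ⬝ᵥ z) + β.coord 1 v * (β 1 ⬝ᵥ z) + β.coord 2 v * (β 2 ⬝ᵥ z) := by
  conv_lhs => rw [← β.sum_repr v, Fin.sum_univ_three]
  simp [add_dotProduct, smul_dotProduct, Basis.coord_apply]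

/-- The dot product with a fixed vector of a bilinear map. -/
def dotLeft (b : Triple k →ₗ[k] Triple k →ₗ[k] Triple k) (u : Triple k) :
    Triple k →ₗ[k] Triple k →ₗ[k] k :=
  LinearMap.mk₂ k (fun x y => u ⬝ᵥ b x y)
    (fun x x' y => by simp [dotProduct_add])
    (fun c x y => by simp [dotProduct_smul])
    (fun x y y' => by simp [dotProduct_add])
    (fun c x y => by simp [dotProduct_smul])

theorem dotLeft_apply (b : Triple k →ₗ[k] Triple k →ₗ[k] Triple k) (u x y : Triple k) :
    dotLeft b u x y = u ⬝ᵥ b x y := rfl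

/-- The case in which all values are orthogonal to one vector. -/
theorem linSyz_of_orth [Infinite k] {b : Triple k →ₗ[k] Triple k →ₗ[k] Triple k}
    {S : Submodule k (Triple k →ₗ[k] Triple k)}
    (hS : ∀ N ∈ S, ∀ x, N x ⬝ᵥ b x x = 0)
    (htr : ∀ N ∈ S, LinearMap.trace k (Triple k) N = 0) (h3 : 3 ≤ finrank k S) {w : Triple k}
    (hw : w ≠ 0) (hwb : ∀ x, w ⬝ᵥ b x x = 0) : PlaneZero b ∨ LineImage b := by
  classical
  obtain ⟨u, hu⟩ : ∃ u : Triple k, u ∉ Submodule.span k {w} := by
    by_contra hall
    push Not at hall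
    have := finrank_span_singleton (K := k) hw
    rw [Submodule.eq_top_iff'.2 hall, finrank_top, finrank_fin_fun] at this
    omega
  have hli : LinearIndependent k ![u, w] := by
    refine linearIndependent_fin2.2 ⟨by simpa using hw, fun a e => hu ?_⟩
    simp only [Matrix.cons_val_zero, Matrix.cons_val_one] at e
    exact e ▸ Submodule.smul_mem _ _ (Submodule.mem_span_singleton_self w)
  obtain ⟨β, -, hβw⟩ := exists_basis_extend hli
  have hsyn : ∀ N ∈ S, ∀ v, β.coord 0 (N v) * dotLeft b (β 0) v v +
      β.coord 1 (N v) * dotLeft b (β 1) v v = 0 := by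
    intro N hN v
    have h0 := hS N hN v
    rw [dot_expand β, hβw, hwb, mul_zero, add_zero] at h0
    exact h0
  have hline : ∀ s t : k, (s ≠ 0 ∨ t ≠ 0) →
      (∀ v, s * dotLeft b (β 0) v v + t * dotLeft b (β 1) v v = 0) → LineImage b := by
    intro s t hst hrel
    have hz : ∀ z : Triple k, (∃ (c : k) (x y : Triple k), z = b x x - c • b y y) →
        β 2 ⬝ᵥ z = 0 ∧ s * (β 0 ⬝ᵥ z) + t * (β 1 ⬝ᵥ z) = 0 := by
      rintro z ⟨c, x, y, rfl⟩
      have h1 := hrel x
      have h2 := hrel y
      simp only [dotLeft_apply] at h1 h2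
      simp only [dotProduct_sub, dotProduct_smul, smul_eq_mul, hβw, hwb]
      exact ⟨by ring, by linear_combination h1 - c * h2⟩
    rcases hst with hs | ht
    · refine lineImage_of_coord (u := β 1) fun z hzf h1 => ?_
      obtain ⟨h2, h01⟩ := hz z hzf
      rw [h1, mul_zero, add_zero, mul_eq_zero] at h01
      exact eq_zero_of_dots β (Fin.forall_fin_succ.2 ⟨h01.resolve_left hs,
        Fin.forall_fin_two.2 ⟨h1, h2⟩⟩)
    · refine lineImage_of_coord (u := β 0) fun z hzf h0 => ?_
      obtain ⟨h2, h01⟩ := hz z hzf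
      rw [h0, mul_zero, zero_add, mul_eq_zero] at h01
      exact eq_zero_of_dots β (Fin.forall_fin_succ.2 ⟨h0,
        Fin.forall_fin_two.2 ⟨h01.resolve_left ht, h2⟩⟩)
  by_cases hzero : ∀ N ∈ S, ∀ v, β.coord 0 (N v) = 0 ∧ β.coord 1 (N v) = 0
  · exfalso
    have hform : ∀ N ∈ S, N = ((β.coord 2).comp N).smulRight w := by
      intro N hN
      refine LinearMap.ext fun v => ?_
      conv_lhs => rw [← β.sum_repr (N v), Fin.sum_univ_three]
      have h0 := hzero N hN v
      simp only [Basis.coord_apply] at h0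
      simp [Basis.coord_apply, h0.1, h0.2, hβw]
    let E : Dual k (Triple k) →ₗ[k] k := LinearMap.applyₗ w
    have hE : finrank k (LinearMap.ker E) ≤ 2 := by
      have h1 := LinearMap.finrank_range_add_finrank_ker E
      have hne : LinearMap.range E ≠ ⊥ := fun e => by
        have h2 := LinearMap.congr_fun (LinearMap.range_eq_bot.1 e) (β.coord 2)
        simp [E, ← hβw, Basis.coord_apply] at h2
      have := Submodule.one_le_finrank_iff.2 hne
      rw [Subspace.dual_finrank_eq, finrank_fin_fun] at h1
      omega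
    let T : S →ₗ[k] LinearMap.ker E :=
      (((LinearMap.compRight k (β.coord 2)).comp S.subtype)).codRestrict _ fun N => by
        have h0 := htr N N.2
        rw [hform N N.2, LinearMap.trace_smulRight] at h0
        exact LinearMap.mem_ker.2 h0
    have hT : Function.Injective T := by
      intro N N' e
      refine Subtype.ext ?_
      rw [hform N N.2, hform N' N'.2]
      exact congrArg (fun l => LinearMap.smulRight l w) (congrArg Subtype.val e)
    have := LinearMap.finrank_le_finrank_of_injective hT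
    omega
  push Not at hzero
  obtain ⟨N, hN, v₀, hv₀⟩ := hzero
  let p := (β.coord 0).comp N
  let q := (β.coord 1).comp N
  let f : Triple k →ₗ[k] (Fin 2 → k) := LinearMap.pi ![p, q]
  by_cases hsur : LinearMap.range f = ⊤
  · obtain ⟨v₁, hv₁⟩ := LinearMap.range_eq_top.1 hsur ![1, 0]
    obtain ⟨v₂, hv₂⟩ := LinearMap.range_eq_top.1 hsur ![0, 1]
    obtain ⟨l, hl⟩ := common_factor (dotLeft b (β 0)) (dotLeft b (β 1)) p q
      (congrFun hv₁ 0) (congrFun hv₁ 1) (congrFun hv₂ 0) (congrFun hv₂ 1) (hsyn N hN)
    by_cases hl0 : l = 0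
    · exact Or.inr (hline 1 0 (Or.inl one_ne_zero) fun v => by simp [(hl v).1, hl0])
    · refine Or.inl (planeZero_of_ker hl0 fun v hv => eq_zero_of_dots β ?_)
      refine Fin.forall_fin_succ.2 ⟨?_, Fin.forall_fin_two.2 ⟨?_, ?_⟩⟩
      · have := (hl v).1; rwa [hv, mul_zero] at this
      · have := (hl v).2; rwa [hv, mul_zero, neg_zero] at this
      · show β 2 ⬝ᵥ b v v = 0
        rw [hβw, hwb]
  · refine Or.inr ?_
    have hne : p ≠ 0 ∨ q ≠ 0 := by
      by_contra hboth
      push Not at hboth
      exact hv₀ (LinearMap.congr_fun hboth.1 v₀) (LinearMap.congr_fun hboth.2 v₀)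
    obtain ⟨φ, hφ0, hφf⟩ := Submodule.exists_dual_map_eq_bot_of_lt_top (lt_top_iff_ne_top.2 hsur)
      inferInstance
    have hrel : ∀ v, φ ![1, 0] * p v + φ ![0, 1] * q v = 0 := by
      intro v
      have h0 : φ (f v) = 0 := by
        rw [← Submodule.mem_bot k, ← hφf]; exact ⟨f v, ⟨v, rfl⟩, rfl⟩
      rw [show f v = p v • ![(1 : k), 0] + q v • ![0, 1] by
        funext i; fin_cases i <;> simp [f]] at h0
      rw [map_add, map_smul, map_smul, smul_eq_mul, smul_eq_mul] at h0
      linear_combination h0
    set s := φ ![1, 0] with hs_def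
    set t := φ ![0, 1] with ht_def
    have hst : t ≠ 0 ∨ -s ≠ 0 := by
      by_contra hboth
      push Not at hboth
      refine hφ0 (LinearMap.ext fun z => ?_)
      rw [show z = z 0 • ![(1 : k), 0] + z 1 • ![0, 1] by funext i; fin_cases i <;> simp,
        map_add, map_smul, map_smul, ← hs_def, ← ht_def, neg_eq_zero.1 hboth.2, hboth.1]
      simp
    refine hline t (-s) hst fun v => ?_
    rcases hne with hp | hq
    · refine quad_ext (t • dotLeft b (β 0) + (-s) • dotLeft b (β 1)) hp (fun x hx => ?_) v
      have h0 : p x * _ + q x * _ = 0 := hsyn N hN x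
      simp only [LinearMap.add_apply, LinearMap.smul_apply, smul_eq_mul]
      refine (mul_eq_zero.1 ?_).resolve_left hx
      linear_combination t * h0 - dotLeft b (β 1) x x * hrel x
    · refine quad_ext (t • dotLeft b (β 0) + (-s) • dotLeft b (β 1)) hq (fun x hx => ?_) v
      have h0 : p x * _ + q x * _ = 0 := hsyn N hN x
      simp only [LinearMap.add_apply, LinearMap.smul_apply, smul_eq_mul]
      refine (mul_eq_zero.1 ?_).resolve_left hx
      linear_combination dotLeft b (β 0) x x * hrel x - s * h0

/-- Three independent trace zero linear syzygies force a plane of zeros or values on a line. -/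
theorem linSyz [Infinite k] {b : Triple k →ₗ[k] Triple k →ₗ[k] Triple k}
    {S : Submodule k (Triple k →ₗ[k] Triple k)}
    (hS : ∀ N ∈ S, ∀ x, N x ⬝ᵥ b x x = 0)
    (htr : ∀ N ∈ S, LinearMap.trace k (Triple k) N = 0) (h3 : 3 ≤ finrank k S) :
    PlaneZero b ∨ LineImage b := by
  classical
  by_cases hall : ∀ x, b x x = 0
  · refine Or.inr ⟨0, fun x => ⟨0, by rw [hall x, smul_zero]⟩⟩
  push Not at hall
  obtain ⟨x₀, hx₀⟩ := hall
  -- a syzygy killing `x₀`
  obtain ⟨N, hNS, hN0, hNx⟩ : ∃ N ∈ S, N ≠ 0 ∧ N x₀ = 0 := by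
    let E : S →ₗ[k] Triple k := (LinearMap.applyₗ x₀).comp S.subtype
    let D : Triple k →ₗ[k] k := (dotProductBilin k k).flip (b x₀ x₀)
    have hD : finrank k (LinearMap.ker D) ≤ 2 := by
      have h1 := LinearMap.finrank_range_add_finrank_ker D
      have hne : LinearMap.range D ≠ ⊥ := fun e => hx₀ (funext fun i => by
        have h2 := LinearMap.congr_fun (LinearMap.range_eq_bot.1 e) (Pi.single i (1 : k))
        simpa [D] using h2)
      have := Submodule.one_le_finrank_iff.2 hne
      rw [finrank_fin_fun] at h1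
      omega
    let E' : S →ₗ[k] LinearMap.ker D := E.codRestrict _ fun N => hS N N.2 x₀
    have hninj : ¬ Function.Injective E' := fun hinj => by
      have := LinearMap.finrank_le_finrank_of_injective hinj
      omega
    rw [Function.not_injective_iff] at hninj
    obtain ⟨N₁, N₂, he, hne⟩ := hninj
    refine ⟨_, S.sub_mem N₁.2 N₂.2, fun e => hne (Subtype.ext (sub_eq_zero.1 e)), ?_⟩
    rw [LinearMap.sub_apply, sub_eq_zero]
    exact congrArg Subtype.val he
  by_cases hrank : ∃ y z, LinearIndependent k ![N y, N z]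
  · obtain ⟨y, z, hyz⟩ := hrank
    -- the image of `N` is orthogonal to the value at `x₀`
    have horth : ∀ v, N v ⬝ᵥ b x₀ x₀ = 0 := by
      intro v
      have key : ∀ t : k, t ≠ 0 → N v ⬝ᵥ b x₀ x₀ + t * (N v ⬝ᵥ b x₀ v + N v ⬝ᵥ b v x₀) = 0 := by
        intro t ht
        have h0 := hS N hNS (x₀ + t • v)
        simp only [map_add, map_smul, hNx, zero_add, LinearMap.add_apply, LinearMap.smul_apply,
          smul_dotProduct, dotProduct_add, dotProduct_smul, smul_eq_mul, hS N hNS v] at h0
        refine (mul_eq_zero.1 ?_).resolve_left ht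
        linear_combination h0
      obtain ⟨t, ht0, ht1⟩ := exists_ne_zero_ne_one (k := k)
      have h1 := key 1 one_ne_zero
      have h2 := key t ht0
      refine (mul_eq_zero.1 ?_).resolve_left (sub_ne_zero.2 ht1)
      linear_combination t * h1 - h2
    obtain ⟨β, hβ1, hβ2⟩ := exists_basis_extend hyz
    have hker0 : ∀ v, β.coord 0 (N v) = 0 := by
      intro v
      have h0 := horth v
      rw [dot_expand β, hβ1, hβ2, horth, horth, mul_zero, mul_zero, add_zero, add_zero,
        mul_eq_zero] at h0
      refine h0.resolve_right fun e => hx₀ (eq_zero_of_dots β ?_)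
      exact Fin.forall_fin_succ.2 ⟨e, Fin.forall_fin_two.2
        ⟨show β 1 ⬝ᵥ _ = 0 by rw [hβ1, horth], show β 2 ⬝ᵥ _ = 0 by rw [hβ2, horth]⟩⟩
    let p := (β.coord 1).comp N
    let q := (β.coord 2).comp N
    have hpy : p y = 1 := by simp [p, ← hβ1, Basis.coord_apply]
    have hqy : q y = 0 := by simp [q, ← hβ1, Basis.coord_apply]
    have hpz : p z = 0 := by simp [p, ← hβ2, Basis.coord_apply]
    have hqz : q z = 1 := by simp [q, ← hβ2, Basis.coord_apply]
    have hNv : ∀ v, N v = p v • N y + q v • N z := by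
      intro v
      conv_lhs => rw [← β.sum_repr (N v), Fin.sum_univ_three]
      have h0 := hker0 v
      rw [Basis.coord_apply] at h0
      rw [h0, zero_smul, zero_add, hβ1, hβ2]
      rfl
    obtain ⟨l, hl⟩ := common_factor (dotLeft b (β 1)) (dotLeft b (β 2)) p q hpy hqy hpz hqz
      fun v => by
        have h0 := hS N hNS v
        rw [hNv v, add_dotProduct, smul_dotProduct, smul_dotProduct, smul_eq_mul, smul_eq_mul] at h0
        rw [dotLeft_apply, dotLeft_apply, hβ1, hβ2]
        exact h0
    by_cases hl0 : l = 0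
    · refine Or.inr (lineImage_of_coord (u := β 0) ?_)
      rintro _ ⟨c, x, x', rfl⟩ h0
      refine eq_zero_of_dots β (Fin.forall_fin_succ.2 ⟨h0, Fin.forall_fin_two.2 ⟨?_, ?_⟩⟩)
      · show β 1 ⬝ᵥ _ = 0
        have h1 := (hl x).1
        have h2 := (hl x').1
        simp only [dotLeft_apply, hl0, LinearMap.zero_apply, mul_zero] at h1 h2
        simp [dotProduct_sub, dotProduct_smul, h1, h2]
      · show β 2 ⬝ᵥ _ = 0
        have h1 := (hl x).2
        have h2 := (hl x').2
        simp only [dotLeft_apply, hl0, LinearMap.zero_apply, mul_zero, neg_zero] at h1 h2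
        simp [dotProduct_sub, dotProduct_smul, h1, h2]
    let P := dotLeft b (β 0)
    by_cases hP : ∀ v, l v = 0 → P v v = 0
    · refine Or.inl (planeZero_of_ker hl0 fun v hv => eq_zero_of_dots β ?_)
      refine Fin.forall_fin_succ.2 ⟨hP v hv, Fin.forall_fin_two.2 ⟨?_, ?_⟩⟩
      · have := (hl v).1; rwa [hv, mul_zero] at this
      · have := (hl v).2; rwa [hv, mul_zero, neg_zero] at this
    exfalso
    push Not at hP
    obtain ⟨v₁, hv₁, hPv₁⟩ := hP
    have hκ : P x₀ x₀ ≠ 0 := fun e => hx₀ (eq_zero_of_dots β (Fin.forall_fin_succ.2 ⟨e,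
      Fin.forall_fin_two.2
        ⟨show β 1 ⬝ᵥ _ = 0 by rw [hβ1, horth], show β 2 ⬝ᵥ _ = 0 by rw [hβ2, horth]⟩⟩))
    have hall : ∀ N' ∈ S, ∃ c : k, N' = c • N := by
      intro N' hN'
      let m₁ := (β.coord 0).comp N'
      let m₂ := (β.coord 1).comp N'
      let m₃ := (β.coord 2).comp N'
      have heq : ∀ v, m₁ v * P v v + l v * (q v * m₂ v - p v * m₃ v) = 0 := by
        intro v
        have h0 : _ = (0 : k) := hS N' hN' v
        rw [dot_expand β] at h0
        have e1 := (hl v).1
        have e2 := (hl v).2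
        rw [dotLeft_apply] at e1 e2
        rw [e1, e2] at h0
        simp only [m₁, m₂, m₃, P, dotLeft_apply, LinearMap.comp_apply]
        linear_combination h0
      have hm₁ : ∀ v, l v = 0 → m₁ v = 0 := by
        intro v hv
        by_contra hm
        have hz : ∀ x, l x = 0 → m₁ x ≠ 0 → P x x = 0 := fun x hx hmx => by
          have h0 := heq x
          rw [hx, zero_mul, add_zero] at h0
          exact (mul_eq_zero.1 h0).resolve_left hmx
        exact hPv₁ (by
          have := quad_ext (P.compl₁₂ (LinearMap.ker l).subtype (LinearMap.ker l).subtype)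
            (l := m₁.comp (LinearMap.ker l).subtype)
            (fun e => hm (LinearMap.congr_fun e ⟨v, hv⟩)) (fun x hx => hz x x.2 hx) ⟨v₁, hv₁⟩
          simpa using this)
      obtain ⟨w, hw⟩ : ∃ w, l w ≠ 0 := by
        by_contra hno
        push Not at hno
        exact hl0 (LinearMap.ext hno)
      set a := m₁ w / l w with ha
      have hma : ∀ v, m₁ v = a * l v := by
        intro v
        have h0 := hm₁ (v - (l v / l w) • w) (by simp [hw])
        rw [map_sub, map_smul, sub_eq_zero, smul_eq_mul] at h0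
        rw [h0, ha]
        field_simp
      have hH : ∀ v, a * P v v + (q v * m₂ v - p v * m₃ v) = 0 := by
        intro v
        have := quad_ext (a • P + ((LinearMap.mul k k).compl₁₂ q m₂ -
          (LinearMap.mul k k).compl₁₂ p m₃)) hl0 (fun x hx => by
            have h0 := heq x
            rw [hma x] at h0
            simp only [LinearMap.add_apply, LinearMap.sub_apply, LinearMap.smul_apply, smul_eq_mul,
              LinearMap.compl₁₂_apply, LinearMap.mul_apply']
            refine (mul_eq_zero.1 ?_).resolve_left hx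
            linear_combination h0) v
        simpa using this
      have hpx : p x₀ = 0 := by simp [p, hNx]
      have hqx : q x₀ = 0 := by simp [q, hNx]
      have ha0 : a = 0 := by
        have h0 := hH x₀
        rw [hpx, hqx, zero_mul, zero_mul, sub_zero, add_zero] at h0
        exact (mul_eq_zero.1 h0).resolve_right hκ
      have hqp : ∀ v, q v * m₂ v = p v * m₃ v := fun v => by
        have := hH v; rw [ha0, zero_mul, zero_add, sub_eq_zero] at this; exact this
      have hy3 : m₃ y = 0 := by simpa [hpy, hqy] using (hqp y).symm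
      have hz2 : m₂ z = 0 := by simpa [hpz, hqz] using hqp z
      have hcc : m₂ y = m₃ z := by simpa [hpy, hqy, hpz, hqz, hy3, hz2] using hqp (y + z)
      refine ⟨m₂ y, LinearMap.ext fun v => ?_⟩
      set r := v - p v • y - q v • z with hr
      have hpr : p r = 0 := by simp [r, hpy, hpz]
      have hqr : q r = 0 := by simp [r, hqy, hqz]
      have hr3 : m₃ r = 0 := by simpa [hpr, hqr, hpy, hqy, hy3] using (hqp (r + y)).symm
      have hr2 : m₂ r = 0 := by simpa [hpr, hqr, hpz, hqz, hz2] using hqp (r + z)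
      simp only [r, map_sub, map_smul, smul_eq_mul, hy3, hz2, mul_zero, sub_zero] at hr2 hr3
      rw [LinearMap.smul_apply, hNv v]
      conv_lhs => rw [← β.sum_repr (N' v), Fin.sum_univ_three]
      have e0 : β.repr (N' v) 0 = 0 := by
        have := hma v; rw [ha0, zero_mul] at this; exact this
      have e1 : β.repr (N' v) 1 = p v * m₂ y := by
        show m₂ v = _
        linear_combination hr2
      have e2 : β.repr (N' v) 2 = q v * m₂ y := by
        show m₃ v = _
        rw [hcc]
        linear_combination hr3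
      rw [e0, e1, e2, hβ1, hβ2, zero_smul, zero_add, smul_add, smul_smul, smul_smul,
        mul_comm (p v), mul_comm (q v)]
    have hle : S ≤ Submodule.span k {N} := fun N' hN' => by
      obtain ⟨c, rfl⟩ := hall N' hN'
      exact Submodule.smul_mem _ _ (Submodule.mem_span_singleton_self N)
    have := Submodule.finrank_mono hle
    rw [finrank_span_singleton hN0] at this
    omega
  · -- rank one
    push Not at hrank
    obtain ⟨y, hy⟩ : ∃ y, N y ≠ 0 := by
      by_contra hno
      push Not at hno
      exact hN0 (LinearMap.ext hno)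
    obtain ⟨i, hi⟩ : ∃ i, N y i ≠ 0 := by
      by_contra hno
      push Not at hno
      exact hy (funext hno)
    let mN : Triple k →ₗ[k] k := (N y i)⁻¹ • (LinearMap.proj i).comp N
    have hNv : ∀ v, N v = mN v • N y := by
      intro v
      have hnot := hrank y v
      rw [linearIndependent_fin2] at hnot
      simp only [Matrix.cons_val_one, Matrix.cons_val_zero, not_and, not_forall, not_not] at hnot
      by_cases hv : N v = 0
      · simp [mN, hv]
      obtain ⟨c, hc⟩ := hnot hv
      have hc0 : c ≠ 0 := fun e => hy (by rw [← hc, e, zero_smul])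
      simp only [mN, LinearMap.smul_apply, LinearMap.comp_apply, LinearMap.proj_apply, smul_eq_mul]
      rw [← hc, Pi.smul_apply, smul_eq_mul, smul_smul]
      have hvi : N v i ≠ 0 := fun e => hi (by rw [← hc, Pi.smul_apply, e, smul_zero])
      conv_lhs => rw [← one_smul k (N v)]
      congr 1
      field_simp
    refine linSyz_of_orth hS htr h3 hy fun x => ?_
    have hm : mN ≠ 0 := fun e => hy (by rw [hNv y, e, LinearMap.zero_apply, zero_smul])
    exact quad_ext (dotLeft b (N y)) hm (fun v hv => by
      have h0 := hS N hNS v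
      rw [hNv v, smul_dotProduct, smul_eq_mul] at h0
      exact (mul_eq_zero.1 h0).resolve_left hv) x

end Cfsg.Agent.BlockChar.CentreFive
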