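import Cfsg.Agent.BlockChar.CentreFive.Residue
import Cfsg.Agent.BlockChar.RankOneFew

/-!
# The defect of a block of rank one with five characters
-/

set_option autoImplicit false

namespace Cfsg.Agent.BlockChar.CentreFive

open Cfsg.Agent Cfsg.Agent.Blocks Cfsg.Agent.BrauerPairs

universe u

variable {G : Type u} [Group G] {p : ℕ} {M : Ideal Cfsg.AlgInt}

/-- In a block of rank one with five characters the defect group has order five or eight. -/
theorem pow_defect_five [Finite G] (hM : Cfsg.IsPModular p M)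
    {B : Set (Cfsg.IrrCharacter G)} (hB : Cfsg.IsPBlock M B) (hl : Cfsg.blockRank p B = 1)
    (hk : Nat.card B = 5) :
    p ^ Cfsg.blockDefect p B = 5 ∨ p ^ Cfsg.blockDefect p B = 8 := by
  classical
  have := Fintype.ofFinite G
  have := Fact.mk hM.1
  obtain ⟨φ, d, ⟨n, hn⟩, hval, hsum⟩ := rank_one_cartan hM hB hl
  have h1reg : Cfsg.IsPRegular p (1 : G) := by
    show ¬ p ∣ orderOf (1 : G)
    rw [orderOf_one, Nat.dvd_one]
    exact hM.1.ne_one
  set S := B.toFinite.toFinset with hS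
  have hmem : ∀ χ, χ ∈ S ↔ χ ∈ B := fun χ => B.toFinite.mem_toFinset
  set g : ℤ := ∑ χ ∈ S, n χ * (Cfsg.charDegree (χ : G → ℂ) : ℤ) with hg
  have hφ : φ 1 = (g : ℂ) := by
    rw [hn 1 h1reg, finsum_mem_eq_finite_toFinset_sum _ B.toFinite, hg]
    push_cast
    exact Finset.sum_congr rfl fun χ _ => by rw [(CharArith.irr_degree_spec χ).1]
  have hdeg : ∀ χ ∈ S, (Cfsg.charDegree ((χ : Cfsg.IrrCharacter G) : G → ℂ) : ℤ) = d χ * g :=
    fun χ hχ => by
      have h := hval χ ((hmem χ).1 hχ) 1 h1reg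
      rw [(CharArith.irr_degree_spec χ).1, hφ] at h
      exact_mod_cast h
  obtain ⟨χ₀, hχ₀, hv₀⟩ := exists_height_zero (p := p) (IsPBlock.nonempty hM hB)
  set g' := g.natAbs with hg'
  have hdeg' : ∀ χ ∈ S, Cfsg.charDegree ((χ : Cfsg.IrrCharacter G) : G → ℂ) = d χ * g' :=
    fun χ hχ => by
      have := congrArg Int.natAbs (hdeg χ hχ)
      simpa [Int.natAbs_mul] using this
  have hχ₀S := (hmem χ₀).2 hχ₀
  have hpos : ∀ χ : Cfsg.IrrCharacter G, 0 < Cfsg.charDegree (χ : G → ℂ) := fun χ =>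
    (CharArith.irr_degree_spec χ).2
  have hg0 : g' ≠ 0 := fun h0 => by
    have := hdeg' χ₀ hχ₀S
    have := hpos χ₀
    simp only [h0, mul_zero] at *
    omega
  obtain ⟨m, dA, hdA, hm, hdvd⟩ := ResidueBlock.exists_degree_structure_five hM hB hl hk.le
  rw [finsum_mem_eq_finite_toFinset_sum _ B.toFinite, ← hS] at hsum
  rw [← hS] at hm
  have heq : p ^ Cfsg.blockDefect p B * g' ^ 2 = m ^ 2 * dA := by
    rw [← hm, ← hsum, Finset.sum_mul]
    refine Finset.sum_congr rfl fun χ hχ => ?_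
    rw [hdeg' χ hχ, mul_pow]
  have hA0 : dA ≠ 0 := fun h0 => by
    rw [h0, mul_zero] at heq
    simp [hM.1.ne_zero, hg0] at heq
  have hm0 : m ≠ 0 := fun h0 => by
    rw [h0] at heq
    simp [hM.1.ne_zero, hg0] at heq
  -- the p-parts
  set a := (Nat.card G).factorization p
  have hdef : Cfsg.blockDefect p B = a - minVal p B := blockDefect_eq
  have hvg : g'.factorization p ≤ minVal p B := by
    rw [← hv₀]
    refine (Nat.factorization_le_iff_dvd hg0 (hpos χ₀).ne').2 ?_ p
    exact Dvd.intro_left _ (hdeg' χ₀ hχ₀S).symm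
  have hle := degree_val_le (p := p) χ₀
  have hva : a ≤ (m * dA).factorization p :=
    (hM.1.pow_dvd_iff_le_factorization (Nat.mul_ne_zero hm0 hA0)).1 hdvd
  rw [Nat.factorization_mul hm0 hA0, Finsupp.add_apply] at hva
  have hf := congrArg (fun x : ℕ => x.factorization p) heq
  simp only [Nat.factorization_mul (pow_ne_zero _ hM.1.ne_zero) (pow_ne_zero _ hg0),
    Nat.factorization_mul (pow_ne_zero _ hm0) hA0, Nat.factorization_pow, Finsupp.add_apply,
    Finsupp.smul_apply, smul_eq_mul, hM.1.factorization_self, mul_one] at hf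
  have hpd : p ^ Cfsg.blockDefect p B ∣ dA :=
    (hM.1.pow_dvd_iff_le_factorization hA0).2 (by omega)
  have h8 : p ^ Cfsg.blockDefect p B ≤ 8 := (Nat.le_of_dvd (by omega) hpd).trans hdA
  -- five squares
  have hS5 : S.card = 5 := by
    rw [← hk, hS]
    exact (Nat.card_eq_card_finite_toFinset B.toFinite).symm
  have hd1 : ∀ χ ∈ S, 1 ≤ d χ := fun χ hχ => by
    rcases Nat.eq_zero_or_pos (d χ) with h0 | h0
    · have := hpos χ
      rw [hdeg' χ hχ, h0, zero_mul] at this
      omega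
    · exact h0
  have h5 : 5 ≤ p ^ Cfsg.blockDefect p B := by
    rw [← hsum, ← hS5, Finset.card_eq_sum_ones]
    exact Finset.sum_le_sum fun χ hχ => Nat.one_le_pow _ _ (hd1 χ hχ)
  have hd2 : ∀ χ ∈ S, d χ ^ 2 = 1 ∨ d χ ^ 2 = 4 := by
    intro χ hχ
    have hrest : 4 ≤ ∑ ψ ∈ S.erase χ, d ψ ^ 2 := by
      have : (S.erase χ).card = 4 := by rw [Finset.card_erase_of_mem hχ, hS5]
      rw [← this, Finset.card_eq_sum_ones]
      exact Finset.sum_le_sum fun ψ hψ =>
        Nat.one_le_pow _ _ (hd1 ψ (Finset.mem_erase.1 hψ).2)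
    have hsp := Finset.add_sum_erase S (fun ψ => d ψ ^ 2) hχ
    have h1 := hd1 χ hχ
    have h2 : d χ ≤ 2 := by
      by_contra hlt
      push Not at hlt
      have h9 : 3 ^ 2 ≤ d χ ^ 2 := Nat.pow_le_pow_left (show 3 ≤ d χ by omega) 2
      norm_num only at h9
      omega
    interval_cases d χ <;> norm_num
  have hmod : p ^ Cfsg.blockDefect p B % 3 = 2 := by
    rw [← hsum, Finset.sum_nat_mod, Finset.sum_congr rfl (g := fun _ => 1) fun χ hχ => by
      rcases hd2 χ hχ with h | h <;> rw [h], ← Finset.card_eq_sum_ones, hS5]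
  omega

end Cfsg.Agent.BlockChar.CentreFive
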