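import Mathlib.GroupTheory.PGroup
import Mathlib.GroupTheory.GroupAction.Quotient
import Mathlib.GroupTheory.Index
import Mathlib.Data.Complex.Basic
import Mathlib.Tactic

/-!
# Groups of automorphisms of odd order of an abelian group of order eight

The weighted class sums of a block with defect group of order eight cannot give five characters
with one modular character when the action is not free.
-/

set_option autoImplicit false

namespace Cfsg.Agent.BlockChar.CentreFive

variable {A : Type*} [CommGroup A] [Finite A]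

/-- The subgroup of fixed points of an automorphism. -/
def fixedSub (σ : MulAut A) : Subgroup A where
  carrier := {a | σ a = a}
  one_mem' := map_one σ
  mul_mem' := fun {a b} (ha : σ a = a) (hb : σ b = b) => show σ (a * b) = a * b by
    rw [map_mul, ha, hb]
  inv_mem' := fun {a} (ha : σ a = a) => show σ a⁻¹ = a⁻¹ by rw [map_inv, ha]

theorem mem_fixedSub {σ : MulAut A} {a : A} : a ∈ fixedSub σ ↔ σ a = a := Iff.rfl

/-- An automorphism of odd order fixing at least half of the group is trivial. -/
theorem eq_one_of_fixed_large (h8 : Nat.card A = 8) {σ : MulAut A} (hσ : ¬ 2 ∣ orderOf σ)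
    (h : 4 ≤ Nat.card (fixedSub σ)) : σ = 1 := by
  have hdvd : Nat.card (fixedSub σ) ∣ 8 := h8 ▸ Subgroup.card_subgroup_dvd_card _
  have hle := Nat.le_of_dvd (by norm_num) hdvd
  have hmul := Subgroup.card_mul_index (fixedSub σ)
  rw [h8] at hmul
  rcases (show Nat.card (fixedSub σ) = 4 ∨ Nat.card (fixedSub σ) = 8 by
    interval_cases hc : Nat.card (fixedSub σ) <;> omega) with h4 | h8'
  · have hidx : (fixedSub σ).index = 2 := by rw [h4] at hmul; omega
    refine MulEquiv.ext fun y => ?_
    rw [MulAut.one_apply]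
    by_cases hy : y ∈ fixedSub σ
    · exact hy
    have hσy : σ y ∉ fixedSub σ := fun hmem => hy (show σ y = y from σ.injective hmem)
    have hd : σ y * y⁻¹ ∈ fixedSub σ := by
      rw [Subgroup.mul_mem_iff_of_index_two hidx, Subgroup.inv_mem_iff]
      simp [hy, hσy]
    set d := σ y * y⁻¹ with hdd
    have hiter : ∀ j : ℕ, (σ ^ j) y = d ^ j * y := by
      intro j
      induction j with
      | zero => simp
      | succ j ih =>
        rw [pow_succ', MulAut.mul_apply, ih, map_mul, map_pow, mem_fixedSub.1 hd, pow_succ,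
          mul_assoc, hdd, inv_mul_cancel_right]
    have h1 := hiter (orderOf σ)
    rw [pow_orderOf_eq_one, MulAut.one_apply, eq_comm, mul_eq_right] at h1
    have hd8 : orderOf d ∣ 8 := h8 ▸ orderOf_dvd_natCard d
    have hd1 : orderOf d = 1 := by
      refine Nat.eq_one_of_dvd_coprimes ?_ hd8 (orderOf_dvd_of_pow_eq_one h1)
      rw [show (8 : ℕ) = 2 ^ 3 by norm_num]
      exact (Nat.prime_two.coprime_iff_not_dvd.2 hσ).pow_left 3
    exact mul_inv_eq_one.1 (orderOf_eq_one_iff.1 hd1)
  · have htop : fixedSub σ = ⊤ := Subgroup.eq_top_of_card_eq _ (by rw [h8', h8])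
    exact MulEquiv.ext fun y => show σ y = y from mem_fixedSub.1 (htop ▸ Subgroup.mem_top y)

/-- Congruence of the fixed subgroup modulo a prime order. -/
theorem card_fixedSub_modEq {σ : MulAut A} {q : ℕ} [Fact q.Prime] {n : ℕ}
    (hσ : orderOf σ = q ^ n) : Nat.card A ≡ Nat.card (fixedSub σ) [MOD q] := by
  have hp : IsPGroup q (Subgroup.zpowers σ) := IsPGroup.of_card (n := n)
    (by rw [Nat.card_zpowers, hσ])
  have hfix : MulAction.fixedPoints (Subgroup.zpowers σ) A = (fixedSub σ : Set A) := by
    ext a
    rw [MulAction.mem_fixedPoints]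
    constructor
    · exact fun h => h ⟨σ, Subgroup.mem_zpowers σ⟩
    · rintro h ⟨g, hg⟩
      obtain ⟨j, rfl⟩ := Subgroup.mem_zpowers_iff.1 hg
      exact MulAction.mem_stabilizer_iff.1
        (Subgroup.zpow_mem _ (MulAction.mem_stabilizer_iff.2 (show σ • a = a from h)) j)
  have hmod := hp.card_modEq_card_fixedPoints A
  rw [hfix] at hmod
  exact hmod

theorem two_pow_card_fixedSub (h8 : Nat.card A = 8) (σ : MulAut A) :
    Nat.card (fixedSub σ) ∈ ({1, 2, 4, 8} : Finset ℕ) := by
  have hdvd : Nat.card (fixedSub σ) ∣ 8 := h8 ▸ Subgroup.card_subgroup_dvd_card _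
  have hle := Nat.le_of_dvd (by norm_num) hdvd
  have hpos : 0 < Nat.card (fixedSub σ) := Nat.card_pos
  interval_cases hc : Nat.card (fixedSub σ) <;> first | omega | simp

/-- No automorphism has order five. -/
theorem orderOf_ne_five (h8 : Nat.card A = 8) (σ : MulAut A) : orderOf σ ≠ 5 := by
  intro h
  haveI := Fact.mk (show Nat.Prime 5 by norm_num)
  have hmod := card_fixedSub_modEq (σ := σ) (q := 5) (n := 1) (by rw [h, pow_one])
  have := two_pow_card_fixedSub h8 σ
  simp only [Finset.mem_insert, Finset.mem_singleton] at this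
  rw [h8, Nat.ModEq] at hmod
  rcases this with h' | h' | h' | h'
  · rw [h'] at hmod; omega
  · rw [h'] at hmod; omega
  · rw [h'] at hmod; omega
  · rw [eq_one_of_fixed_large h8 (σ := σ) (by rw [h]; norm_num) (by rw [h']; norm_num),
      orderOf_one] at h
    omega

section

variable (E : Subgroup (MulAut A))

/-- The elements of `E` fixing a point. -/
def fix (x : A) : Subgroup E := MulAction.stabilizer E x

theorem mem_fix {x : A} {σ : E} : σ ∈ fix E x ↔ (σ : MulAut A) x = x := Iff.rfl

theorem odd_of_mem (hE : ¬ 2 ∣ Nat.card E) (σ : E) : ¬ 2 ∣ orderOf (σ : MulAut A) := fun h =>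
  hE (by rw [Subgroup.orderOf_coe] at h; exact h.trans (orderOf_dvd_natCard σ))

/-- A point and a further point fixed by the same element force it to be trivial. -/
theorem eq_one_of_two_fixed (h8 : Nat.card A = 8) (hE : ¬ 2 ∣ Nat.card E) {σ : E} {x y : A}
    (hx : x ≠ 1) (hy : y ≠ 1) (hyx : y ≠ x) (hσx : (σ : MulAut A) x = x)
    (hσy : (σ : MulAut A) y = y) : σ = 1 := by
  refine Subtype.ext (eq_one_of_fixed_large h8 (odd_of_mem E hE σ) ?_)
  have hmem := two_pow_card_fixedSub h8 (σ : MulAut A)
  have hinj : Function.Injective (fun i : Fin 3 => (![⟨1, Subgroup.one_mem _⟩, ⟨x, hσx⟩, ⟨y, hσy⟩] i :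
      fixedSub (σ : MulAut A))) := by
    intro i j hij
    have hij' := congrArg Subtype.val hij
    fin_cases i <;> fin_cases j <;>
      first
        | rfl
        | exact absurd hij' hx
        | exact absurd hij'.symm hx
        | exact absurd hij' hy
        | exact absurd hij'.symm hy
        | exact absurd hij' hyx
        | exact absurd hij'.symm hyx
  have h3 := Nat.card_le_card_of_injective _ hinj
  rw [Nat.card_fin] at h3
  simp only [Finset.mem_insert, Finset.mem_singleton] at hmem
  omega

/-- A point stabiliser has order one or three. -/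
theorem card_fix (h8 : Nat.card A = 8) (hE : ¬ 2 ∣ Nat.card E) {x : A} (hx : x ≠ 1) :
    Nat.card (fix E x) = 1 ∨ Nat.card (fix E x) = 3 := by
  classical
  haveI : Finite (MulAut A) := Finite.of_injective _ MulEquiv.toEquiv_injective
  have := Fintype.ofFinite A
  obtain ⟨y, hy⟩ : ∃ y : A, y ∉ ({1, x} : Finset A) := by
    by_contra hall
    push Not at hall
    have h := (Finset.card_le_card (fun a (_ : a ∈ Finset.univ) => hall a)).trans
      (Finset.card_insert_le _ _)
    rw [Finset.card_univ, ← Nat.card_eq_fintype_card, h8, Finset.card_singleton] at h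
    omega
  simp only [Finset.mem_insert, Finset.mem_singleton, not_or] at hy
  let f : fix E x → {a : A // a ∉ ({1, x} : Finset A)} := fun σ =>
    ⟨((σ : E) : MulAut A) y, by
      simp only [Finset.mem_insert, Finset.mem_singleton, not_or]
      exact ⟨fun e => hy.1 (((σ : E) : MulAut A).map_eq_one_iff.1 e),
        fun e => hy.2 (((σ : E) : MulAut A).injective (e.trans ((mem_fix E).1 σ.2).symm))⟩⟩
  have hinj : Function.Injective f := by
    intro σ τ e
    have e' : ((σ : E) : MulAut A) y = ((τ : E) : MulAut A) y := congrArg Subtype.val e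
    have hh := eq_one_of_two_fixed E h8 hE (σ := (τ : E)⁻¹ * σ) hx hy.1 hy.2
      ((fix E x).mul_mem ((fix E x).inv_mem τ.2) σ.2)
      (by
        show (((τ : E) : MulAut A)⁻¹) (((σ : E) : MulAut A) y) = y
        rw [e']
        exact MulAut.inv_apply_self A _ _)
    exact Subtype.ext (inv_mul_eq_one.1 hh).symm
  have hle := Nat.card_le_card_of_injective f hinj
  rw [Nat.card_eq_fintype_card (α := {a : A // a ∉ ({1, x} : Finset A)}),
    Fintype.card_subtype_compl, Fintype.card_coe, Finset.card_pair (Ne.symm hx),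
    ← Nat.card_eq_fintype_card, h8] at hle
  have hdvd : Nat.card (fix E x) ∣ Nat.card E := Subgroup.card_subgroup_dvd_card _
  have hodd : ¬ 2 ∣ Nat.card (fix E x) := fun h => hE (h.trans hdvd)
  have hpos : 0 < Nat.card (fix E x) := Nat.card_pos
  have h5 : Nat.card (fix E x) ≠ 5 := fun h => by
    haveI := Fact.mk (show Nat.Prime 5 by norm_num)
    obtain ⟨σ, hσ⟩ := exists_prime_orderOf_dvd_card' (G := fix E x) 5 (by rw [h])
    refine orderOf_ne_five h8 ((σ : E) : MulAut A) ?_
    rw [Subgroup.orderOf_coe, Subgroup.orderOf_coe, hσ]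
  omega

open scoped Classical in
/-- The class sums of a block with defect group of order eight, five characters and one modular
character are contradictory when the action is not free. -/
theorem false_of_not_free (h8 : Nat.card A = 8) (hE : ¬ 2 ∣ Nat.card E) [Fintype A] (l : A → ℕ)
    (hl1 : l 1 = 1) (hfree : ∀ x, x ≠ 1 → Nat.card (fix E x) = 1 → l x = 1)
    (hle : ∀ x, x ≠ 1 → l x ≤ 3)
    (hsum : ∀ χ : A →* ℂˣ, (∀ σ ∈ E, ∀ a, χ (σ a) = χ a) →
      ∑ x, (Nat.card (fix E x) : ℂ) * (χ x : ℂ) * (l x : ℂ) =
        if χ = 1 then (Nat.card E : ℂ) * 5 else 0)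
    (hnot : ∃ x, x ≠ 1 ∧ Nat.card (fix E x) ≠ 1) : False := by
  haveI : Finite (MulAut A) := Finite.of_injective _ MulEquiv.toEquiv_injective
  set e := Nat.card E with he
  have hmain : ∑ x, Nat.card (fix E x) * l x = e * 5 := by
    have h := hsum 1 fun _ _ _ => rfl
    simp only [MonoidHom.one_apply, Units.val_one, mul_one, if_true] at h
    exact_mod_cast h
  have hfix1 : Nat.card (fix E 1) = e := by
    rw [show fix E 1 = ⊤ from eq_top_iff.2 fun σ _ => map_one (σ : MulAut A), Subgroup.card_top]
  obtain ⟨z, hz1, hz⟩ := hnot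
  have hz3 := (card_fix E h8 hE hz1).resolve_left hz
  have h3e : 3 ∣ e := hz3 ▸ Subgroup.card_subgroup_dvd_card _
  have hepos : 0 < e := Nat.card_pos
  have hsplit : ∀ f : A → ℕ, ∑ x, f x = f 1 + ∑ x ∈ Finset.univ.erase 1, f x := fun f =>
    (Finset.add_sum_erase _ f (Finset.mem_univ 1)).symm
  have hcard7 : (Finset.univ.erase (1 : A)).card = 7 := by
    rw [Finset.card_erase_of_mem (Finset.mem_univ _), Finset.card_univ, ← Nat.card_eq_fintype_card,
      h8]
  -- an element fixed by every element of `E` and another one force triviality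
  have htriv : e = 1 → False := fun h => by
    rw [h] at h3e
    norm_num at h3e
  by_cases hall : ∀ y, y ≠ 1 → Nat.card (fix E y) = 3
  · -- no free orbit
    have he15 : e ≤ 15 := by
      rw [hsplit, hfix1, hl1, mul_one] at hmain
      have : ∑ x ∈ Finset.univ.erase (1 : A), Nat.card (fix E x) * l x ≤ 7 * 9 := by
        refine (Finset.sum_le_card_nsmul _ _ 9 fun x hx => ?_).trans (by rw [hcard7, smul_eq_mul])
        have hx1 := (Finset.mem_erase.1 hx).1
        rw [hall x hx1]
        have := hle x hx1
        omega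
      omega
    have hodd : ¬ 2 ∣ e := hE
    rcases (show e = 3 ∨ e = 9 ∨ e = 15 by omega) with h3 | h9 | h15
    · -- every point is fixed
      refine htriv ?_
      have hone : ∀ σ : E, σ = 1 := fun σ => Subtype.ext (MulEquiv.ext fun a => by
        show (σ : MulAut A) a = a
        by_cases ha : a = 1
        · rw [ha, map_one]
        · have htop : fix E a = ⊤ := Subgroup.eq_top_of_card_eq _ (by rw [hall a ha]; exact h3.symm)
          exact (mem_fix E).1 (htop ▸ Subgroup.mem_top σ))
      rw [he, Nat.card_eq_one_iff_unique]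
      exact ⟨⟨fun a b => (hone a).trans (hone b).symm⟩, ⟨1⟩⟩
    · -- a group of order nine fixes a point
      haveI := Fact.mk Nat.prime_three
      have hp : IsPGroup 3 E := IsPGroup.of_card (n := 2) (by rw [← he, h9]; norm_num)
      have hmod := hp.card_modEq_card_fixedPoints A
      have h1 : MulAction.fixedPoints E A = {1} := by
        ext a
        rw [MulAction.mem_fixedPoints, Set.mem_singleton_iff]
        constructor
        · intro ha
          by_contra ha1
          have htop : fix E a = ⊤ := eq_top_iff.2 fun σ _ => ha σ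
          have h0 := hall a ha1
          rw [htop, Subgroup.card_top] at h0
          omega
        · rintro rfl σ
          exact map_one (σ : MulAut A)
      rw [h8, h1, Nat.card_eq_fintype_card, Set.card_singleton, Nat.ModEq] at hmod
      omega
    · haveI := Fact.mk (show Nat.Prime 5 by norm_num)
      obtain ⟨σ, hσ⟩ := exists_prime_orderOf_dvd_card' (G := E) 5 (by rw [← he, h15]; norm_num)
      exact orderOf_ne_five h8 (σ : MulAut A) (by rw [Subgroup.orderOf_coe, hσ])
  -- a free orbit
  push Not at hall
  obtain ⟨y, hy1, hy⟩ := hall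
  have hy' := (card_fix E h8 hE hy1).resolve_right hy
  have he7 : e ≤ 7 := by
    let f : E → {a : A // a ≠ 1} := fun σ =>
      ⟨(σ : MulAut A) y, fun h => hy1 ((σ : MulAut A).map_eq_one_iff.1 h)⟩
    have hinj : Function.Injective f := by
      intro σ τ h
      have h' : (σ : MulAut A) y = (τ : MulAut A) y := congrArg Subtype.val h
      have hm : τ⁻¹ * σ ∈ fix E y := by
        rw [mem_fix]
        show ((τ : MulAut A)⁻¹) ((σ : MulAut A) y) = y
        rw [h']
        exact MulAut.inv_apply_self A _ _
      rw [Subgroup.card_eq_one.1 hy', Subgroup.mem_bot, inv_mul_eq_one] at hm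
      exact hm.symm
    have := Nat.card_le_card_of_injective f hinj
    rw [Nat.card_eq_fintype_card (α := {a : A // a ≠ 1}), Fintype.card_subtype_compl,
      Fintype.card_subtype_eq, ← Nat.card_eq_fintype_card, h8] at this
    exact this
  have he3 : e = 3 := by omega
  have hall' : ∀ σ : E, (σ : MulAut A) z = z := fun σ => by
    have htop : fix E z = ⊤ := Subgroup.eq_top_of_card_eq _ (by rw [hz3]; exact he3.symm)
    exact (mem_fix E).1 (htop ▸ Subgroup.mem_top σ)
  have hother : ∀ x, x ≠ 1 → x ≠ z → Nat.card (fix E x) = 1 := by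
    intro x hx hxz
    rw [Subgroup.card_eq_one, Subgroup.eq_bot_iff_forall]
    intro σ hσ
    exact eq_one_of_two_fixed E h8 hE hz1 hx hxz (hall' σ) ((mem_fix E).1 hσ)
  set S := (Finset.univ.erase (1 : A)).erase z with hS
  have hS6 : S.card = 6 := by
    rw [hS, Finset.card_erase_of_mem (Finset.mem_erase.2 ⟨hz1, Finset.mem_univ _⟩), hcard7]
  have hsplit2 : ∀ f : A → ℂ, ∑ x, f x = f 1 + f z + ∑ x ∈ S, f x := fun f => by
    rw [add_assoc, hS, Finset.add_sum_erase _ f (Finset.mem_erase.2 ⟨hz1, Finset.mem_univ _⟩),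
      Finset.add_sum_erase _ f (Finset.mem_univ 1)]
  have hSmem : ∀ x ∈ S, Nat.card (fix E x) = 1 ∧ l x = 1 := fun x hx => by
    obtain ⟨hxz, hx'⟩ := Finset.mem_erase.1 hx
    have hx1 := (Finset.mem_erase.1 hx').1
    exact ⟨hother x hx1 hxz, hfree x hx1 (hother x hx1 hxz)⟩
  have heq : ∀ χ : A →* ℂˣ, (∀ σ ∈ E, ∀ a, χ (σ a) = χ a) →
      3 + 3 * (χ z : ℂ) * (l z : ℂ) + ∑ x ∈ S, (χ x : ℂ) = if χ = 1 then 15 else 0 := by
    intro χ hχ
    have h := hsum χ hχ
    rw [hsplit2, hfix1, hz3, hl1, map_one, Units.val_one, he3,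
      Finset.sum_congr rfl (g := fun x => (χ x : ℂ)) fun x hx => by
        rw [(hSmem x hx).1, (hSmem x hx).2]; simp] at h
    split_ifs at h ⊢ with h1
    · push_cast at h; linear_combination h
    · push_cast at h; linear_combination h
  have hlz : (l z : ℂ) = 2 := by
    have h := heq 1 fun _ _ _ => rfl
    simp only [MonoidHom.one_apply, Units.val_one, mul_one, if_true, Finset.sum_const, hS6,
      nsmul_eq_mul] at h
    push_cast at h
    linear_combination h / 3
  -- the sign character
  obtain ⟨σ, hσ⟩ := exists_prime_orderOf_dvd_card' (G := E) 3 (hp := ⟨Nat.prime_three⟩)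
    (by rw [← he, he3])
  set s : MulAut A := (σ : MulAut A) with hs
  have hs3 : ∀ a, s (s (s a)) = a := fun a => by
    have h : s ^ 3 = 1 := by
      rw [← hσ, ← Subgroup.orderOf_coe σ]; exact pow_orderOf_eq_one _
    rw [pow_succ, pow_two] at h
    exact congrArg (fun t : MulAut A => t a) h
  have hpow : ∀ τ ∈ E, ∃ j : ℕ, τ = s ^ j := by
    intro τ hτ
    have hz' : (⟨τ, hτ⟩ : E) ∈ Submonoid.powers σ := by
      rw [mem_powers_iff_mem_zpowers, Subgroup.eq_top_of_card_eq (Subgroup.zpowers σ)
        (by rw [Nat.card_zpowers, hσ, ← he, he3])]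
      exact Subgroup.mem_top _
    obtain ⟨j, hj⟩ := hz'
    exact ⟨j, (congrArg Subtype.val hj).symm.trans (by simp [hs])⟩
  let N : A →* A :=
    { toFun := fun a => a * s a * s (s a)
      map_one' := by simp
      map_mul' := fun a b => by simp only [map_mul, mul_comm, mul_left_comm, mul_assoc] }
  have hN : ∀ a, N a = 1 ∨ N a = z := by
    intro a
    by_contra hne
    push Not at hne
    have hfixN : s (N a) = N a := by
      show s (a * s a * s (s a)) = a * s a * s (s a)
      rw [map_mul, map_mul, hs3]
      simp only [mul_comm, mul_left_comm]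
    have := eq_one_of_two_fixed E h8 hE (σ := σ) hz1 hne.1 hne.2 (hall' σ) hfixN
    rw [this, orderOf_one] at hσ
    omega
  have hNz : N z = z * z * z := by
    show z * s z * s (s z) = z * z * z
    rw [hall' σ, hall' σ]
  have hzz : z * z = 1 := by
    rcases hN (z * z) with h | h
    all_goals
      by_contra hne
      have := eq_one_of_two_fixed E h8 hE (σ := σ) hz1 hne
        (fun e' => hz1 (mul_eq_left.1 e')) (hall' σ)
        (show s (z * z) = z * z by rw [map_mul, hall' σ])
      rw [this, orderOf_one] at hσ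
      omega
  have hNz' : N z = z := by rw [hNz, hzz, one_mul]
  let χ : A →* ℂˣ :=
    { toFun := fun a => if N a = 1 then 1 else -1
      map_one' := by simp
      map_mul' := fun a b => by
        rw [map_mul]
        rcases hN a with ha | ha <;> rcases hN b with hb | hb <;> simp [ha, hb, hz1, hzz] }
  have hNs : ∀ a, N (s a) = N a := fun a => by
    show s a * s (s a) * s (s (s a)) = a * s a * s (s a)
    rw [hs3]
    simp only [mul_comm, mul_left_comm]
  have hχinv : ∀ τ ∈ E, ∀ a, χ (τ a) = χ a := by
    intro τ hτ a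
    obtain ⟨j, rfl⟩ := hpow τ hτ
    have : N ((s ^ j) a) = N a := by
      induction j with
      | zero => simp
      | succ j ih => rw [pow_succ', MulAut.mul_apply, hNs, ih (E.pow_mem σ.2 j)]
    show (if N ((s ^ j) a) = 1 then (1 : ℂˣ) else -1) = if N a = 1 then (1 : ℂˣ) else -1
    rw [this]
  have hχz : χ z = -1 := by
    show (if N z = 1 then (1 : ℂˣ) else -1) = -1
    rw [hNz', if_neg hz1]
  have hχ1 : χ ≠ 1 := fun h => by
    have h' := congrArg (fun t : A →* ℂˣ => ((t z : ℂˣ) : ℂ)) h
    simp only [hχz, MonoidHom.one_apply, Units.val_neg, Units.val_one] at h'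
    norm_num at h'
  have h := heq χ hχinv
  rw [if_neg hχ1, hlz] at h
  have hzero : ∑ x, (χ x : ℂ) = 0 := by
    have h2 : (χ z : ℂ) * ∑ x, (χ x : ℂ) = ∑ x, (χ x : ℂ) := by
      rw [Finset.mul_sum]
      exact Fintype.sum_equiv (Equiv.mulLeft z) _ _ fun x => by simp
    rw [hχz, Units.val_neg, Units.val_one] at h2
    linear_combination (-1 / 2 : ℂ) * h2
  rw [hsplit2, map_one, Units.val_one] at hzero
  rw [hχz, Units.val_neg, Units.val_one] at h hzero
  have : (3 : ℂ) = 0 := by linear_combination (-1 : ℂ) * h + hzero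
  norm_num at this

end

end Cfsg.Agent.BlockChar.CentreFive
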