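import Cfsg.Agent.BlockChar.CentreFive.Basic

/-!
# Three generators, two of which span a plane of zero squares

In this case two elements span the square or the cube of the radical modulo the next power.
-/

set_option autoImplicit false

namespace Cfsg.Agent.BlockChar.CentreFive

open Module
open scoped Pointwise

variable {k B : Type*} [Field k] [Ring B] [Algebra k B] {τ : B →ₗ[k] k} {J : Submodule k B} {m : ℕ}

theorem mem_span_triple_sup {T : Submodule k B} {a b c x : B} :
    x ∈ Submodule.span k {a, b, c} ⊔ T ↔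
      ∃ r s t : k, x - r • a - s • b - t • c ∈ T := by
  constructor
  · intro h
    obtain ⟨y, hy, v, hv, rfl⟩ := Submodule.mem_sup.1 h
    obtain ⟨r, s, t, rfl⟩ := Submodule.mem_span_triple.1 hy
    exact ⟨r, s, t, by
      rwa [show r • a + s • b + t • c + v - r • a - s • b - t • c = v by abel]⟩
  · rintro ⟨r, s, t, h⟩
    rw [show x = (r • a + s • b + t • c) + (x - r • a - s • b - t • c) by abel]
    exact Submodule.add_mem_sup (Submodule.mem_span_triple.2 ⟨r, s, t, rfl⟩) h

/-- The next layer is spanned by the products of spanning sets. -/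
theorem layer_mul {i : ℕ} {S S' : Set B} {T : Submodule k B}
    (h1 : J ^ i ≤ Submodule.span k S ⊔ J ^ (i + 1)) (h2 : J ≤ Submodule.span k S' ⊔ J ^ 2)
    (hS : Submodule.span k S ≤ J ^ i) (hT : J ^ (i + 2) ≤ T)
    (hprod : ∀ a ∈ S, ∀ b ∈ S', a * b ∈ T) : J ^ (i + 1) ≤ T := by
  rw [pow_succ J i]
  refine Submodule.mul_le.2 fun x hx y hy => ?_
  obtain ⟨x₁, hx₁, x₂, hx₂, rfl⟩ := Submodule.mem_sup.1 (h1 hx)
  obtain ⟨y₁, hy₁, y₂, hy₂, rfl⟩ := Submodule.mem_sup.1 (h2 hy)
  have hp : Submodule.span k S * Submodule.span k S' ≤ T := by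
    rw [Submodule.span_mul_span, Submodule.span_le]
    rintro _ ⟨a, ha, b, hb, rfl⟩
    exact hprod a ha b hb
  rw [add_mul, mul_add]
  exact T.add_mem (T.add_mem (hp (Submodule.mul_mem_mul hx₁ hy₁))
    (hT (Loc.mul_mem rfl (hS hx₁) hy₂)))
    (hT (Loc.mul_mem (j := 1) rfl hx₂ (Loc.mem_one hy)))

section

variable [FiniteDimensional k B] (h : Loc τ J m) {x y z : B} (hx : x ∈ J) (hy : y ∈ J) (hz : z ∈ J)
  (hgen : J ≤ Submodule.span k {x, y, z} ⊔ J ^ 2)
  (hxx : x * x ∈ J ^ 3) (hyy : y * y ∈ J ^ 3) (hxy : x * y + y * x ∈ J ^ 3)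

include h

theorem sq_mem {a b : B} (ha : a ∈ J) (hb : b ∈ J) : a * b ∈ J ^ 2 :=
  Loc.mul_mem (i := 1) (j := 1) rfl (Loc.mem_one ha) (Loc.mem_one hb)

omit h

omit [FiniteDimensional k B] in
theorem mul_three_left {a w : B} (ha : a ∈ J) (hw : w ∈ J ^ 3) : a * w ∈ J ^ 4 :=
  Loc.mul_mem (i := 1) (by omega) (Loc.mem_one ha) hw

omit [FiniteDimensional k B] in
theorem mul_three_right {a w : B} (ha : a ∈ J) (hw : w ∈ J ^ 3) : w * a ∈ J ^ 4 :=
  Loc.mul_mem (j := 1) rfl hw (Loc.mem_one ha)

include hx hy hxx hxy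

/-- `x y x` vanishes modulo the fourth power. -/
theorem xyx_mem : x * y * x ∈ J ^ 4 := by
  rw [show x * y * x = x * (x * y + y * x) - x * x * y by
    simp only [mul_add, ← mul_assoc]; abel]
  exact Submodule.sub_mem _ (mul_three_left hx hxy) (mul_three_right hy hxx)

omit hxx

include hyy

/-- `y x y` vanishes modulo the fourth power. -/
theorem yxy_mem : y * x * y ∈ J ^ 4 := by
  rw [show y * x * y = (x * y + y * x) * y - x * (y * y) by
    simp only [add_mul, ← mul_assoc]; abel]
  exact Submodule.sub_mem _ (mul_three_right hy hxy) (mul_three_left hx hyy)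

include hxx h hz hgen

/-- The first normal form. -/
theorem two_three_first (h2 : J ^ 2 ≤ Submodule.span k {x * y, x * z, y * z} ⊔ J ^ 3) :
    Two J 3 := by
  refine ⟨x * y * z, 0, ?_⟩
  set T := Submodule.span k {x * y * z, 0} ⊔ J ^ (3 + 1) with hTdef
  have hg : x * y * z ∈ T := Submodule.mem_sup_left (Submodule.subset_span (Set.mem_insert _ _))
  have h4 : J ^ 4 ≤ T := le_sup_right
  have hl : ∀ q ∈ J ^ 2, x * q ∈ T ∧ y * q ∈ T := by
    intro q hq
    obtain ⟨r, s, t, hrst⟩ := mem_span_triple_sup.1 (h2 hq)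
    constructor
    · rw [show x * q = x * (q - r • (x * y) - s • (x * z) - t • (y * z)) + r • (x * x * y) +
        s • (x * x * z) + t • (x * y * z) by
          simp only [mul_sub, mul_smul_comm, ← mul_assoc]; abel]
      exact T.add_mem (T.add_mem (T.add_mem (h4 (mul_three_left hx hrst))
        (T.smul_mem _ (h4 (mul_three_right hy hxx))))
        (T.smul_mem _ (h4 (mul_three_right hz hxx)))) (T.smul_mem _ hg)
    · rw [show y * q = y * (q - r • (x * y) - s • (x * z) - t • (y * z)) + r • (y * x * y) +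
        s • ((x * y + y * x) * z) - s • (x * y * z) + t • (y * y * z) by
          simp only [mul_sub, mul_smul_comm, ← mul_assoc, add_mul, smul_add]; abel]
      exact T.add_mem (T.sub_mem (T.add_mem (T.add_mem (h4 (mul_three_left hy hrst))
        (T.smul_mem _ (h4 (yxy_mem hx hy hyy hxy))))
        (T.smul_mem _ (h4 (mul_three_right hz hxy)))) (T.smul_mem _ hg))
        (T.smul_mem _ (h4 (mul_three_right hz hyy)))
  refine layer_mul h2 hgen ?_ le_sup_right fun a ha b hb => ?_
  · rw [Submodule.span_le]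
    rintro _ (rfl | rfl | rfl)
    exacts [sq_mem h hx hy, sq_mem h hx hz, sq_mem h hy hz]
  · have hbJ : b ∈ J := by rcases hb with e | e | e <;> rw [e] <;> assumption
    rcases ha with rfl | rfl | rfl <;> rw [mul_assoc]
    exacts [(hl _ (sq_mem h hy hbJ)).1, (hl _ (sq_mem h hz hbJ)).1, (hl _ (sq_mem h hz hbJ)).2]

/-- The second normal form. -/
theorem two_three_second (h2 : J ^ 2 ≤ Submodule.span k {x * y, z * x, z * y} ⊔ J ^ 3) :
    Two J 3 := by
  refine ⟨z * x * y, 0, ?_⟩
  set T := Submodule.span k {z * x * y, 0} ⊔ J ^ (3 + 1) with hTdef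
  have hg : z * x * y ∈ T := Submodule.mem_sup_left (Submodule.subset_span (Set.mem_insert _ _))
  have h4 : J ^ 4 ≤ T := le_sup_right
  have hr : ∀ q ∈ J ^ 2, q * x ∈ T ∧ q * y ∈ T := by
    intro q hq
    obtain ⟨r, s, t, hrst⟩ := mem_span_triple_sup.1 (h2 hq)
    constructor
    · rw [show q * x = (q - r • (x * y) - s • (z * x) - t • (z * y)) * x + r • (x * y * x) +
        s • (z * (x * x)) + (t • (z * (x * y + y * x)) - t • (z * x * y)) by
          simp only [sub_mul, smul_mul_assoc, ← mul_assoc, mul_add, smul_add]; abel]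
      exact T.add_mem (T.add_mem (T.add_mem (h4 (mul_three_right hx hrst))
        (T.smul_mem _ (h4 (xyx_mem hx hy hxx hxy))))
        (T.smul_mem _ (h4 (mul_three_left hz hxx))))
        (T.sub_mem (T.smul_mem _ (h4 (mul_three_left hz hxy))) (T.smul_mem _ hg))
    · rw [show q * y = (q - r • (x * y) - s • (z * x) - t • (z * y)) * y + r • (x * (y * y)) +
        s • (z * x * y) + t • (z * (y * y)) by
          simp only [sub_mul, smul_mul_assoc, ← mul_assoc]; abel]
      exact T.add_mem (T.add_mem (T.add_mem (h4 (mul_three_right hy hrst))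
        (T.smul_mem _ (h4 (mul_three_left hx hyy)))) (T.smul_mem _ hg))
        (T.smul_mem _ (h4 (mul_three_left hz hyy)))
  rw [pow_succ' J 2, Submodule.mul_le]
  intro b hb q hq
  obtain ⟨r, s, t, hrst⟩ := mem_span_triple_sup.1 (h2 hq)
  rw [show b * q = b * (q - r • (x * y) - s • (z * x) - t • (z * y)) + r • (b * x * y) +
    s • (b * z * x) + t • (b * z * y) by simp only [mul_sub, mul_smul_comm, ← mul_assoc]; abel]
  exact T.add_mem (T.add_mem (T.add_mem (h4 (mul_three_left hb hrst))
    (T.smul_mem _ (hr _ (sq_mem h hb hx)).2)) (T.smul_mem _ (hr _ (sq_mem h hb hz)).1))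
    (T.smul_mem _ (hr _ (sq_mem h hb hz)).2)

/-- The third normal form. -/
theorem two_three_third (h2 : J ^ 2 ≤ Submodule.span k {x * y, z * x, y * z} ⊔ J ^ 3) {a b : k}
    (ha : x * z - a • (x * y) ∈ J ^ 3) (hb : z * y - b • (x * y) ∈ J ^ 3) : Two J 3 := by
  refine ⟨x * y * z, y * z * x, ?_⟩
  set T := Submodule.span k {x * y * z, y * z * x} ⊔ J ^ (3 + 1) with hTdef
  have hg : x * y * z ∈ T := Submodule.mem_sup_left (Submodule.subset_span (Set.mem_insert _ _))
  have hg' : y * z * x ∈ T := Submodule.mem_sup_left (Submodule.subset_span (by simp))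
  have h4 : J ^ 4 ≤ T := le_sup_right
  have hxzx : x * z * x ∈ T := by
    rw [show x * z * x = (x * z - a • (x * y)) * x + a • (x * y * x) by
      simp only [sub_mul, smul_mul_assoc]; abel]
    exact T.add_mem (h4 (mul_three_right hx ha)) (T.smul_mem _ (h4 (xyx_mem hx hy hxx hxy)))
  have hzxy : z * x * y ∈ T := by
    rw [show z * x * y = z * (x * y + y * x) - ((z * y - b • (x * y)) * x + b • (x * y * x)) by
      simp only [mul_add, sub_mul, smul_mul_assoc, ← mul_assoc]; abel]
    exact T.sub_mem (h4 (mul_three_left hz hxy)) (T.add_mem (h4 (mul_three_right hx hb))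
      (T.smul_mem _ (h4 (xyx_mem hx hy hxx hxy))))
  have hl : ∀ q ∈ J ^ 2, x * q ∈ T ∧ y * q ∈ T := by
    intro q hq
    obtain ⟨r, s, t, hrst⟩ := mem_span_triple_sup.1 (h2 hq)
    constructor
    · rw [show x * q = x * (q - r • (x * y) - s • (z * x) - t • (y * z)) + r • (x * x * y) +
        s • (x * z * x) + t • (x * y * z) by
          simp only [mul_sub, mul_smul_comm, ← mul_assoc]; abel]
      exact T.add_mem (T.add_mem (T.add_mem (h4 (mul_three_left hx hrst))
        (T.smul_mem _ (h4 (mul_three_right hy hxx)))) (T.smul_mem _ hxzx)) (T.smul_mem _ hg)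
    · rw [show y * q = y * (q - r • (x * y) - s • (z * x) - t • (y * z)) + r • (y * x * y) +
        s • (y * z * x) + t • (y * y * z) by
          simp only [mul_sub, mul_smul_comm, ← mul_assoc]; abel]
      exact T.add_mem (T.add_mem (T.add_mem (h4 (mul_three_left hy hrst))
        (T.smul_mem _ (h4 (yxy_mem hx hy hyy hxy)))) (T.smul_mem _ hg'))
        (T.smul_mem _ (h4 (mul_three_right hz hyy)))
  refine layer_mul h2 hgen ?_ le_sup_right fun q hq v hv => ?_
  · rw [Submodule.span_le]
    rintro _ (rfl | rfl | rfl)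
    exacts [sq_mem h hx hy, sq_mem h hz hx, sq_mem h hy hz]
  · have hvJ : v ∈ J := by rcases hv with e | e | e <;> rw [e] <;> assumption
    rcases hq with rfl | rfl | rfl
    · rw [mul_assoc]; exact (hl _ (sq_mem h hy hvJ)).1
    · rcases hv with e | e | e <;> rw [e]
      · rw [mul_assoc]; exact h4 (mul_three_left hz hxx)
      · exact hzxy
      · rw [mul_assoc, show z * (x * z) = z * (x * z - a • (x * y)) + a • (z * x * y) by
          simp only [mul_sub, mul_smul_comm, ← mul_assoc]; abel]
        exact T.add_mem (h4 (mul_three_left hz ha)) (T.smul_mem _ hzxy)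
    · rw [mul_assoc]; exact (hl _ (sq_mem h hz hvJ)).2

end

set_option maxHeartbeats 800000 in
/-- A plane of zero squares among three generators gives a two-element square or cube. -/
theorem two_of_plane [FiniteDimensional k B] (h : Loc τ J m) {x y z : B} (hx : x ∈ J) (hy : y ∈ J)
    (hz : z ∈ J) (hgen : J ≤ Submodule.span k {x, y, z} ⊔ J ^ 2)
    (hxx : x * x ∈ J ^ 3) (hyy : y * y ∈ J ^ 3) (hxy : x * y + y * x ∈ J ^ 3)
    (h2 : J ^ 2 ≤ Submodule.span k {x * y - y * x, x * z - z * x, y * z - z * y} ⊔ J ^ 3) :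
    Two J 2 ∨ Two J 3 := by
  classical
  refine (em (Two J 2)).imp id fun hnot => ?_
  -- independence of the three commutators
  have hind : ∀ a b c : k,
      a • (x * y - y * x) + b • (x * z - z * x) + c • (y * z - z * y) ∈ J ^ 3 →
        a = 0 ∧ b = 0 ∧ c = 0 := by
    intro a b c hrel
    refine ⟨?_, ?_, ?_⟩ <;> by_contra hne <;> refine hnot ?_
    · refine ⟨x * z - z * x, y * z - z * y, fun q hq => ?_⟩
      obtain ⟨r, s, t, hrst⟩ := mem_span_triple_sup.1 (h2 hq)
      refine mem_span_pair_sup.2 ⟨s - r * a⁻¹ * b, t - r * a⁻¹ * c, ?_⟩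
      convert (J ^ (2 + 1)).add_mem hrst ((J ^ (2 + 1)).smul_mem (r * a⁻¹) hrel) using 1
      match_scalars <;> field_simp <;> ring
    · refine ⟨x * y - y * x, y * z - z * y, fun q hq => ?_⟩
      obtain ⟨r, s, t, hrst⟩ := mem_span_triple_sup.1 (h2 hq)
      refine mem_span_pair_sup.2 ⟨r - s * b⁻¹ * a, t - s * b⁻¹ * c, ?_⟩
      convert (J ^ (2 + 1)).add_mem hrst ((J ^ (2 + 1)).smul_mem (s * b⁻¹) hrel) using 1
      match_scalars <;> field_simp <;> ring
    · refine ⟨x * y - y * x, x * z - z * x, fun q hq => ?_⟩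
      obtain ⟨r, s, t, hrst⟩ := mem_span_triple_sup.1 (h2 hq)
      refine mem_span_pair_sup.2 ⟨r - t * c⁻¹ * a, s - t * c⁻¹ * b, ?_⟩
      convert (J ^ (2 + 1)).add_mem hrst ((J ^ (2 + 1)).smul_mem (t * c⁻¹) hrel) using 1
      match_scalars <;> field_simp <;> ring
  -- the square modulo the cube has dimension three
  let q3 := (J ^ 3).mkQ
  let U := (J ^ 2).map q3
  have hU : finrank k U ≤ 3 := by
    have hle : U ≤ Submodule.span k
        {q3 (x * y - y * x), q3 (x * z - z * x), q3 (y * z - z * y)} := by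
      rintro _ ⟨w, hw, rfl⟩
      obtain ⟨r, s, t, hrst⟩ := mem_span_triple_sup.1 (h2 hw)
      refine Submodule.mem_span_triple.2 ⟨r, s, t, ?_⟩
      simp only [q3, Submodule.mkQ_apply, ← Submodule.Quotient.mk_smul, ← Submodule.Quotient.mk_add,
        Submodule.Quotient.eq]
      convert (J ^ 3).neg_mem hrst using 1
      abel
    refine (Submodule.finrank_mono hle).trans ((finrank_span_le_card _).trans ?_)
    simp only [Set.toFinset_insert, Set.toFinset_singleton]
    exact (Finset.card_insert_le _ _).trans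
      (Nat.succ_le_succ ((Finset.card_insert_le _ _).trans (by simp)))
  -- three independent products span the square
  have hspan : ∀ a b c : B, a ∈ J ^ 2 → b ∈ J ^ 2 → c ∈ J ^ 2 →
      (∀ r s t : k, r • a + s • b + t • c ∈ J ^ 3 → r = 0 ∧ s = 0 ∧ t = 0) →
      J ^ 2 ≤ Submodule.span k {a, b, c} ⊔ J ^ 3 := by
    intro a b c ha hb hc hli w hw
    have hli' : LinearIndependent k ![q3 a, q3 b, q3 c] := by
      rw [Fintype.linearIndependent_iff]
      intro g hg
      simp only [Fin.sum_univ_three, Matrix.cons_val_zero, Matrix.cons_val_one,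
        Matrix.cons_val_two, Matrix.tail_cons, Matrix.head_cons, q3, Submodule.mkQ_apply,
        ← Submodule.Quotient.mk_smul, ← Submodule.Quotient.mk_add, Submodule.Quotient.mk_eq_zero] at hg
      obtain ⟨h0, h1, h2'⟩ := hli _ _ _ hg
      intro i
      fin_cases i <;> assumption
    have heq : Submodule.span k (Set.range ![q3 a, q3 b, q3 c]) = U := by
      refine Submodule.eq_of_le_of_finrank_le ?_ ?_
      · rw [Submodule.span_le]
        rintro _ ⟨i, rfl⟩
        fin_cases i
        exacts [⟨a, ha, rfl⟩, ⟨b, hb, rfl⟩, ⟨c, hc, rfl⟩]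
      · rw [finrank_span_eq_card hli', Fintype.card_fin]; exact hU
    have hmem : q3 w ∈ Submodule.span k (Set.range ![q3 a, q3 b, q3 c]) := heq ▸ ⟨w, hw, rfl⟩
    obtain ⟨g, hg⟩ := Submodule.mem_span_range_iff_exists_fun k |>.1 hmem
    simp only [Fin.sum_univ_three, Matrix.cons_val_zero, Matrix.cons_val_one,
        Matrix.cons_val_two, Matrix.tail_cons, Matrix.head_cons, q3, Submodule.mkQ_apply,
        ← Submodule.Quotient.mk_smul, ← Submodule.Quotient.mk_add, Submodule.Quotient.eq] at hg
    refine mem_span_triple_sup.2 ⟨g 0, g 1, g 2, ?_⟩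
    convert (J ^ 3).neg_mem hg using 1
    abel
  have hxyn : ∀ a : k, a • (x * y) ∈ J ^ 3 → a = 0 := by
    intro a ha
    refine (hind a 0 0 ?_).1
    rw [show a • (x * y - y * x) + (0 : k) • (x * z - z * x) + (0 : k) • (y * z - z * y) =
      a • (x * y) + (a • (x * y) - a • (x * y + y * x)) by module]
    exact Submodule.add_mem _ ha (Submodule.sub_mem _ ha (Submodule.smul_mem _ _ hxy))
  by_cases hL : ∀ r s t : k, r • (x * y) + s • (x * z) + t • (y * z) ∈ J ^ 3 → r = 0 ∧ s = 0 ∧ t = 0
  · exact two_three_first h hx hy hz hgen hxx hyy hxy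
      (hspan _ _ _ (sq_mem h hx hy) (sq_mem h hx hz) (sq_mem h hy hz) hL)
  by_cases hR : ∀ r s t : k, r • (x * y) + s • (z * x) + t • (z * y) ∈ J ^ 3 → r = 0 ∧ s = 0 ∧ t = 0
  · exact two_three_second h hx hy hz hgen hxx hyy hxy
      (hspan _ _ _ (sq_mem h hx hy) (sq_mem h hz hx) (sq_mem h hz hy) hR)
  push Not at hL hR
  obtain ⟨a, s, t, hst, hst0⟩ := hL
  obtain ⟨b, s', t', hst', hst0'⟩ := hR
  set x' := s • x + t • y with hx'
  set y' := s' • x + t' • y with hy'
  set d := s * t' - t * s' with hd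
  -- independence of the two annihilating directions
  have hd0 : d ≠ 0 := by
    intro hd0
    have e : ∀ u v : k, (u * (s' * a) - u * (s * b)) • (x * y) +
        (u * (s' * s)) • (x * z - z * x) + (u * (s' * t)) • (y * z - z * y) =
        (u * s') • (a • (x * y) + s • (x * z) + t • (y * z)) -
          (u * s) • (b • (x * y) + s' • (z * x) + t' • (z * y)) + (u * d) • (z * y) := by
      intro u v
      rw [hd]; module
    have e' : ∀ u : k, (u * (t' * a) - u * (t * b)) • (x * y) +
        (u * (t' * s)) • (x * z - z * x) + (u * (t' * t)) • (y * z - z * y) =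
        (u * t') • (a • (x * y) + s • (x * z) + t • (y * z)) -
          (u * t) • (b • (x * y) + s' • (z * x) + t' • (z * y)) - (u * d) • (z * x) := by
      intro u
      rw [hd]; module
    have key : ∀ A B C : k, A • (x * y) + B • (x * z - z * x) + C • (y * z - z * y) ∈ J ^ 3 →
        B = 0 ∧ C = 0 := by
      intro A B C hA
      have := hind A (2 * B) (2 * C) (by
        rw [show A • (x * y - y * x) + (2 * B) • (x * z - z * x) + (2 * C) • (y * z - z * y) =
          (2 : k) • (A • (x * y) + B • (x * z - z * x) + C • (y * z - z * y)) -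
            A • (x * y + y * x) by module]
        exact Submodule.sub_mem _ (Submodule.smul_mem _ _ hA) (Submodule.smul_mem _ _ hxy))
      have h2 : (2 : k) ≠ 0 := fun h2 => by
        have h1 := (hind 1 0 0 (by
          rw [show (1 : k) • (x * y - y * x) + (0 : k) • (x * z - z * x) +
            (0 : k) • (y * z - z * y) = (2 : k) • (x * y) - (x * y + y * x) by module,
            h2, zero_smul, zero_sub]
          exact Submodule.neg_mem _ hxy)).1
        exact one_ne_zero h1
      exact ⟨(mul_eq_zero.1 this.2.1).resolve_left h2, (mul_eq_zero.1 this.2.2).resolve_left h2⟩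
    have h1 := key _ _ _ (by
      rw [e 1 0, hd0, mul_zero, zero_smul, add_zero]
      exact Submodule.sub_mem _ (Submodule.smul_mem _ _ hst) (Submodule.smul_mem _ _ hst'))
    have h2 := key _ _ _ (by
      rw [e' 1, hd0, mul_zero, zero_smul, sub_zero]
      exact Submodule.sub_mem _ (Submodule.smul_mem _ _ hst) (Submodule.smul_mem _ _ hst'))
    simp only [one_mul, mul_eq_zero] at h1 h2
    by_cases hs' : s' = 0
    · by_cases ht' : t' = 0
      · subst hs' ht'
        simp only [zero_smul, add_zero] at hst'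
        exact hst0' (hxyn b hst') rfl rfl
      · have hs0 : s = 0 := h2.1.resolve_left ht'
        have ht0 : t = 0 := h2.2.resolve_left ht'
        subst hs0 ht0
        simp only [zero_smul, add_zero] at hst
        exact hst0 (hxyn a hst) rfl rfl
    · have hs0 : s = 0 := h1.1.resolve_left hs'
      have ht0 : t = 0 := h1.2.resolve_left hs'
      subst hs0 ht0
      simp only [zero_smul, add_zero] at hst
      exact hst0 (hxyn a hst) rfl rfl
  have hx'J : x' ∈ J := J.add_mem (J.smul_mem _ hx) (J.smul_mem _ hy)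
  have hy'J : y' ∈ J := J.add_mem (J.smul_mem _ hx) (J.smul_mem _ hy)
  have hsqu : ∀ u v : k, (u • x + v • y) * (u • x + v • y) ∈ J ^ 3 := by
    intro u v
    rw [show (u • x + v • y) * (u • x + v • y) = (u * u) • (x * x) + (v * v) • (y * y) +
      (u * v) • (x * y + y * x) by
        simp only [add_mul, mul_add, smul_mul_assoc, mul_smul_comm, smul_add, smul_smul]; module]
    exact Submodule.add_mem _ (Submodule.add_mem _ (Submodule.smul_mem _ _ hxx)
      (Submodule.smul_mem _ _ hyy)) (Submodule.smul_mem _ _ hxy)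
  have hxy' : x' * y' + y' * x' ∈ J ^ 3 := by
    rw [show x' * y' + y' * x' = (2 * (s * s')) • (x * x) + (2 * (t * t')) • (y * y) +
      (s * t' + t * s') • (x * y + y * x) by
        simp only [hx', hy', add_mul, mul_add, smul_mul_assoc, mul_smul_comm, smul_add, smul_smul]
        module]
    exact Submodule.add_mem _ (Submodule.add_mem _ (Submodule.smul_mem _ _ hxx)
      (Submodule.smul_mem _ _ hyy)) (Submodule.smul_mem _ _ hxy)
  have hprod : x' * y' - d • (x * y) ∈ J ^ 3 := by
    rw [show x' * y' - d • (x * y) = (s * s') • (x * x) + (t * t') • (y * y) +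
      (t * s') • (x * y + y * x) by
        simp only [hx', hy', hd, add_mul, mul_add, smul_mul_assoc, mul_smul_comm, smul_add,
          smul_smul]
        module]
    exact Submodule.add_mem _ (Submodule.add_mem _ (Submodule.smul_mem _ _ hxx)
      (Submodule.smul_mem _ _ hyy)) (Submodule.smul_mem _ _ hxy)
  have ha : x' * z - (-(a * d⁻¹)) • (x' * y') ∈ J ^ 3 := by
    rw [show x' * z - (-(a * d⁻¹)) • (x' * y') = (a • (x * y) + s • (x * z) + t • (y * z)) +
      (a * d⁻¹) • (x' * y' - d • (x * y)) by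
        rw [smul_sub, smul_smul, mul_assoc, inv_mul_cancel₀ hd0, mul_one]
        simp only [hx', add_mul, smul_mul_assoc, neg_smul, sub_neg_eq_add]
        abel]
    exact Submodule.add_mem _ hst (Submodule.smul_mem _ _ hprod)
  have hb : z * y' - (-(b * d⁻¹)) • (x' * y') ∈ J ^ 3 := by
    rw [show z * y' - (-(b * d⁻¹)) • (x' * y') = (b • (x * y) + s' • (z * x) + t' • (z * y)) +
      (b * d⁻¹) • (x' * y' - d • (x * y)) by
        rw [smul_sub, smul_smul, mul_assoc, inv_mul_cancel₀ hd0, mul_one]
        simp only [hy', mul_add, mul_smul_comm, neg_smul, sub_neg_eq_add]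
        abel]
    exact Submodule.add_mem _ hst' (Submodule.smul_mem _ _ hprod)
  have hxe : x = (t' * d⁻¹) • x' + (-(t * d⁻¹)) • y' := by
    rw [hx', hy']
    match_scalars <;> field_simp <;> rw [hd] <;> ring
  have hye : y = (-(s' * d⁻¹)) • x' + (s * d⁻¹) • y' := by
    rw [hx', hy']
    match_scalars <;> field_simp <;> rw [hd] <;> ring
  refine two_three_third h hx'J hy'J hz ?_ (hsqu s t) (hsqu s' t') hxy' ?_ ha hb
  · refine hgen.trans (sup_le_sup ?_ le_rfl)
    rw [Submodule.span_le]
    intro v hv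
    rcases hv with e | e | e <;> rw [SetLike.mem_coe, e]
    · exact Submodule.mem_span_triple.2 ⟨t' * d⁻¹, -(t * d⁻¹), 0,
        by rw [zero_smul, add_zero]; exact hxe.symm⟩
    · exact Submodule.mem_span_triple.2 ⟨-(s' * d⁻¹), s * d⁻¹, 0,
        by rw [zero_smul, add_zero]; exact hye.symm⟩
    · exact Submodule.subset_span (by simp)
  · refine h2.trans (sup_le ?_ le_sup_right)
    set S := Submodule.span k {x' * y', z * x', y' * z} ⊔ J ^ 3 with hS
    have g1 : x' * y' ∈ S := Submodule.mem_sup_left (Submodule.subset_span (by simp))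
    have g2 : z * x' ∈ S := Submodule.mem_sup_left (Submodule.subset_span (by simp))
    have g3 : y' * z ∈ S := Submodule.mem_sup_left (Submodule.subset_span (by simp))
    have h3S : J ^ 3 ≤ S := le_sup_right
    have g4 : x' * z ∈ S := by
      rw [show x' * z = (x' * z - (-(a * d⁻¹)) • (x' * y')) + (-(a * d⁻¹)) • (x' * y') by abel]
      exact S.add_mem (h3S ha) (S.smul_mem _ g1)
    have g5 : z * y' ∈ S := by
      rw [show z * y' = (z * y' - (-(b * d⁻¹)) • (x' * y')) + (-(b * d⁻¹)) • (x' * y') by abel]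
      exact S.add_mem (h3S hb) (S.smul_mem _ g1)
    have gxy : x * y ∈ S := by
      have e : x * y = d⁻¹ • (x' * y') - d⁻¹ • (x' * y' - d • (x * y)) := by
        rw [smul_sub, smul_smul, inv_mul_cancel₀ hd0, one_smul]; abel
      rw [e]
      exact S.sub_mem (S.smul_mem _ g1) (S.smul_mem _ (h3S hprod))
    have hcomb : ∀ (v : B) (u w : k), v = u • x' + w • y' → v * z - z * v ∈ S := by
      intro v u w hv
      have e : v * z - z * v = (u • (x' * z) + w • (y' * z)) - (u • (z * x') + w • (z * y')) := by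
        rw [hv, add_mul, mul_add, smul_mul_assoc, smul_mul_assoc, mul_smul_comm, mul_smul_comm]
      rw [e]
      exact S.sub_mem (S.add_mem (S.smul_mem _ g4) (S.smul_mem _ g3))
        (S.add_mem (S.smul_mem _ g2) (S.smul_mem _ g5))
    rw [Submodule.span_le]
    intro v hv
    rcases hv with e | e | e <;> rw [SetLike.mem_coe, e]
    · rw [show x * y - y * x = (2 : k) • (x * y) - (x * y + y * x) by module]
      exact S.sub_mem (S.smul_mem _ gxy) (h3S hxy)
    · exact hcomb x _ _ hxe
    · exact hcomb y _ _ hye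

end Cfsg.Agent.BlockChar.CentreFive
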