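import Cfsg.Agent.BlockChar.CentreFive.LinSyz
import Cfsg.Agent.BlockChar.CentreFive.Plane

/-!
# Local symmetric algebras with three generators

If the radical needs three generators, its fourth power vanishes and it has dimension at most
seven.
-/

set_option autoImplicit false

namespace Cfsg.Agent.BlockChar.CentreFive

open Module

variable {k B : Type*} [Field k] [Ring B] [Algebra k B] {τ : B →ₗ[k] k} {J : Submodule k B} {m : ℕ}

/-- The span of the commutators with the square. -/
def brk (J : Submodule k B) : Submodule k B :=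
  Submodule.span k {w : B | ∃ x ∈ J, ∃ q ∈ J ^ 2, w = x * q - q * x}

theorem brk_le (J : Submodule k B) : brk J ≤ J ^ 3 := by
  refine Submodule.span_le.2 ?_
  rintro _ ⟨x, hx, q, hq, rfl⟩
  exact Submodule.sub_mem _ (Loc.mul_mem (i := 1) (by omega) (Loc.mem_one hx) hq)
    (Loc.mul_mem (j := 1) rfl hq (Loc.mem_one hx))

/-- The commutators of three generators. -/
def cc (e : Fin 3 → B) (j : Fin 3) : B := e (j + 1) * e (j + 2) - e (j + 2) * e (j + 1)

theorem exists_gen [FiniteDimensional k B] {S : Submodule k B} (hS : S ≤ J) {n : ℕ}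
    (hn : finrank k J = finrank k S + n) :
    ∃ e : Fin n → B, (∀ i, e i ∈ J) ∧ J ≤ Submodule.span k (Set.range e) ⊔ S := by
  classical
  obtain ⟨W, hW⟩ := Submodule.exists_isCompl (S.comap J.subtype)
  have h1 := Submodule.finrank_add_eq_of_isCompl hW
  rw [(Submodule.comapSubtypeEquivOfLe hS).finrank_eq] at h1
  haveI : Module.Free k W := Module.Free.of_divisionRing k W
  let bW := Module.finBasisOfFinrankEq k W (show finrank k W = n by omega)
  refine ⟨fun i => ((bW i : J) : B), fun i => (bW i : J).2, fun x hx => ?_⟩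
  obtain ⟨a, ha, w, hw, e⟩ := Submodule.mem_sup.1
    (hW.sup_eq_top.ge (Submodule.mem_top (x := (⟨x, hx⟩ : J))))
  rw [show x = (w : B) + (a : B) from by rw [add_comm]; exact (congrArg Subtype.val e).symm]
  refine Submodule.add_mem_sup ?_ ha
  have hw' : (w : B) = ∑ i, bW.repr ⟨w, hw⟩ i • ((bW i : J) : B) := by
    have h0 := congrArg (fun z : W => ((z : J) : B)) (bW.sum_repr ⟨w, hw⟩).symm
    simp only [Submodule.coe_sum, Submodule.coe_smul] at h0
    exact h0
  rw [hw']
  exact Submodule.sum_mem _ fun i _ => Submodule.smul_mem _ _ (Submodule.subset_span ⟨i, rfl⟩)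

theorem lc_mem {e : Fin 3 → B} (heJ : ∀ i, e i ∈ J) (a : Triple k) :
    Fintype.linearCombination k e a ∈ J := by
  rw [Fintype.linearCombination_apply]
  exact J.sum_mem fun i _ => J.smul_mem _ (heJ i)

theorem exists_lc {e : Fin 3 → B} (hgen : J ≤ Submodule.span k (Set.range e) ⊔ J ^ 2) {x : B}
    (hx : x ∈ J) : ∃ a : Triple k, x - Fintype.linearCombination k e a ∈ J ^ 2 := by
  obtain ⟨y, hy, z, hz, rfl⟩ := Submodule.mem_sup.1 (hgen hx)
  obtain ⟨a, rfl⟩ := (Submodule.mem_span_range_iff_exists_fun k).1 hy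
  exact ⟨a, by rw [Fintype.linearCombination_apply, add_sub_cancel_left]; exact hz⟩

theorem lc_comm (e : Fin 3 → B) (a a' : Triple k) :
    Fintype.linearCombination k e a * Fintype.linearCombination k e a' -
      Fintype.linearCombination k e a' * Fintype.linearCombination k e a =
      ∑ j, (a (j + 1) * a' (j + 2) - a (j + 2) * a' (j + 1)) • cc e j := by
  simp only [Fintype.linearCombination_apply, Fin.sum_univ_three, cc,
    show (0 : Fin 3) + 1 = 1 from rfl, show (0 : Fin 3) + 2 = 2 from rfl,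
    show (1 : Fin 3) + 1 = 2 from rfl, show (1 : Fin 3) + 2 = 0 from rfl,
    show (2 : Fin 3) + 1 = 0 from rfl, show (2 : Fin 3) + 2 = 1 from rfl]
  simp only [add_mul, mul_add, smul_mul_assoc, mul_smul_comm]
  module

/-- The commutators come from three of them and the brackets with the square. -/
theorem comm_le (h : Loc τ J m) {e : Fin 3 → B} (heJ : ∀ i, e i ∈ J)
    (hgen : J ≤ Submodule.span k (Set.range e) ⊔ J ^ 2) :
    comm J ≤ Submodule.span k (Set.range (cc e)) ⊔ brk J := by
  refine Submodule.span_le.2 ?_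
  rintro _ ⟨x, hx, y, hy, rfl⟩
  obtain ⟨a, ha⟩ := exists_lc hgen hx
  obtain ⟨a', ha'⟩ := exists_lc hgen hy
  set u := Fintype.linearCombination k e a
  set v := Fintype.linearCombination k e a'
  have e1 : x * y - y * x = (u * v - v * u) + ((u * (y - v) - (y - v) * u) -
      (y * (x - u) - (x - u) * y)) := by
    simp only [mul_sub, sub_mul]
    abel
  rw [SetLike.mem_coe, e1, lc_comm]
  exact Submodule.add_mem_sup
    (Submodule.sum_mem _ fun j _ => Submodule.smul_mem _ _ (Submodule.subset_span ⟨j, rfl⟩))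
    (Submodule.sub_mem _ (Submodule.subset_span ⟨u, lc_mem heJ a, _, ha', rfl⟩)
      (Submodule.subset_span ⟨y, hy, _, ha, rfl⟩))

theorem sq_le_cc (h : Loc τ J m) (hm : 3 ≤ m) (h2 : J ^ 2 ≤ comm J ⊔ J ^ m)
    {e : Fin 3 → B} (heJ : ∀ i, e i ∈ J) (hgen : J ≤ Submodule.span k (Set.range e) ⊔ J ^ 2) :
    J ^ 2 ≤ Submodule.span k (Set.range (cc e)) ⊔ J ^ 3 :=
  h2.trans (sup_le ((comm_le h heJ hgen).trans (sup_le_sup le_rfl (brk_le J)))
    ((h.anti (by norm_num) hm).trans le_sup_right))

/-- A vanishing combination of spanning elements with a non-zero coefficient leaves two. -/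
theorem two_of_relation {i : ℕ} {w : Fin 3 → B}
    (hw : J ^ i ≤ Submodule.span k (Set.range w) ⊔ J ^ (i + 1)) {a : Triple k} (l : Fin 3)
    (hal : a l ≠ 0) (hrel : ∑ j, a j • w j ∈ J ^ (i + 1)) : Two J i := by
  refine ⟨w (l + 1), w (l + 2), fun q hq => ?_⟩
  obtain ⟨y, hy, z, hz, rfl⟩ := Submodule.mem_sup.1 (hw hq)
  obtain ⟨g, rfl⟩ := (Submodule.mem_span_range_iff_exists_fun k).1 hy
  have hsum : ∀ f : Fin 3 → B, ∑ j, f j = f l + f (l + 1) + f (l + 2) := by
    intro f
    fin_cases l <;> simp [Fin.sum_univ_three] <;> abel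
  refine mem_span_pair_sup.2
    ⟨g (l + 1) - g l * (a l)⁻¹ * a (l + 1), g (l + 2) - g l * (a l)⁻¹ * a (l + 2), ?_⟩
  have h1 := Submodule.add_mem _ hz ((J ^ (i + 1)).smul_mem (g l * (a l)⁻¹) hrel)
  rw [hsum fun j => a j • w j] at h1
  rw [hsum fun j => g j • w j]
  convert h1 using 1
  match_scalars <;> field_simp <;> ring

section

variable [FiniteDimensional k B] [Infinite k] (h : Loc τ J m) (hm : 4 ≤ m)
  (h2 : J ^ 2 ≤ comm J ⊔ J ^ m) {e : Fin 3 → B} (heJ : ∀ i, e i ∈ J)
  (hgen : J ≤ Submodule.span k (Set.range e) ⊔ J ^ 2)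
  (hind : ∀ a : Triple k, ∑ j, a j • cc e j ∈ J ^ 3 → a = 0)

include h hm h2 heJ hgen hind

/-- Coordinates on the square modulo the cube. -/
theorem exists_coord :
    ∃ f : B →ₗ[k] Triple k, ∀ q ∈ J ^ 2, q - ∑ j, f q j • cc e j ∈ J ^ 3 := by
  classical
  let Ψ : Triple k →ₗ[k] B ⧸ J ^ 3 := (J ^ 3).mkQ.comp (Fintype.linearCombination k (cc e))
  have hΨ : LinearMap.ker Ψ = ⊥ := by
    refine (Submodule.eq_bot_iff _).2 fun a ha => hind a ?_
    have h0 : (J ^ 3).mkQ (Fintype.linearCombination k (cc e) a) = 0 := ha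
    rwa [Submodule.mkQ_apply, Submodule.Quotient.mk_eq_zero,
      Fintype.linearCombination_apply] at h0
  obtain ⟨g, hg⟩ := Ψ.exists_leftInverse_of_injective hΨ
  refine ⟨g.comp (J ^ 3).mkQ, fun q hq => ?_⟩
  obtain ⟨y, hy, z, hz, rfl⟩ := Submodule.mem_sup.1 (sq_le_cc h (by omega) h2 heJ hgen hq)
  obtain ⟨a, rfl⟩ := (Submodule.mem_span_range_iff_exists_fun k).1 hy
  have e1 : g.comp (J ^ 3).mkQ ((∑ j, a j • cc e j) + z) = a := by
    rw [map_add, LinearMap.comp_apply, LinearMap.comp_apply,
      show (J ^ 3).mkQ z = 0 from (Submodule.Quotient.mk_eq_zero _).2 hz, map_zero, add_zero,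
      ← Fintype.linearCombination_apply]
    exact LinearMap.congr_fun hg a
  rw [e1, add_sub_cancel_left]
  exact hz

/-- The cube comes from brackets of generators with their commutators. -/
theorem cube_le : J ^ 3 ≤ Submodule.span k
    (Set.range fun ij : Fin 3 × Fin 3 => e ij.1 * cc e ij.2 - cc e ij.2 * e ij.1) ⊔ J ^ 4 := by
  set T := Submodule.span k
    (Set.range fun ij : Fin 3 × Fin 3 => e ij.1 * cc e ij.2 - cc e ij.2 * e ij.1) ⊔ J ^ 4
  have h4 : J ^ 4 ≤ T := le_sup_right
  have hbrk : brk J ≤ T := by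
    refine Submodule.span_le.2 ?_
    rintro _ ⟨x, hx, q, hq, rfl⟩
    obtain ⟨a, ha⟩ := exists_lc hgen hx
    obtain ⟨y, hy, z, hz, rfl⟩ := Submodule.mem_sup.1 (sq_le_cc h (by omega) h2 heJ hgen hq)
    obtain ⟨g, rfl⟩ := (Submodule.mem_span_range_iff_exists_fun k).1 hy
    set u := Fintype.linearCombination k e a with hu
    set s := ∑ j, g j • cc e j
    have hsu : u * s - s * u ∈ T := by
      rw [hu, Fintype.linearCombination_apply, Finset.sum_mul_sum, Finset.sum_mul_sum,
        Finset.sum_comm (f := fun j i => (g j • cc e j) * (a i • e i)), ← Finset.sum_sub_distrib]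
      refine T.sum_mem fun i _ => ?_
      rw [← Finset.sum_sub_distrib]
      refine T.sum_mem fun j _ => ?_
      rw [smul_mul_smul_comm, smul_mul_smul_comm, mul_comm (g j), ← smul_sub]
      exact T.smul_mem _ (Submodule.mem_sup_left (Submodule.subset_span ⟨(i, j), rfl⟩))
    have e1 : x * (s + z) - (s + z) * x = (u * s - s * u) + ((x * z - z * x) +
        ((x - u) * s - s * (x - u))) := by
      simp only [mul_add, add_mul, mul_sub, sub_mul]
      abel
    rw [SetLike.mem_coe, e1]
    refine T.add_mem hsu (h4 (Submodule.add_mem _ (Submodule.sub_mem _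
      (Loc.mul_mem (i := 1) (by omega) (Loc.mem_one hx) hz)
      (Loc.mul_mem (j := 1) rfl hz (Loc.mem_one hx))) ?_))
    have hs : s ∈ J ^ 2 := Submodule.sum_mem _ fun j _ => Submodule.smul_mem _ _
      (Submodule.sub_mem _ (Loc.mul_mem (i := 1) (j := 1) rfl (Loc.mem_one (heJ _))
        (Loc.mem_one (heJ _))) (Loc.mul_mem (i := 1) (j := 1) rfl (Loc.mem_one (heJ _))
          (Loc.mem_one (heJ _))))
    exact Submodule.sub_mem _ (Loc.mul_mem rfl ha hs) (Loc.mul_mem rfl hs ha)
  intro w hw
  obtain ⟨c, hc, s, hs, rfl⟩ := Submodule.mem_sup.1 (h2 (h.anti (by norm_num) (by omega) hw))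
  obtain ⟨y, hy, r, hr, rfl⟩ := Submodule.mem_sup.1 (comm_le h heJ hgen hc)
  obtain ⟨g, rfl⟩ := (Submodule.mem_span_range_iff_exists_fun k).1 hy
  have hg : g = 0 := hind g (by
    have := Submodule.sub_mem _ hw (Submodule.add_mem _ (brk_le J hr) (h.anti (by norm_num)
      (show 3 ≤ m by omega) hs))
    rwa [show (∑ j, g j • cc e j) + r + s - (r + s) = ∑ j, g j • cc e j by abel] at this)
  simp only [hg, Pi.zero_apply, zero_smul, Finset.sum_const_zero, zero_add]
  exact T.add_mem (hbrk hr) (h4 (h.anti (by norm_num) hm hs))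

/-- The squares lie in a plane or on a line unless two elements span the cube. -/
theorem two_three_or_degenerate {f : B →ₗ[k] Triple k}
    (hf : ∀ q ∈ J ^ 2, q - ∑ j, f q j • cc e j ∈ J ^ 3) :
    Two J 3 ∨
      PlaneZero (((LinearMap.mul k B).compl₁₂ (Fintype.linearCombination k e)
        (Fintype.linearCombination k e)).compr₂ f) ∨
      LineImage (((LinearMap.mul k B).compl₁₂ (Fintype.linearCombination k e)
        (Fintype.linearCombination k e)).compr₂ f) := by
  classical
  set b := ((LinearMap.mul k B).compl₁₂ (Fintype.linearCombination k e)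
    (Fintype.linearCombination k e)).compr₂ f with hb
  let qv : Fin 3 → Fin 3 → B ⧸ J ^ 4 :=
    fun i j => (J ^ 4).mkQ (e i * cc e j - cc e j * e i)
  let Q := (J ^ 3).map (J ^ 4).mkQ
  by_cases hQ : finrank k Q ≤ 2
  · refine Or.inl ?_
    obtain ⟨W, hW, hW2⟩ : ∃ W : Fin 2 → B ⧸ J ^ 4, (∀ i, W i ∈ Q) ∧
        Q ≤ Submodule.span k (Set.range W) := by
      obtain ⟨n, hn⟩ : ∃ n, finrank k Q = n := ⟨_, rfl⟩
      let bQ := Module.finBasisOfFinrankEq k Q hn
      refine ⟨fun i => if hi : (i : ℕ) < n then (bQ ⟨i, hi⟩ : B ⧸ J ^ 4) else 0,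
        fun i => by dsimp only; split <;> simp, fun x hx => ?_⟩
      rw [show x = ((⟨x, hx⟩ : Q) : B ⧸ J ^ 4) from rfl, ← bQ.sum_repr ⟨x, hx⟩]
      simp only [Submodule.coe_sum, Submodule.coe_smul]
      refine Submodule.sum_mem _ fun i _ => Submodule.smul_mem _ _ (Submodule.subset_span
        ⟨⟨i, by omega⟩, ?_⟩)
      simp
    obtain ⟨u, hu, hu'⟩ := hW 0
    obtain ⟨v, hv, hv'⟩ := hW 1
    refine ⟨u, v, fun x hx => ?_⟩
    obtain ⟨g, hg⟩ := (Submodule.mem_span_range_iff_exists_fun k).1 (hW2 ⟨x, hx, rfl⟩)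
    refine mem_span_pair_sup.2 ⟨g 0, g 1, ?_⟩
    rw [← Submodule.Quotient.mk_eq_zero, ← Submodule.mkQ_apply, map_sub, map_sub, map_smul,
      map_smul, hu', hv', ← hg, Fin.sum_univ_two]
    abel
  refine Or.inr ?_
  let L : Dual k (B ⧸ J ^ 4) →ₗ[k] (Triple k →ₗ[k] Triple k) :=
    { toFun := fun ψ => LinearMap.pi fun j => ∑ i, ψ (qv i j) • LinearMap.proj i
      map_add' := fun ψ ψ' => LinearMap.ext fun x => funext fun j => by
        simp [add_smul, Finset.sum_add_distrib]
      map_smul' := fun c ψ => LinearMap.ext fun x => funext fun j => by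
        simp [Finset.mul_sum, mul_assoc] }
  have hL : ∀ ψ x j, L ψ x j = ∑ i, ψ (qv i j) * x i := fun ψ x j => by simp [L]
  refine linSyz (S := LinearMap.range L) ?_ ?_ ?_
  · rintro _ ⟨ψ, rfl⟩ x
    set u := Fintype.linearCombination k e x with hu
    have hu2 : u * u ∈ J ^ 2 := Loc.mul_mem (i := 1) (j := 1) rfl (Loc.mem_one (lc_mem heJ x))
      (Loc.mem_one (lc_mem heJ x))
    have hbx : b x x = f (u * u) := rfl
    have hd := hf _ hu2
    set c := f (u * u) with hc
    set s := ∑ j, c j • cc e j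
    have hmem : u * s - s * u ∈ J ^ 4 := by
      rw [show u * s - s * u = -(u * (u * u - s) - (u * u - s) * u) by
        simp only [mul_sub, sub_mul, mul_assoc]; abel]
      exact Submodule.neg_mem _ (Submodule.sub_mem _
        (mul_three_left (lc_mem heJ x) hd) (mul_three_right (lc_mem heJ x) hd))
    have h0 : (J ^ 4).mkQ (u * s - s * u) = ∑ i, ∑ j, (x i * c j) • qv i j := by
      rw [hu, Fintype.linearCombination_apply, Finset.sum_mul_sum, Finset.sum_mul_sum,
        Finset.sum_comm (f := fun j i => (c j • cc e j) * (x i • e i)),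
        ← Finset.sum_sub_distrib, map_sum]
      refine Finset.sum_congr rfl fun i _ => ?_
      rw [← Finset.sum_sub_distrib, map_sum]
      refine Finset.sum_congr rfl fun j _ => ?_
      rw [smul_mul_smul_comm, smul_mul_smul_comm, mul_comm (c j), ← smul_sub, map_smul]
    rw [Submodule.mkQ_apply, (Submodule.Quotient.mk_eq_zero _).2 hmem] at h0
    have h1 := congrArg ψ h0
    rw [map_zero, map_sum] at h1
    simp only [map_sum, map_smul, smul_eq_mul] at h1
    rw [hbx, h1, dotProduct, Finset.sum_comm]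
    refine Finset.sum_congr rfl fun j _ => ?_
    rw [hL, Finset.sum_mul]
    exact Finset.sum_congr rfl fun i _ => by ring
  · rintro _ ⟨ψ, rfl⟩
    rw [LinearMap.trace_eq_matrix_trace k (Pi.basisFun k (Fin 3)), Matrix.trace]
    simp only [Matrix.diag, LinearMap.toMatrix_apply, Pi.basisFun_repr, hL, Pi.basisFun_apply,
      Pi.single_apply, mul_ite, mul_one, mul_zero, Finset.sum_ite_eq', Finset.mem_univ, if_true]
    rw [← map_sum]
    refine (congrArg ψ ?_).trans (map_zero ψ)
    simp only [qv, ← map_sum]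
    rw [show ∑ i, (e i * cc e i - cc e i * e i) = 0 by
      simp [Fin.sum_univ_three, cc, mul_sub, sub_mul, mul_assoc]; abel, map_zero]
  · have hQle : Q ≤ Submodule.span k (Set.range fun ij : Fin 3 × Fin 3 => qv ij.1 ij.2) := by
      rintro _ ⟨w, hw, rfl⟩
      obtain ⟨y, hy, z, hz, rfl⟩ := Submodule.mem_sup.1 (cube_le h hm h2 heJ hgen hind hw)
      rw [map_add, show (J ^ 4).mkQ z = 0 from (Submodule.Quotient.mk_eq_zero _).2 hz, add_zero]
      obtain ⟨g, rfl⟩ := (Submodule.mem_span_range_iff_exists_fun k).1 hy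
      rw [map_sum]
      exact Submodule.sum_mem _ fun ij _ => by
        rw [map_smul]; exact Submodule.smul_mem _ _ (Submodule.subset_span ⟨ij, rfl⟩)
    have hker : LinearMap.ker L ≤ Q.dualAnnihilator := by
      intro ψ hψ
      rw [Submodule.mem_dualAnnihilator]
      intro w hw
      have hz : ∀ i j, ψ (qv i j) = 0 := fun i j => by
        have := congrFun (LinearMap.congr_fun (LinearMap.mem_ker.1 hψ) (Pi.single i 1)) j
        simpa [hL, Pi.single_apply] using this
      obtain ⟨g, rfl⟩ := (Submodule.mem_span_range_iff_exists_fun k).1 (hQle hw)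
      simp [hz]
    have h1 := LinearMap.finrank_range_add_finrank_ker L
    have h2' := Subspace.finrank_add_finrank_dualAnnihilator_eq Q
    have h3 := Submodule.finrank_mono hker
    rw [Subspace.dual_finrank_eq] at h1
    omega

/-- Values of the squares on a line give two elements spanning the cube, or a plane of zeros. -/
theorem two_three_or_plane_of_line {f : B →ₗ[k] Triple k}
    (hf : ∀ q ∈ J ^ 2, q - ∑ j, f q j • cc e j ∈ J ^ 3)
    (hline : LineImage (((LinearMap.mul k B).compl₁₂ (Fintype.linearCombination k e)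
      (Fintype.linearCombination k e)).compr₂ f)) :
    Two J 3 ∨ PlaneZero (((LinearMap.mul k B).compl₁₂ (Fintype.linearCombination k e)
      (Fintype.linearCombination k e)).compr₂ f) := by
  classical
  set lc := Fintype.linearCombination k e with hlc
  set b := ((LinearMap.mul k B).compl₁₂ lc lc).compr₂ f with hb
  have hJ : ∀ v, lc v ∈ J := lc_mem heJ
  obtain ⟨r, hr⟩ := hline
  by_cases hzero : ∀ x, b x x = 0
  · exact Or.inr (planeZero_of_ker (l := LinearMap.proj 0) (fun e0 => by
      simpa using LinearMap.congr_fun e0 (Pi.single 0 (1 : k))) fun v _ => hzero v)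
  obtain ⟨j₀, hj₀⟩ : ∃ j₀, r j₀ ≠ 0 := by
    by_contra hall
    push Not at hall
    refine hzero fun x => ?_
    obtain ⟨c, hc⟩ := hr x
    rw [hc, show r = 0 from funext hall, smul_zero]
  let qb : Triple k →ₗ[k] Triple k →ₗ[k] k := b.compr₂ ((r j₀)⁻¹ • LinearMap.proj j₀)
  have hq : ∀ x, b x x = qb x x • r := fun x => by
    obtain ⟨c, hc⟩ := hr x
    simp [qb, hc, mul_comm c, hj₀]
  let β := qb + qb.flip
  set R := ∑ j, r j • cc e j with hR
  have hsq : ∀ v, lc v * lc v - qb v v • R ∈ J ^ 3 := fun v => by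
    have h0 := hf _ (Loc.mul_mem (i := 1) (j := 1) rfl (Loc.mem_one (hJ v)) (Loc.mem_one (hJ v)))
    rw [show f (lc v * lc v) = qb v v • r from hq v] at h0
    rw [hR, Finset.smul_sum]
    simpa [Pi.smul_apply, smul_smul] using h0
  have hanti : ∀ u v, lc u * lc v + lc v * lc u - β u v • R ∈ J ^ 3 := fun u v => by
    have h0 := Submodule.sub_mem _ (hsq (u + v)) (Submodule.add_mem _ (hsq u) (hsq v))
    convert h0 using 1
    simp only [β, map_add, LinearMap.add_apply, LinearMap.flip_apply, add_mul, mul_add, add_smul]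
    abel
  have he : ∀ i, lc (Pi.single i 1) = e i := fun i => by
    simp [hlc, Fintype.linearCombination_apply_single]
  by_cases htwo : (2 : k) = 0
  · exfalso
    have hc : ∀ j, cc e j - β (Pi.single (j + 1) 1) (Pi.single (j + 2) 1) • R ∈ J ^ 3 := by
      intro j
      have h0 := hanti (Pi.single (j + 1) 1) (Pi.single (j + 2) 1)
      rw [he, he] at h0
      convert h0 using 1
      have e2 : e (j + 2) * e (j + 1) + e (j + 2) * e (j + 1) = 0 := by
        rw [← two_smul k, htwo, zero_smul]
      simp only [cc, sub_eq_add_neg, ← eq_neg_of_add_eq_zero_left e2]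
    set β₀ := β (Pi.single ((0 : Fin 3) + 1) 1) (Pi.single ((0 : Fin 3) + 2) 1)
    set β₁ := β (Pi.single ((1 : Fin 3) + 1) 1) (Pi.single ((1 : Fin 3) + 2) 1)
    have h01 := hind ![β₁, -β₀, 0] (by
      have := Submodule.sub_mem _ (Submodule.smul_mem _ β₁ (hc 0))
        (Submodule.smul_mem _ β₀ (hc 1))
      convert this using 1
      simp only [Fin.sum_univ_three, Matrix.cons_val_zero, Matrix.cons_val_one, Matrix.cons_val_two,
        Matrix.tail_cons, Matrix.head_cons]
      module)
    have hβ₀ : β₀ = 0 := by simpa using congrFun h01 1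
    have h0' := hind ![1, 0, 0] (by
      have := hc 0
      rw [show β (Pi.single ((0 : Fin 3) + 1) 1) (Pi.single ((0 : Fin 3) + 2) 1) = 0 from hβ₀,
        zero_smul, sub_zero] at this
      simpa [Fin.sum_univ_three] using this)
    simpa using congrFun h0' 0
  let π := (J ^ 4).mkQ
  have hπ0 : ∀ {w : B}, w ∈ J ^ 4 → π w = 0 := fun hw => (Submodule.Quotient.mk_eq_zero _).2 hw
  -- the common value commutes with the generators
  have hRc : ∀ v, π (R * lc v - lc v * R) = 0 := by
    have key : ∀ v, qb v v • π (R * lc v - lc v * R) = 0 := fun v => by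
      rw [← map_smul]
      refine hπ0 ?_
      rw [show qb v v • (R * lc v - lc v * R) =
        -((lc v * lc v - qb v v • R) * lc v - lc v * (lc v * lc v - qb v v • R)) by
          simp only [sub_mul, mul_sub, smul_mul_assoc, mul_smul_comm, smul_sub, mul_assoc]; abel]
      exact Submodule.neg_mem _ (Submodule.sub_mem _ (mul_three_right (hJ v) (hsq v))
        (mul_three_left (hJ v) (hsq v)))
    push Not at hzero
    obtain ⟨v₁, hv₁⟩ := hzero
    have hq1 : qb v₁ v₁ ≠ 0 := fun e0 => hv₁ (by rw [hq, e0, zero_smul])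
    intro v
    by_cases hv : qb v v = 0
    · obtain ⟨t, ht0, ht1⟩ := exists_ne_zero_ne_one (k := k)
      obtain ⟨s, hs⟩ : ∃ s : k, qb (v + s • v₁) (v + s • v₁) ≠ 0 := by
        by_contra hall
        push Not at hall
        have h1 := hall 1
        have h2' := hall t
        simp only [map_add, map_smul, LinearMap.add_apply, LinearMap.smul_apply, smul_eq_mul,
          hv, zero_add, one_mul] at h1 h2'
        refine hq1 ((mul_eq_zero.1 (show (t * (t - 1)) * qb v₁ v₁ = 0 from ?_)).resolve_left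
          (mul_ne_zero ht0 (sub_ne_zero.2 ht1)))
        linear_combination h2' - t * h1
      have h1 := (smul_eq_zero.1 (key _)).resolve_left hs
      have h2' := (smul_eq_zero.1 (key v₁)).resolve_left hq1
      rw [map_add lc, map_smul lc, mul_add, add_mul, mul_smul_comm, smul_mul_assoc,
        show R * lc v + s • (R * lc v₁) - (lc v * R + s • (lc v₁ * R)) =
          (R * lc v - lc v * R) + s • (R * lc v₁ - lc v₁ * R) by rw [smul_sub]; abel,
        map_add, map_smul, h2', smul_zero, add_zero] at h1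
      exact h1
    · exact (smul_eq_zero.1 (key v)).resolve_left hv
  have hbr : ∀ v j, π (lc v * cc e j - cc e j * lc v) =
      (2 * β v (Pi.single (j + 1) 1)) • π (R * e (j + 2)) -
        (2 * β v (Pi.single (j + 2) 1)) • π (R * e (j + 1)) := by
    intro v j
    have hR2 : ∀ i, π (R * e i + e i * R) = (2 : k) • π (R * e i) := fun i => by
      rw [show R * e i + e i * R = (2 : k) • (R * e i) - (R * lc (Pi.single i 1) -
        lc (Pi.single i 1) * R) by rw [he, two_smul]; abel, map_sub, hRc, sub_zero, map_smul]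
    set A := lc v * e (j + 1) + e (j + 1) * lc v - β v (Pi.single (j + 1) 1) • R with hA
    set A' := lc v * e (j + 2) + e (j + 2) * lc v - β v (Pi.single (j + 2) 1) • R with hA'
    have hAm : A ∈ J ^ 3 := by
      have := hanti v (Pi.single (j + 1) 1); rwa [he] at this
    have hA'm : A' ∈ J ^ 3 := by
      have := hanti v (Pi.single (j + 2) 1); rwa [he] at this
    have e1 : lc v * cc e j - cc e j * lc v =
        β v (Pi.single (j + 1) 1) • (R * e (j + 2) + e (j + 2) * R) -
        β v (Pi.single (j + 2) 1) • (R * e (j + 1) + e (j + 1) * R) +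
        ((A * e (j + 2) + e (j + 2) * A) - (e (j + 1) * A' + A' * e (j + 1))) := by
      simp only [hA, hA', cc, mul_add, add_mul, mul_sub, sub_mul, smul_mul_assoc, mul_smul_comm,
        smul_add, ← mul_assoc]
      abel
    rw [e1, map_add, map_sub, map_smul, map_smul, hR2, hR2, smul_smul, smul_smul,
      hπ0 (Submodule.sub_mem _ (Submodule.add_mem _ (mul_three_right (heJ _) hAm)
        (mul_three_left (heJ _) hAm)) (Submodule.add_mem _ (mul_three_left (heJ _) hA'm)
          (mul_three_right (heJ _) hA'm))), add_zero, mul_comm (2 : k), mul_comm (2 : k)]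
  have hspan : J ^ 3 ≤ Submodule.span k (Set.range fun i => R * e i) ⊔ J ^ (3 + 1) := by
    refine (cube_le h hm h2 heJ hgen hind).trans (sup_le (Submodule.span_le.2 ?_) le_sup_right)
    rintro _ ⟨⟨i, j⟩, rfl⟩
    have h0 := hbr (Pi.single i 1) j
    rw [he] at h0
    show e i * cc e j - cc e j * e i ∈ _
    rw [show e i * cc e j - cc e j * e i =
      ((2 * β (Pi.single i 1) (Pi.single (j + 1) 1)) • (R * e (j + 2)) -
        (2 * β (Pi.single i 1) (Pi.single (j + 2) 1)) • (R * e (j + 1))) +
      ((e i * cc e j - cc e j * e i) -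
        ((2 * β (Pi.single i 1) (Pi.single (j + 1) 1)) • (R * e (j + 2)) -
          (2 * β (Pi.single i 1) (Pi.single (j + 2) 1)) • (R * e (j + 1)))) by abel]
    refine Submodule.add_mem_sup (Submodule.sub_mem _
      (Submodule.smul_mem _ _ (Submodule.subset_span ⟨_, rfl⟩))
      (Submodule.smul_mem _ _ (Submodule.subset_span ⟨_, rfl⟩))) ?_
    refine (Submodule.Quotient.mk_eq_zero _).1 ?_
    show π _ = 0
    rw [map_sub, h0, map_sub, map_smul, map_smul, sub_self]
  by_cases hΦ : ∃ (v : Triple k) (l : Fin 3),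
      r (l + 1) * β v (Pi.single (l + 2) 1) - r (l + 2) * β v (Pi.single (l + 1) 1) ≠ 0
  · obtain ⟨v, l, hl⟩ := hΦ
    refine Or.inl (two_of_relation hspan l (a := fun l =>
      r (l + 1) * β v (Pi.single (l + 2) 1) - r (l + 2) * β v (Pi.single (l + 1) 1)) hl ?_)
    have h0 := hRc v
    rw [show R * lc v - lc v * R = -∑ j, r j • (lc v * cc e j - cc e j * lc v) by
      simp only [hR, Finset.sum_mul, Finset.mul_sum, smul_sub, Finset.sum_sub_distrib,
        smul_mul_assoc, mul_smul_comm, neg_sub], map_neg, neg_eq_zero, map_sum] at h0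
    simp only [map_smul, hbr] at h0
    refine (Submodule.Quotient.mk_eq_zero _).1 ?_
    rw [← Submodule.mkQ_apply, map_sum]
    refine (smul_eq_zero.1 (show (2 : k) • _ = (0 : B ⧸ J ^ 4) from ?_)).resolve_left htwo
    rw [← h0]
    simp only [Fin.sum_univ_three, map_smul, π]
    simp only [show (0 : Fin 3) + 1 = 1 from rfl, show (0 : Fin 3) + 2 = 2 from rfl,
      show (1 : Fin 3) + 1 = 2 from rfl, show (1 : Fin 3) + 2 = 0 from rfl,
      show (2 : Fin 3) + 1 = 0 from rfl, show (2 : Fin 3) + 2 = 1 from rfl]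
    simp only [smul_sub, smul_smul, show (3 : ℕ) + 1 = 4 from rfl]
    module
  push Not at hΦ
  refine Or.inr (planeZero_of_ker (l := (dotProductBilin k k r)) (fun e0 => hj₀ (by
    simpa using LinearMap.congr_fun e0 (Pi.single j₀ (1 : k)))) fun v hv => ?_)
  have hprop : ∀ i, r j₀ * β v (Pi.single i 1) = r i * β v (Pi.single j₀ 1) := by
    have h0 := hΦ v 0
    have h1 := hΦ v 1
    have h2' := hΦ v 2
    simp only [show (0 : Fin 3) + 1 = 1 from rfl, show (0 : Fin 3) + 2 = 2 from rfl,
      show (1 : Fin 3) + 1 = 2 from rfl, show (1 : Fin 3) + 2 = 0 from rfl,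
      show (2 : Fin 3) + 1 = 0 from rfl, show (2 : Fin 3) + 2 = 1 from rfl] at h0 h1 h2'
    intro i
    fin_cases i <;> fin_cases j₀ <;> simp only [Fin.zero_eta, Fin.mk_one, Fin.reduceFinMk] <;>
      first
        | rfl
        | linear_combination h0
        | linear_combination -h0
        | linear_combination h1
        | linear_combination -h1
        | linear_combination h2'
        | linear_combination -h2'
  have hvv : r j₀ * β v v = 0 := by
    conv_lhs => arg 2; arg 2; rw [← (Pi.basisFun k (Fin 3)).sum_repr v]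
    simp only [map_sum, map_smul, Pi.basisFun_repr, Pi.basisFun_apply, smul_eq_mul, Finset.mul_sum]
    have hsum : (∑ i, r i * v i) * β v (Pi.single j₀ 1) = 0 := by
      rw [show ∑ i, r i * v i = dotProductBilin k k r v from rfl, hv, zero_mul]
    rw [← hsum, Finset.sum_mul]
    exact Finset.sum_congr rfl fun i _ => by linear_combination v i * hprop i
  have hqv : qb v v = 0 := by
    have h0 : (2 : k) * qb v v = 0 := by
      rw [two_mul]
      exact (mul_eq_zero.1 hvv).resolve_left hj₀
    exact (mul_eq_zero.1 h0).resolve_left htwo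
  rw [hq, hqv, zero_smul]

end

/-- With three generators two elements span the square or the cube, if the fourth power is
non-zero. -/
theorem two_of_three [FiniteDimensional k B] [Infinite k] (h : Loc τ J m) (hm : 4 ≤ m)
    (h2 : J ^ 2 ≤ comm J ⊔ J ^ m) {e : Fin 3 → B} (heJ : ∀ i, e i ∈ J)
    (hgen : J ≤ Submodule.span k (Set.range e) ⊔ J ^ 2) : Two J 2 ∨ Two J 3 := by
  classical
  by_cases hrel : ∃ a : Triple k, a ≠ 0 ∧ ∑ j, a j • cc e j ∈ J ^ 3
  · obtain ⟨a, ha, hrel⟩ := hrel
    obtain ⟨l, hl⟩ := Function.ne_iff.1 ha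
    exact Or.inl (two_of_relation (sq_le_cc h (by omega) h2 heJ hgen) l hl hrel)
  push Not at hrel
  have hind : ∀ a : Triple k, ∑ j, a j • cc e j ∈ J ^ 3 → a = 0 := fun a ha => by
    by_contra hne; exact hrel a hne ha
  obtain ⟨f, hf⟩ := exists_coord h hm h2 heJ hgen hind
  set lc := Fintype.linearCombination k e with hlc
  set b := ((LinearMap.mul k B).compl₁₂ lc lc).compr₂ f with hb
  suffices hsuf : Two J 3 ∨ PlaneZero b by
    rcases hsuf with h3 | ⟨x, y, hxy, hz⟩
    · exact Or.inr h3
    obtain ⟨β, hβ1, hβ2⟩ := exists_basis_extend hxy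
    have hJ : ∀ v, lc v ∈ J := lc_mem heJ
    have hgen' : J ≤ Submodule.span k {lc x, lc y, lc (β 0)} ⊔ J ^ 2 := by
      refine hgen.trans (sup_le_sup (Submodule.span_le.2 ?_) le_rfl)
      rintro _ ⟨i, rfl⟩
      refine Submodule.mem_span_triple.2 ⟨β.repr (Pi.single i 1) 1, β.repr (Pi.single i 1) 2,
        β.repr (Pi.single i 1) 0, ?_⟩
      rw [← map_smul lc, ← map_smul lc, ← map_smul lc, ← map_add lc, ← map_add lc, ← hβ1, ← hβ2,
        show β.repr (Pi.single i 1) 1 • β 1 + β.repr (Pi.single i 1) 2 • β 2 +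
          β.repr (Pi.single i 1) 0 • β 0 = Pi.single i 1 by
          conv_rhs => rw [← β.sum_repr (Pi.single i 1), Fin.sum_univ_three]
          abel]
      simp [hlc, Fintype.linearCombination_apply_single]
    have hsq : ∀ v, b v v = 0 → lc v * lc v ∈ J ^ 3 := fun v hv => by
      have h0 := hf _ (Loc.mul_mem (i := 1) (j := 1) rfl (Loc.mem_one (hJ v)) (Loc.mem_one (hJ v)))
      rw [show f (lc v * lc v) = 0 from hv] at h0
      simpa using h0
    have hxx : lc x * lc x ∈ J ^ 3 := hsq x (by simpa using hz 1 0)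
    have hyy : lc y * lc y ∈ J ^ 3 := hsq y (by simpa using hz 0 1)
    have hxy' : lc x * lc y + lc y * lc x ∈ J ^ 3 := by
      have h0 := Submodule.sub_mem _ (hsq (x + y) (by simpa using hz 1 1))
        (Submodule.add_mem _ hxx hyy)
      convert h0 using 1
      simp only [map_add, add_mul, mul_add]
      abel
    refine two_of_plane h (hJ x) (hJ y) (hJ (β 0)) hgen' hxx hyy hxy' ?_
    have he' : J ≤ Submodule.span k (Set.range ![lc x, lc y, lc (β 0)]) ⊔ J ^ 2 := by
      refine hgen'.trans (sup_le_sup (Submodule.span_le.2 ?_) le_rfl)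
      intro v hv
      rcases hv with e0 | e0 | e0 <;> rw [SetLike.mem_coe, e0]
      exacts [Submodule.subset_span ⟨0, rfl⟩, Submodule.subset_span ⟨1, rfl⟩,
        Submodule.subset_span ⟨2, rfl⟩]
    refine (sq_le_cc h (by omega) h2 (e := ![lc x, lc y, lc (β 0)])
      (fun i => by fin_cases i <;> simp [hJ]) he').trans (sup_le_sup (Submodule.span_le.2 ?_) le_rfl)
    rintro _ ⟨j, rfl⟩
    refine Submodule.mem_span_triple.2 ?_
    fin_cases j
    · exact ⟨0, 0, 1, by simp [cc]⟩
    · exact ⟨0, -1, 0, by simp [cc]⟩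
    · exact ⟨1, 0, 0, by simp [cc]⟩
  rcases two_three_or_degenerate h hm h2 heJ hgen hind hf with h3 | hp | hl
  · exact Or.inl h3
  · exact Or.inr hp
  · exact two_three_or_plane_of_line h hm h2 heJ hgen hind hf hl

/-- An element of the radical outside the square does not annihilate the layer below the top. -/
theorem false_of_annihilator [FiniteDimensional k B] (h : Loc τ J m) (hm : 4 ≤ m)
    (h2 : J ^ 2 ≤ comm J ⊔ J ^ m) (hn : finrank k J = finrank k (J ^ 2 : Submodule k B) + 3)
    {v : B} (hvJ : v ∈ J) (hv2 : v ∉ J ^ 2) (hv0 : ∀ w ∈ J ^ (m - 1), v * w = 0) : False := by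
  classical
  have hSJ : Submodule.span k {v} ⊔ J ^ 2 ≤ J :=
    sup_le ((Submodule.span_singleton_le_iff_mem _ _).2 hvJ) (h.le_self (by norm_num))
  have hS : finrank k (Submodule.span k {v} ⊔ J ^ 2 : Submodule k B) =
      finrank k (J ^ 2 : Submodule k B) + 1 := by
    refine le_antisymm ((Submodule.finrank_add_le_finrank_add_finrank _ _).trans ?_) ?_
    · rw [finrank_span_singleton (fun e0 : v = 0 => hv2 (e0 ▸ Submodule.zero_mem _)), add_comm]
    · exact Submodule.finrank_lt_finrank_of_lt (lt_of_le_not_ge le_sup_right fun hle =>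
        hv2 (hle (Submodule.mem_sup_left (Submodule.mem_span_singleton_self v))))
  obtain ⟨y, hyJ, hy⟩ := exists_gen (n := 2) hSJ (by omega)
  set e : Fin 3 → B := Fin.cons v y with he
  have heJ : ∀ i, e i ∈ J := Fin.forall_fin_succ.2 ⟨hvJ, hyJ⟩
  have hgen : J ≤ Submodule.span k (Set.range e) ⊔ J ^ 2 := by
    refine hy.trans (sup_le ?_ (sup_le ?_ le_sup_right))
    · refine (Submodule.span_mono ?_).trans le_sup_left
      rintro _ ⟨i, rfl⟩
      exact ⟨i.succ, by simp [he]⟩
    · exact ((Submodule.span_singleton_le_iff_mem v (Submodule.span k (Set.range e))).2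
        (Submodule.subset_span ⟨0, by simp [he]⟩)).trans le_sup_left
  have he0 : e 0 = v := rfl
  have he1 : e 1 = y 0 := rfl
  have he2 : e 2 = y 1 := rfl
  have hc0 : cc e 0 ∈ J ^ 2 := Submodule.sub_mem _
    (Loc.mul_mem (i := 1) (j := 1) rfl (Loc.mem_one (heJ _)) (Loc.mem_one (heJ _)))
    (Loc.mul_mem (i := 1) (j := 1) rfl (Loc.mem_one (heJ _)) (Loc.mem_one (heJ _)))
  set g : B →ₗ[k] k := τ.comp (LinearMap.mulLeft k (cc e 0)) with hg
  have hcomb : ∀ q ∈ J ^ 2, ∃ a : k, ∀ w ∈ J ^ (m - 2), τ (q * w) = a * g w := by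
    intro q hq
    obtain ⟨y', hy', z, hz, rfl⟩ := Submodule.mem_sup.1 (sq_le_cc h (by omega) h2 heJ hgen hq)
    obtain ⟨a, rfl⟩ := (Submodule.mem_span_range_iff_exists_fun k).1 hy'
    refine ⟨a 0, fun w hw => ?_⟩
    have hw0 : ∀ u ∈ J, τ (v * u * w) = 0 ∧ τ (u * v * w) = 0 := fun u hu => by
      refine ⟨?_, ?_⟩
      · rw [mul_assoc, hv0 _ (Loc.mul_mem (i := 1) (by omega) (Loc.mem_one hu) hw), map_zero]
      · rw [mul_assoc, h.symm, mul_assoc, hv0 _ (Loc.mul_mem (j := 1) (by omega) hw
          (Loc.mem_one hu)), map_zero]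
    have e1 : τ (cc e 1 * w) = 0 := by
      rw [show cc e 1 = e 2 * v - v * e 2 by simp [cc, he], sub_mul, map_sub,
        (hw0 _ (heJ 2)).1, (hw0 _ (heJ 2)).2, sub_zero]
    have e2 : τ (cc e 2 * w) = 0 := by
      rw [show cc e 2 = v * e 1 - e 1 * v by simp [cc, he], sub_mul, map_sub,
        (hw0 _ (heJ 1)).1, (hw0 _ (heJ 1)).2, sub_zero]
    rw [add_mul, map_add, h.eq_zero (Nat.lt_succ_self m) (Loc.mul_mem (by omega) hz hw), map_zero,
      add_zero, Fin.sum_univ_three, add_mul, add_mul, map_add, map_add, smul_mul_assoc,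
      smul_mul_assoc, smul_mul_assoc, map_smul, map_smul, map_smul, e1, e2]
    simp [hg]
  obtain ⟨w₀, hw₀, hgw₀⟩ : ∃ w ∈ J ^ (m - 2), g w ≠ 0 := by
    by_contra hall
    push Not at hall
    refine h.top ((Submodule.eq_bot_iff _).2 fun s hs => h.top_inj hs ?_)
    have hle : J ^ 2 * J ^ (m - 2) ≤ LinearMap.ker τ := Submodule.mul_le.2 fun q hq w hw => by
      obtain ⟨a, ha⟩ := hcomb q hq
      rw [LinearMap.mem_ker, ha w hw, hall w hw, mul_zero]
    rw [← pow_add, show 2 + (m - 2) = m by omega] at hle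
    exact hle hs
  choose u hu using fun i j : Fin 2 => hcomb (y i * y j)
    (Loc.mul_mem (i := 1) (j := 1) rfl (Loc.mem_one (hyJ i)) (Loc.mem_one (hyJ j)))
  have hu1 : u 0 1 - u 1 0 = 1 := by
    refine mul_right_cancel₀ hgw₀ ?_
    rw [sub_mul, ← hu 0 1 w₀ hw₀, ← hu 1 0 w₀ hw₀, ← map_sub, ← sub_mul, one_mul]
    simp [hg, cc, he1, he2]
  obtain ⟨w', hw', l₀, hl₀⟩ : ∃ w' ∈ J ^ (m - 3), ∃ l, g (y l * w') ≠ 0 := by
    by_contra hall
    push Not at hall
    refine hgw₀ ?_
    have hle : J ^ 1 * J ^ (m - 3) ≤ LinearMap.ker g := Submodule.mul_le.2 fun x hx w hw => by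
      rw [pow_one] at hx
      obtain ⟨a, ha⟩ := exists_lc hgen hx
      set z := x - Fintype.linearCombination k e a
      rw [show x = Fintype.linearCombination k e a + z by simp [z], add_mul, LinearMap.mem_ker,
        map_add, Fintype.linearCombination_apply, Fin.sum_univ_three, add_mul, add_mul, map_add,
        map_add, smul_mul_assoc, smul_mul_assoc, smul_mul_assoc, map_smul, map_smul, map_smul]
      have e0 : g (e 0 * w) = 0 := by
        show τ (cc e 0 * (v * w)) = 0
        rw [h.symm, mul_assoc, hv0 _ (Loc.mul_mem (by omega) hw hc0), map_zero]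
      have ez : g (z * w) = 0 := by
        show τ (cc e 0 * (z * w)) = 0
        rw [h.eq_zero (Nat.lt_succ_self m) (Loc.mul_mem (i := 2) (j := m - 1) (by omega) hc0
          (Loc.mul_mem (i := 2) (by omega) ha hw)), map_zero]
      have h1 : g (e 1 * w) = 0 := by simpa [he1] using hall w hw 0
      have h2' : g (e 2 * w) = 0 := by simpa [he2] using hall w hw 1
      simp [e0, ez, h1, h2']
    rw [← pow_add, show 1 + (m - 3) = m - 2 by omega] at hle
    exact hle hw₀
  have key : ∀ i j l, u i j * g (y l * w') = u j l * g (w' * y i) := by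
    intro i j l
    rw [← hu i j _ (Loc.mul_mem (i := 1) (by omega) (Loc.mem_one (hyJ l)) hw'),
      ← hu j l _ (Loc.mul_mem (j := 1) (by omega) hw' (Loc.mem_one (hyJ i))), mul_assoc (y i),
      h.symm (y i)]
    simp only [mul_assoc]
  set T : Fin 2 → k := fun j => u j l₀ / g (y l₀ * w') with hT
  have huT : ∀ i j, u i j = g (w' * y i) * T j := fun i j => by
    rw [hT, ← mul_div_assoc, eq_div_iff hl₀, key, mul_comm]
  obtain ⟨i₀, hi₀⟩ : ∃ i, g (w' * y i) ≠ 0 := by
    by_contra hall
    push Not at hall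
    rw [huT, huT, hall, hall] at hu1
    simp at hu1
  have hTj : ∀ j, T j * g (y l₀ * w') = g (w' * y j) * T l₀ := fun j => by
    have h0 := key i₀ j l₀
    rw [huT, huT] at h0
    refine mul_left_cancel₀ hi₀ ?_
    linear_combination h0
  refine one_ne_zero (α := k) ?_
  rw [← hu1, huT, huT]
  refine (mul_eq_zero.1 (show (g (w' * y 0) * T 1 - g (w' * y 1) * T 0) * g (y l₀ * w') = 0
    from ?_)).resolve_right hl₀
  linear_combination g (w' * y 0) * hTj 1 - g (w' * y 1) * hTj 0

/-- With three generators the radical has dimension at most seven. -/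
theorem finrank_le_of_three [FiniteDimensional k B] [Infinite k] (h : Loc τ J m)
    (hn : finrank k J = finrank k (J ^ 2 : Submodule k B) + 3) : finrank k J ≤ 7 := by
  classical
  have htop := h.finrank_top_le
  rcases Nat.lt_or_ge m 3 with hm3 | hm3
  · have h2 : finrank k (J ^ 2 : Submodule k B) ≤ 1 := by
      rcases Nat.lt_or_ge m 2 with hm2 | hm2
      · rw [show J ^ 2 = ⊥ from (Submodule.eq_bot_iff _).2 fun x hx => h.eq_zero hm2 hx,
          finrank_bot]
        omega
      · obtain rfl : m = 2 := by omega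
        exact htop
    omega
  have hle : comm J ⊔ J ^ m ≤ J ^ 2 :=
    sup_le (Blocks.Dihedral.commSpan_le_sq J) (h.anti (by norm_num) (by omega))
  have h2 : J ^ 2 ≤ comm J ⊔ J ^ m := (Submodule.eq_of_le_of_finrank_le hle (by
    have := h.finrank_comm_sup_top
    have := h.codim
    omega)).ge
  obtain ⟨e, heJ, hgen⟩ := exists_gen (n := 3) (h.le_self (by norm_num : 1 ≤ 2)) hn
  rcases Nat.lt_or_ge m 4 with hm4 | hm4
  · obtain rfl : m = 3 := by omega
    have := (Submodule.finrank_mono (sq_le_cc h le_rfl h2 heJ hgen)).trans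
      (Submodule.finrank_add_le_finrank_add_finrank _ _)
    have hc : finrank k (Submodule.span k (Set.range (cc e))) ≤ 3 :=
      (finrank_range_le_card (R := k) (cc e)).trans (by simp)
    omega
  exfalso
  have hall : ∀ j, 3 ≤ j → Two J j := by
    rcases two_of_three h hm4 h2 heJ hgen with ht | ht
    · exact fun j hj => two_stays_two ht j (by omega)
    · exact two_stays_three ht
  obtain ⟨v, hvJ, hv2, hv0⟩ := exists_annihilator h (by omega) (hall _ (by omega))
    (S := J ^ 2) (by omega)
  exact false_of_annihilator h hm4 h2 hn hvJ hv2 hv0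

end Cfsg.Agent.BlockChar.CentreFive
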